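import Groth.Prelude.Def_W4bk4boschfrg79
import Mathlib.RingTheory.AdicCompletion.Completeness
import Mathlib.RingTheory.Polynomial.Basic
import Mathlib.RingTheory.Localization.Ideal

/-!
Basic facts on restricted power series `R⟨ζ₁, …, ζ_n⟩`: completeness, truncations, torsion.
-/

set_option autoImplicit false

namespace Groth.Agent.TopFT

open AdicRing MvPolynomial

universe u v w

section General

variable {Q : Type v} [CommRing Q] (J : Ideal Q)

/-- The kernel of `evalₐ` is the power of the ideal. -/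
theorem ker_evalₐ (hJ : J.FG) (n : ℕ) :
    RingHom.ker (AdicCompletion.evalₐ J n) = (J.map (algebraMap Q (AdicCompletion J Q))) ^ n := by
  ext x
  have h1 : x ∈ RingHom.ker (AdicCompletion.evalₐ J n) ↔ AdicCompletion.eval J Q n x = 0 := by
    rw [RingHom.mem_ker]
    constructor
    · intro h
      rw [← AdicCompletion.factor_evalₐ_eq_eval J x (by simp), h, map_zero]
    · intro h
      rw [← AdicCompletion.factor_eval_eq_evalₐ J x (by simp), h, map_zero]
  rw [h1, ← LinearMap.mem_ker, ← AdicCompletion.pow_smul_top_eq_ker_eval hJ, Ideal.smul_top_eq_map,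
    Ideal.map_pow, Submodule.restrictScalars_mem]

theorem isAdicComplete_map (hJ : J.FG) :
    IsAdicComplete (J.map (algebraMap Q (AdicCompletion J Q))) (AdicCompletion J Q) :=
  (IsAdicComplete.map_algebraMap_iff ..).2 (AdicCompletion.isAdicComplete hJ)

/-- The reduction of a completion modulo `J` is `Q/J`. -/
noncomputable def quotientEquiv (hJ : J.FG) :
    (AdicCompletion J Q ⧸ J.map (algebraMap Q (AdicCompletion J Q))) ≃+* Q ⧸ J :=
  (Ideal.quotEquivOfEq ((pow_one (J.map (algebraMap Q (AdicCompletion J Q)))).symm.trans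
    (ker_evalₐ J hJ 1).symm)).trans
    ((RingHom.quotientKerEquivOfSurjective
      (f := ((AdicCompletion.evalₐ J 1 : AdicCompletion J Q →ₐ[Q] Q ⧸ J ^ 1) :
        AdicCompletion J Q →+* Q ⧸ J ^ 1)) (AdicCompletion.surjective_evalₐ J 1)).trans
    (Ideal.quotEquivOfEq (pow_one J)))

end General

variable {R : Type u} [CommRing R] {I : Ideal R}

theorem ideal_fg (hR : IsBase R I) : I.FG := by
  rcases hR.2 with ⟨h, -⟩ | ⟨-, -, -, t, -, rfl⟩
  · exact IsNoetherian.noetherian I
  · exact Submodule.fg_span_singleton t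

theorem map_C_eq (n : ℕ) :
    (I.map (C : R →+* MvPolynomial (Fin n) R)).map
      (algebraMap (MvPolynomial (Fin n) R) (RPow R I n)) = I.map (algebraMap R (RPow R I n)) := by
  rw [Ideal.map_map, IsScalarTower.algebraMap_eq R (MvPolynomial (Fin n) R) (RPow R I n)]
  rfl

theorem isAdicComplete_rPow (hI : I.FG) (n : ℕ) :
    IsAdicComplete (I.map (algebraMap R (RPow R I n))) (RPow R I n) := by
  rw [← map_C_eq]
  exact isAdicComplete_map _ (hI.map _)

theorem ker_evalₐ_rPow (hI : I.FG) (n m : ℕ) :
    RingHom.ker (AdicCompletion.evalₐ (I.map (C : R →+* MvPolynomial (Fin n) R)) m) =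
      (I.map (algebraMap R (RPow R I n))) ^ m := by
  rw [ker_evalₐ _ (hI.map _), map_C_eq]

theorem mem_ker_map_mk {n : ℕ} {a : MvPolynomial (Fin n) R}
    (ha : a ∈ (I.map (C : R →+* MvPolynomial (Fin n) R)) ^ 1) :
    MvPolynomial.map (Ideal.Quotient.mk I) a = 0 := by
  rw [pow_one] at ha
  rw [← RingHom.mem_ker, MvPolynomial.ker_map, Ideal.mk_ker]
  exact ha

/-- The polynomial part of the reduction. -/
noncomputable def redAux (I : Ideal R) (n : ℕ) :
    MvPolynomial (Fin n) R ⧸ (I.map (C : R →+* MvPolynomial (Fin n) R)) ^ 1 →+*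
      MvPolynomial (Fin n) (R ⧸ I) :=
  Ideal.Quotient.lift _ (MvPolynomial.map (Ideal.Quotient.mk I)) fun _ ha => mem_ker_map_mk ha

/-- Reduction of restricted power series modulo `I`. -/
noncomputable def red (I : Ideal R) (n : ℕ) : RPow R I n →+* MvPolynomial (Fin n) (R ⧸ I) :=
  (redAux I n).comp
    (AdicCompletion.evalₐ (I.map (C : R →+* MvPolynomial (Fin n) R)) 1 :
      RPow R I n →+* _ ⧸ _)

theorem red_surjective (n : ℕ) : Function.Surjective (red I n) :=
  (Ideal.Quotient.lift_surjective_of_surjective _ _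
    (MvPolynomial.map_surjective _ Ideal.Quotient.mk_surjective) : Function.Surjective (redAux I n)).comp
    (AdicCompletion.surjective_evalₐ _ 1)

theorem red_algebraMap (n : ℕ) (p : MvPolynomial (Fin n) R) :
    red I n (algebraMap _ (RPow R I n) p) = MvPolynomial.map (Ideal.Quotient.mk I) p := by
  show redAux I n (AdicCompletion.evalₐ _ 1 (algebraMap _ (RPow R I n) p)) = _
  rw [AlgHom.commutes]
  rfl

theorem red_algebraMap' (n : ℕ) (r : R) :
    red I n (algebraMap R (RPow R I n) r) = C (Ideal.Quotient.mk I r) := by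
  rw [IsScalarTower.algebraMap_apply R (MvPolynomial (Fin n) R) (RPow R I n), red_algebraMap]
  simp [MvPolynomial.algebraMap_eq]

theorem ker_red (hI : I.FG) (n : ℕ) :
    RingHom.ker (red I n) = I.map (algebraMap R (RPow R I n)) := by
  have h := (ker_evalₐ_rPow hI n 1).trans (pow_one _)
  refine le_antisymm (fun x hx => ?_) (Ideal.map_le_iff_le_comap.2 fun r hr => ?_)
  · rw [← h, RingHom.mem_ker]
    obtain ⟨p, hp⟩ := Ideal.Quotient.mk_surjective (AdicCompletion.evalₐ (I.map
      (C : R →+* MvPolynomial (Fin n) R)) 1 x)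
    rw [← hp, Ideal.Quotient.eq_zero_iff_mem, pow_one, ← Ideal.mk_ker (I := I),
      ← MvPolynomial.ker_map, RingHom.mem_ker]
    rw [RingHom.mem_ker] at hx
    change redAux I n (AdicCompletion.evalₐ _ 1 x) = 0 at hx
    rw [← hp, redAux, Ideal.Quotient.lift_mk] at hx
    exact hx
  · rw [Ideal.mem_comap, RingHom.mem_ker, red_algebraMap', Ideal.Quotient.eq_zero_iff_mem.2 hr,
      map_zero]

/-- A non-zero-divisor generating the ideal stays one on restricted power series. -/
theorem mem_nonZeroDivisors_algebraMap [IsDomain R] {t : R} (ht : t ≠ 0) (n : ℕ) :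
    algebraMap R (RPow R (Ideal.span {t}) n) t ∈
      nonZeroDivisors (RPow R (Ideal.span {t}) n) := by
  rw [mem_nonZeroDivisors_iff_right]
  intro x hx
  refine AdicCompletion.induction_on _ _ x (p := fun x =>
    x * algebraMap R (RPow R (Ideal.span {t}) n) t = 0 → x = 0) (fun a ha => ?_) hx
  refine AdicCompletion.mk_zero_of _ _ _ ⟨0, fun m _ => ⟨m + 1, by omega, m, le_rfl, ?_⟩⟩
  have h := congrArg (fun x => AdicCompletion.evalₐ _ (m + 1) x) ha
  rw [IsScalarTower.algebraMap_apply R (MvPolynomial (Fin n) R) (RPow R (Ideal.span {t}) n)] at h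
  simp only [map_mul, map_zero, AdicCompletion.evalₐ_mk, AlgHom.commutes] at h
  rw [Ideal.Quotient.algebraMap_eq, ← map_mul, Ideal.Quotient.eq_zero_iff_mem, ← Ideal.map_pow,
    Ideal.span_singleton_pow, Ideal.map_span, Set.image_singleton, Ideal.mem_span_singleton,
    MvPolynomial.algebraMap_eq] at h
  rw [smul_eq_mul, Ideal.mul_top, ← Ideal.map_pow, Ideal.span_singleton_pow, Ideal.map_span,
    Set.image_singleton, Ideal.mem_span_singleton]
  rw [pow_succ, map_mul] at h
  exact (mul_dvd_mul_iff_right (C_ne_zero.2 ht)).1 h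

end Groth.Agent.TopFT
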