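import Mathlib.Data.Finsupp.MonomialOrder
import Mathlib.Data.Finsupp.PWO
import Mathlib.RingTheory.MvPolynomial.Basic
import Mathlib.RingTheory.Noetherian.Nilpotent
import Mathlib.RingTheory.Valuation.ValuationRing
import Mathlib.Order.WellQuasiOrder

/-!
Division with respect to a monomial order modulo nilpotent coefficients: submodules of free modules over
`W[x₁, …, x_k]`, for `W` a chain ring whose non-units are nilpotent, which are "saturated" with respect to
`W` are finitely generated.
-/

set_option autoImplicit false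

namespace Groth.Agent.TopFT

open MvPolynomial

universe u

variable {W : Type u} [CommRing W]

/-- In a chain ring a finite family has a common factor with a unit quotient. -/
theorem exists_content [Nontrivial W] [PreValuationRing W] {ι : Type*} (r : ι → W) (S : Finset ι)
    (hS : ∃ i ∈ S, r i ≠ 0) :
    ∃ (c : W) (v : ι → W), c ≠ 0 ∧ (∀ i ∈ S, r i = c * v i) ∧ ∃ i ∈ S, IsUnit (v i) := by
  classical
  obtain ⟨i₀, hi₀, hne⟩ := hS
  have key : ∀ T : Finset ι, T.Nonempty → ∃ i ∈ T, ∀ j ∈ T, r i ∣ r j := by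
    intro T hT
    induction T using Finset.cons_induction with
    | empty => exact absurd hT Finset.not_nonempty_empty
    | cons a T ha ih =>
      rcases T.eq_empty_or_nonempty with rfl | hT'
      · exact ⟨a, by simp, fun j hj => by simp_all⟩
      obtain ⟨i, hi, hij⟩ := ih hT'
      obtain ⟨c, h | h⟩ := PreValuationRing.cond (r i) (r a)
      · refine ⟨i, Finset.mem_cons_of_mem hi, fun j hj => ?_⟩
        rcases Finset.mem_cons.1 hj with rfl | hj
        · exact ⟨c, h.symm⟩
        · exact hij j hj
      · refine ⟨a, Finset.mem_cons_self a T, fun j hj => ?_⟩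
        rcases Finset.mem_cons.1 hj with rfl | hj
        · exact dvd_rfl
        · exact (Dvd.intro c h).trans (hij j hj)
  obtain ⟨i, hi, hij⟩ := key S ⟨i₀, hi₀⟩
  have hri : r i ≠ 0 := fun h => hne (by simpa [h] using hij i₀ hi₀)
  choose v hv using hij
  refine ⟨r i, fun j => if h : j ∈ S then if j = i then 1 else v j h else 0, hri, fun j hj => ?_,
    i, hi, by simp [hi]⟩
  simp only [dif_pos hj]
  split_ifs with h
  · rw [h, mul_one]
  · exact hv j hj

variable {s k : ℕ}

/-- Coefficients of a vector of polynomials. -/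
noncomputable abbrev co (y : Fin s → MvPolynomial (Fin k) W) (m : Fin s × (Fin k →₀ ℕ)) : W :=
  (y m.1).coeff m.2

/-- The vector with a single monomial. -/
noncomputable abbrev em (m : Fin s × (Fin k →₀ ℕ)) (a : W) : Fin s → MvPolynomial (Fin k) W :=
  Pi.single m.1 (monomial m.2 a)

theorem eq_sum_em (y : Fin s → MvPolynomial (Fin k) W) :
    y = ∑ i, ∑ α ∈ (y i).support, em (i, α) (co y (i, α)) := by
  conv_lhs => rw [← Finset.univ_sum_single y]
  refine Finset.sum_congr rfl fun i _ => ?_
  conv_lhs => rw [(y i).as_sum]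
  exact map_sum (AddMonoidHom.single (fun _ : Fin s => MvPolynomial (Fin k) W) i) _ _

/-- The key finiteness: `W` is a chain ring whose non-units are nilpotent. -/
theorem fg_of_saturated_mod [Nontrivial W] [PreValuationRing W]
    (hW : ∀ x : W, ¬IsUnit x → IsNilpotent x)
    (N : Submodule (MvPolynomial (Fin k) W) (Fin s → MvPolynomial (Fin k) W))
    (hN : ∀ (c : W) (y : Fin s → MvPolynomial (Fin k) W), c ≠ 0 → c • y ∈ N →
      ∃ n ∈ N, ∀ m, ¬IsUnit (co (y - n) m)) :
    N.FG := by
  classical
  have : IsLocalRing W := ValuationRing.isLocalRing W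
  let mo : MonomialOrder (Fin k) := MonomialOrder.lex
  let key : Fin s × (Fin k →₀ ℕ) → Fin s ×ₗ mo.syn := fun m => toLex (m.1, mo.toSyn m.2)
  have : WellFoundedLT (Fin s ×ₗ mo.syn) := inferInstance
  have hkey : Function.Injective key := fun a b h => by
    have := congrArg ofLex h
    simp only [key, ofLex_toLex, Prod.mk.injEq, EmbeddingLike.apply_eq_iff_eq] at this
    exact Prod.ext this.1 this.2
  -- leading positions
  let L : Set (Fin s × (Fin k →₀ ℕ)) :=
    {m | ∃ n ∈ N, co n m = 1 ∧ ∀ m', key m < key m' → ¬IsUnit (co n m')}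
  have hLfin : ∀ i, {α | Minimal (· ∈ {α | (i, α) ∈ L}) α}.Finite := fun i =>
    (setOfPred_minimal_antichain _).finite_of_partiallyWellOrderedOn
      ((Set.isPWO_of_wellQuasiOrderedLE _).mono (setOfPred_minimal_subset _))
  let L₀ : Set (Fin s × (Fin k →₀ ℕ)) :=
    ⋃ i, (fun α => (i, α)) '' {α | Minimal (· ∈ {α | (i, α) ∈ L}) α}
  have hL₀ : L₀.Finite := Set.finite_iUnion fun i => (hLfin i).image _
  have hL₀L : ∀ m ∈ L₀, m ∈ L := by
    intro m hm
    obtain ⟨i, α, hα, rfl⟩ : ∃ i, ∃ α, Minimal (· ∈ {α | (i, α) ∈ L}) α ∧ (i, α) = m := by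
      simpa [L₀] using hm
    exact hα.1
  choose g hgN hg1 hghigh using fun m : L₀ => hL₀L m.1 m.2
  have : Fintype L₀ := hL₀.fintype
  let G := Submodule.span (MvPolynomial (Fin k) W) (Set.range g)
  suffices N ≤ G by
    rw [le_antisymm this (Submodule.span_le.2 (Set.range_subset_iff.2 hgN))]
    exact Submodule.fg_span (Set.finite_range g)
  -- the nilpotent ideal of the bad coefficients
  let bad : Set W := {x | ∃ (m₀ : L₀) (i : Fin s) (α : Fin k →₀ ℕ),
    α ∈ (g m₀ i).support ∧ key m₀.1 < key (i, α) ∧ x = co (g m₀) (i, α)}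
  have hbad : bad.Finite := by
    refine Set.Finite.subset (s := Set.range fun p : (Σ m₀ : L₀, Σ i : Fin s, ↥(g m₀ i).support) =>
      co (g p.1) (p.2.1, p.2.2.1)) (Set.finite_range _) ?_
    rintro x ⟨m₀, i, α, hα, -, rfl⟩
    exact ⟨⟨m₀, i, α, hα⟩, rfl⟩
  obtain ⟨K, hK⟩ : IsNilpotent (Ideal.span bad) := by
    rw [Ideal.FG.isNilpotent_iff_le_nilradical (I := Ideal.span bad) (Submodule.fg_span hbad),
      Ideal.span_le]
    rintro x ⟨m₀, i, α, -, hlt, rfl⟩
    exact hW _ (hghigh m₀ _ hlt)
  let Std : Submodule W (Fin s → MvPolynomial (Fin k) W) :=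
    { carrier := {y | ∀ m ∈ L, co y m = 0}
      add_mem' := fun {a b} ha hb m hm => by
        show (a m.1 + b m.1).coeff m.2 = 0
        rw [MvPolynomial.coeff_add, show (a m.1).coeff m.2 = 0 from ha m hm,
          show (b m.1).coeff m.2 = 0 from hb m hm, add_zero]
      zero_mem' := fun m _ => by simp [co]
      smul_mem' := fun c a ha m hm => by
        show (c • a m.1).coeff m.2 = 0
        rw [MvPolynomial.coeff_smul, show (a m.1).coeff m.2 = 0 from ha m hm, smul_zero] }
  let T : Submodule W (Fin s → MvPolynomial (Fin k) W) := G.restrictScalars W ⊔ Std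
  let J₀ := Ideal.span bad
  have hshift : ∀ (γ : Fin k →₀ ℕ) (a b : Fin s × (Fin k →₀ ℕ)), key a < key b →
      key (a.1, γ + a.2) < key (b.1, γ + b.2) := fun γ a b h => by
    simp only [key, map_add, Prod.Lex.toLex_lt_toLex] at h ⊢
    rcases h with h | ⟨h1, h2⟩
    · exact Or.inl h
    · exact Or.inr ⟨h1, add_lt_add_right h2 _⟩
  have hem : ∀ (x : Fin s ×ₗ mo.syn) (m : Fin s × (Fin k →₀ ℕ)), key m = x → ∀ a : W,
      em m a ∈ T ⊔ J₀ • (⊤ : Submodule W _) := by
    intro x
    induction x using WellFoundedLT.induction with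
    | _ x ih =>
      intro m hm a
      by_cases hmL : m ∈ L
      · obtain ⟨α₀, hα₀, hmin⟩ := (Set.isPWO_of_wellQuasiOrderedLE {α | (m.1, α) ∈ L}).exists_le_minimal
          (show m.2 ∈ {α | (m.1, α) ∈ L} from hmL)
        let m₀ : L₀ := ⟨(m.1, α₀), Set.mem_iUnion.2 ⟨m.1, α₀, hmin, rfl⟩⟩
        obtain ⟨γ, hγ⟩ : ∃ γ, m.2 = γ + α₀ := ⟨m.2 - α₀, (tsub_add_cancel_of_le hα₀).symm⟩
        -- `x^γ g` expanded
        have hexp : (monomial γ a) • g m₀ =
            ∑ i, ∑ α ∈ (g m₀ i).support, em (i, γ + α) (a * co (g m₀) (i, α)) := by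
          conv_lhs => rw [eq_sum_em (g m₀)]
          simp only [Finset.smul_sum, em]
          refine Finset.sum_congr rfl fun i _ => Finset.sum_congr rfl fun α _ => ?_
          rw [← Pi.single_smul, smul_eq_mul, monomial_mul]
        let i₀ := m.1
        have hmem : α₀ ∈ (g m₀ i₀).support := by
          rw [MvPolynomial.mem_support_iff]
          show co (g m₀) m₀.1 ≠ 0
          rw [hg1]
          exact one_ne_zero
        have hmain : em m a = (monomial γ a) • g m₀ -
            (∑ α ∈ ((g m₀ i₀).support.erase α₀), em (i₀, γ + α) (a * co (g m₀) (i₀, α)) +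
              ∑ i ∈ Finset.univ.erase i₀, ∑ α ∈ (g m₀ i).support,
                em (i, γ + α) (a * co (g m₀) (i, α))) := by
          rw [hexp, ← Finset.add_sum_erase _ _ (Finset.mem_univ i₀),
            ← Finset.add_sum_erase _ _ hmem]
          have h1 : co (g m₀) (i₀, α₀) = 1 := hg1 m₀
          have h2 : em m a = em (i₀, γ + α₀) (a * co (g m₀) (i₀, α₀)) := by
            rw [h1, mul_one, ← hγ]
          rw [h2]
          abel
        rw [hmain]
        have hother : ∀ (i : Fin s) (α : Fin k →₀ ℕ), α ∈ (g m₀ i).support → (i, α) ≠ (i₀, α₀) →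
            em (i, γ + α) (a * co (g m₀) (i, α)) ∈ T ⊔ J₀ • (⊤ : Submodule W _) := by
          intro i α hα hne
          rcases lt_trichotomy (key (i, α)) (key m₀.1) with hlt | heq | hgt
          · refine ih (key (i, γ + α)) ?_ _ rfl _
            rw [← hm, show m = (m₀.1.1, γ + m₀.1.2) from Prod.ext rfl hγ]
            exact hshift γ (i, α) m₀.1 hlt
          · exact absurd (hkey heq) hne
          · refine Submodule.mem_sup_right ?_
            have : em (i, γ + α) (a * co (g m₀) (i, α)) =
                co (g m₀) (i, α) • em (i, γ + α) a := by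
              rw [em, em, ← Pi.single_smul, smul_monomial, smul_eq_mul, mul_comm]
            rw [this]
            exact Submodule.smul_mem_smul (Ideal.subset_span ⟨m₀, i, α, hα, hgt, rfl⟩) trivial
        refine sub_mem (Submodule.mem_sup_left (Submodule.mem_sup_left
          (G.smul_mem _ (Submodule.subset_span ⟨m₀, rfl⟩)))) (add_mem ?_ ?_)
        · exact Submodule.sum_mem _ fun α hα => hother _ α (Finset.mem_of_mem_erase hα)
            fun h => (Finset.ne_of_mem_erase hα) (Prod.ext_iff.1 h).2
        · exact Submodule.sum_mem _ fun i hi => Submodule.sum_mem _ fun α hα =>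
            hother i α hα fun h => (Finset.ne_of_mem_erase hi) (Prod.ext_iff.1 h).1
      · refine Submodule.mem_sup_left (Submodule.mem_sup_right fun m' hm' => ?_)
        show (em m a m'.1).coeff m'.2 = 0
        rw [em]
        by_cases h : m'.1 = m.1
        · rw [h, Pi.single_eq_same, coeff_monomial, if_neg]
          intro h2
          exact hmL ((Prod.ext h.symm h2 : m = m') ▸ hm')
        · rw [Pi.single_eq_of_ne h, coeff_zero]
  have htop : (⊤ : Submodule W (Fin s → MvPolynomial (Fin k) W)) ≤ T ⊔ J₀ • ⊤ := fun y _ => by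
    rw [eq_sum_em y]
    exact Submodule.sum_mem _ fun i _ => Submodule.sum_mem _ fun α _ => hem _ _ rfl _
  have hpow : ∀ j : ℕ, (⊤ : Submodule W (Fin s → MvPolynomial (Fin k) W)) ≤ T ⊔ J₀ ^ j • ⊤ := by
    intro j
    induction j with
    | zero => rw [pow_zero, Ideal.one_eq_top, Submodule.top_smul]; exact le_sup_right
    | succ j ih =>
      refine ih.trans (sup_le le_sup_left ((Submodule.smul_mono le_rfl htop).trans ?_))
      rw [Submodule.smul_sup, ← Submodule.mul_smul, ← pow_succ]
      exact sup_le (le_sup_of_le_left Submodule.smul_le_right) le_sup_right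
  intro n hn
  have hnT : n ∈ T := by
    have h := hpow K (Submodule.mem_top (x := n))
    rw [show J₀ ^ K = ⊥ from hK, Submodule.bot_smul, sup_bot_eq] at h
    exact h
  obtain ⟨g', hg', r, hr, rfl⟩ := Submodule.mem_sup.1 hnT
  have hrN : r ∈ N := by
    have := N.sub_mem hn (Submodule.span_le.2 (Set.range_subset_iff.2 hgN) hg')
    rwa [add_sub_cancel_left] at this
  suffices r = 0 by rw [this, add_zero]; exact hg'
  by_contra hr0
  -- the content of the remainder
  let S : Finset (Fin s × (Fin k →₀ ℕ)) :=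
    Finset.univ.biUnion fun i => (r i).support.map ⟨fun α => (i, α), fun a b h => (Prod.ext_iff.1 h).2⟩
  have hS : ∀ m, m ∈ S ↔ co r m ≠ 0 := fun m => by
    simp only [S, Finset.mem_biUnion, Finset.mem_univ, true_and, Finset.mem_map,
      MvPolynomial.mem_support_iff]
    constructor
    · rintro ⟨i, α, hα, rfl⟩; exact hα
    · intro h; exact ⟨m.1, m.2, h, rfl⟩
  have hSne : ∃ m ∈ S, co r m ≠ 0 := by
    by_contra hall
    refine hr0 (funext fun i => MvPolynomial.ext _ _ fun α => ?_)
    by_contra hne
    exact hall ⟨(i, α), (hS (i, α)).2 hne, hne⟩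
  obtain ⟨c, v, hc, hv, m₁, hm₁, hu⟩ := exists_content (co r) S hSne
  let y : Fin s → MvPolynomial (Fin k) W := ∑ m ∈ S, em m (v m)
  have hy : ∀ m, co y m = if m ∈ S then v m else 0 := fun m => by
    simp only [co, y, em, Finset.sum_apply, MvPolynomial.coeff_sum]
    have hne0 : ∀ m' ∈ S, m' ≠ m → ((Pi.single m'.1 (monomial m'.2 (v m')) :
        Fin s → MvPolynomial (Fin k) W) m.1).coeff m.2 = 0 := by
      intro m' _ hne
      by_cases h : m.1 = m'.1
      · rw [h, Pi.single_eq_same, coeff_monomial, if_neg]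
        exact fun h2 => hne (Prod.ext h.symm h2)
      · rw [Pi.single_eq_of_ne h, coeff_zero]
    split_ifs with h
    · rw [Finset.sum_eq_single m hne0 (fun h' => absurd h h')]
      simp
    · exact Finset.sum_eq_zero fun m' hm' => hne0 m' hm' fun e => h (e ▸ hm')
  have hcy : c • y = r := funext fun i => MvPolynomial.ext _ _ fun α => by
    rw [Pi.smul_apply, MvPolynomial.coeff_smul, smul_eq_mul]
    show c * co y (i, α) = co r (i, α)
    rw [hy]
    split_ifs with h
    · exact (hv _ h).symm
    · rw [mul_zero]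
      by_contra hne
      exact h ((hS _).2 (Ne.symm hne))
  obtain ⟨n', hn', hn'u⟩ := hN c y hc (hcy ▸ hrN)
  -- the largest unit position of `y`
  obtain ⟨m₂, hm₂, hmax⟩ := (S.filter fun m => IsUnit (v m)).exists_max_image key
    ⟨m₁, Finset.mem_filter.2 ⟨hm₁, hu⟩⟩
  obtain ⟨hm₂S, hm₂u⟩ := Finset.mem_filter.1 hm₂
  have hn'unit : ∀ m, IsUnit (co n' m) ↔ IsUnit (co y m) := fun m => by
    have h := hn'u m
    have e : co y m = co (y - n') m + co n' m := by
      show (y m.1).coeff m.2 = ((y m.1) - n' m.1).coeff m.2 + (n' m.1).coeff m.2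
      rw [← MvPolynomial.coeff_add, sub_add_cancel]
    constructor
    · intro h1
      by_contra h2
      have := IsLocalRing.nonunits_add (a := co y m) (b := -co (y - n') m) h2
        (by simpa [mem_nonunits_iff, IsUnit.neg_iff] using h)
      rw [e] at this
      simp only [add_assoc, add_comm (co n' m), add_neg_cancel_left] at this
      exact this h1
    · intro h1
      by_contra h2
      have := IsLocalRing.nonunits_add (a := co (y - n') m) (b := co n' m) h h2
      rw [← e] at this
      exact this h1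
  have hm₂L : m₂ ∈ L := by
    obtain ⟨w, hw⟩ := (hn'unit m₂).2 (by rw [hy, if_pos hm₂S]; exact hm₂u)
    refine ⟨(C (↑w⁻¹ : W) : MvPolynomial (Fin k) W) • n', N.smul_mem _ hn', ?_, fun m' hm' => ?_⟩
    · simp only [co, Pi.smul_apply, smul_eq_mul, MvPolynomial.coeff_C_mul]
      rw [show (n' m₂.1).coeff m₂.2 = (w : W) from hw.symm, Units.inv_mul]
    · simp only [co, Pi.smul_apply, smul_eq_mul, MvPolynomial.coeff_C_mul,
        Units.isUnit_units_mul]
      intro h
      have h' := (hn'unit m').1 h
      rw [hy] at h'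
      split_ifs at h' with hmS
      · exact absurd (hmax m' (Finset.mem_filter.2 ⟨hmS, h'⟩)) (not_le.2 hm')
      · exact not_isUnit_zero h'
  have : co r m₂ = 0 := hr m₂ hm₂L
  exact (hS m₂).1 hm₂S this

end Groth.Agent.TopFT
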