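import Mathlib.RingTheory.AdicCompletion.AsTensorProduct
import Mathlib.RingTheory.AdicCompletion.Completeness
import Mathlib.RingTheory.AdicCompletion.Functoriality
import Mathlib.RingTheory.Filtration
import Mathlib.RingTheory.Nakayama
import Mathlib.RingTheory.Flat.Basic
import Mathlib.RingTheory.Finiteness.Cardinality
import Groth.Agent.AdicLim.Filt

/-!
Rings with an ideal `J` for which saturated submodules of finite modules are finitely generated and a
uniform Artin-Rees property holds ("nice"): completeness, exactness and flatness of completion.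
-/

set_option autoImplicit false

namespace Groth.Agent.TopFT

open TensorProduct

universe u v w

variable {C : Type u} [CommRing C]

/-- `J`-saturated submodules. -/
def Sat (J : Ideal C) {M : Type v} [AddCommGroup M] [Module C M] (N : Submodule C M) : Prop :=
  ∀ (x : M) (n : ℕ), (∀ a ∈ J ^ n, a • x ∈ N) → x ∈ N

/-- The uniform Artin-Rees property for one submodule. -/
def AR (J : Ideal C) {M : Type v} [AddCommGroup M] [Module C M] (N : Submodule C M) : Prop :=
  ∃ N₀ ≤ N, N₀.FG ∧ ∃ c : ℕ, ∀ m : ℕ, J ^ (m + c) • (⊤ : Submodule C M) ⊓ N ≤ J ^ m • N₀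

/-- Saturated submodules are finitely generated and the Artin-Rees property holds. -/
structure Nice (J : Ideal C) : Prop where
  fg : J.FG
  tame : ∀ (s : ℕ) (N : Submodule C (Fin s → C)), AR J N
  satfg : ∀ (s : ℕ) (N : Submodule C (Fin s → C)), Sat J N → N.FG

/-- A Noetherian ring is nice. -/
theorem Nice.of_isNoetherianRing [IsNoetherianRing C] (J : Ideal C) : Nice J where
  fg := IsNoetherian.noetherian J
  satfg _ N _ := IsNoetherian.noetherian N
  tame s N := by
    obtain ⟨k, hk⟩ := Ideal.exists_pow_inf_eq_pow_smul J N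
    refine ⟨N, le_rfl, IsNoetherian.noetherian N, k, fun m => ?_⟩
    rw [hk (m + k) (Nat.le_add_left k m), Nat.add_sub_cancel]
    exact Submodule.smul_mono le_rfl inf_le_right

variable {J : Ideal C}

theorem map_smul_top_eq {M : Type v} [AddCommGroup M] [Module C M] {M' : Type w} [AddCommGroup M']
    [Module C M'] (p : M →ₗ[C] M') (hp : Function.Surjective p) (I : Ideal C) :
    (I • (⊤ : Submodule C M)).map p = I • ⊤ := by
  rw [Submodule.map_smul'', Submodule.map_top, LinearMap.range_eq_top.2 hp]

theorem Nice.tame' (h : Nice J) {M : Type v} [AddCommGroup M] [Module C M] [Module.Finite C M]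
    (N : Submodule C M) : AR J N := by
  obtain ⟨s, p, hp⟩ := Module.Finite.exists_fin' C M
  obtain ⟨N₀, hle, hfg, c, hc⟩ := h.tame s (N.comap p)
  refine ⟨N₀.map p, Submodule.map_le_iff_le_comap.2 hle, hfg.map p, c, fun m => ?_⟩
  rintro x ⟨hx1, hx2⟩
  rw [SetLike.mem_coe, ← map_smul_top_eq p hp] at hx1
  obtain ⟨y, hy, rfl⟩ := hx1
  have := Submodule.mem_map_of_mem (f := p) (hc m ⟨hy, hx2⟩)
  rwa [Submodule.map_smul''] at this

theorem Sat.comap {M : Type v} [AddCommGroup M] [Module C M] {M' : Type w} [AddCommGroup M']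
    [Module C M'] {N : Submodule C M'} (h : Sat J N) (p : M →ₗ[C] M') : Sat J (N.comap p) :=
  fun x n hx => h (p x) n fun a ha => by simpa using hx a ha

theorem Nice.satfg' (h : Nice J) {M : Type v} [AddCommGroup M] [Module C M] [Module.Finite C M]
    (N : Submodule C M) (hN : Sat J N) : N.FG := by
  obtain ⟨s, p, hp⟩ := Module.Finite.exists_fin' C M
  rw [← Submodule.map_comap_eq_of_surjective hp N]
  exact (h.satfg s _ (hN.comap p)).map p

section Quotient

variable {C' : Type w} [CommRing C'] [Algebra C C']

theorem exists_mem_pow_of_mem_map (hφ : Function.Surjective (algebraMap C C')) (n : ℕ) {b : C'}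
    (hb : b ∈ (J.map (algebraMap C C')) ^ n) : ∃ a ∈ J ^ n, algebraMap C C' a = b := by
  rw [← Ideal.map_pow] at hb
  exact (Ideal.mem_map_iff_of_surjective _ hφ).1 hb

theorem restrict_pow_smul_le (hφ : Function.Surjective (algebraMap C C')) (n : ℕ)
    {N : Type v} [AddCommGroup N] [Module C N] [Module C' N] [IsScalarTower C C' N]
    (P : Submodule C' N) :
    ((J.map (algebraMap C C')) ^ n • P).restrictScalars C ≤ J ^ n • P.restrictScalars C := by
  intro x hx
  rw [Submodule.restrictScalars_mem] at hx
  refine Submodule.smul_induction_on (I := (J.map (algebraMap C C')) ^ n) (N := P)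
    (p := fun x => x ∈ J ^ n • P.restrictScalars C) hx ?_ (fun y z hy hz => add_mem hy hz)
  intro b hb y hy
  obtain ⟨a, ha, hab⟩ := exists_mem_pow_of_mem_map hφ n hb
  rw [← hab, algebraMap_smul C' a y]
  exact Submodule.smul_mem_smul ha (show y ∈ P.restrictScalars C from hy)

theorem pow_smul_le_restrict (n : ℕ)
    {N : Type v} [AddCommGroup N] [Module C N] [Module C' N] [IsScalarTower C C' N]
    (P : Submodule C N) (Q : Submodule C' N) (hPQ : P ≤ Q.restrictScalars C) :
    J ^ n • P ≤ ((J.map (algebraMap C C')) ^ n • Q).restrictScalars C := by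
  rw [Submodule.smul_le]
  intro a ha y hy
  rw [Submodule.restrictScalars_mem, ← algebraMap_smul C' a y, ← Ideal.map_pow]
  exact Submodule.smul_mem_smul (Ideal.mem_map_of_mem _ ha) (hPQ hy)

theorem Nice.of_surjective_algebraMap (h : Nice J) (hφ : Function.Surjective (algebraMap C C')) :
    Nice (J.map (algebraMap C C')) := by
  haveI : Module.Finite C C' := Module.Finite.of_surjective (Algebra.linearMap C C') hφ
  refine ⟨h.fg.map _, fun s N => ?_, fun s N hN => ?_⟩
  · obtain ⟨N₀, hle, hfg, c, hc⟩ := h.tame' (N.restrictScalars C)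
    obtain ⟨t, ht⟩ := hfg
    refine ⟨Submodule.span C' t, Submodule.span_le.2 fun x hx => hle (ht ▸ Submodule.subset_span hx),
      ⟨t, rfl⟩, c, fun m => ?_⟩
    rintro x ⟨hx1, hx2⟩
    have hx : x ∈ J ^ (m + c) • (⊤ : Submodule C (Fin s → C')) := by
      have := restrict_pow_smul_le hφ (m + c) (⊤ : Submodule C' (Fin s → C')) hx1
      rwa [Submodule.restrictScalars_top] at this
    refine pow_smul_le_restrict m N₀ _ ?_ (hc m ⟨hx, hx2⟩)
    rw [← ht]
    exact Submodule.span_le_restrictScalars C C' _
  · refine Submodule.FG.of_restrictScalars C (h.satfg' (N.restrictScalars C) fun x n hx => hN x n fun b hb => ?_)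
    obtain ⟨a, ha, rfl⟩ := exists_mem_pow_of_mem_map hφ n hb
    rw [algebraMap_smul]
    exact hx a ha

end Quotient

/-- Niceness passes to quotients. -/
theorem Nice.of_surjective (h : Nice J) {C' : Type w} [CommRing C'] (φ : C →+* C')
    (hφ : Function.Surjective φ) : Nice (J.map φ) :=
  letI : Algebra C C' := φ.toAlgebra
  h.of_surjective_algebraMap (C' := C') hφ

/-- Finite modules over a nice ring with `J` in the Jacobson radical are separated. -/
theorem Nice.isHausdorff (h : Nice J) (hJ : J ≤ (⊥ : Ideal C).jacobson) (M : Type v)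
    [AddCommGroup M] [Module C M] [Module.Finite C M] : IsHausdorff J M := by
  refine ⟨fun x hx => ?_⟩
  obtain ⟨N₀, hle, -, c, hc⟩ := h.tame' (Submodule.span C {x})
  have hx' : x ∈ J • Submodule.span C {x} := by
    have := hc 1 ⟨SModEq.zero.1 (hx (1 + c)), Submodule.mem_span_singleton_self x⟩
    rw [pow_one] at this
    exact Submodule.smul_mono le_rfl hle this
  have hbot := Submodule.eq_bot_of_le_smul_of_le_jacobson_bot J (Submodule.span C {x})
    (Submodule.fg_span_singleton x) ((Submodule.span_singleton_le_iff_mem _ _).2 hx') hJ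
  exact Submodule.span_singleton_eq_bot.1 hbot

/-- Finite modules over a nice complete ring are complete. -/
theorem Nice.isAdicComplete (h : Nice J) [IsAdicComplete J C] (M : Type v)
    [AddCommGroup M] [Module C M] [Module.Finite C M] : IsAdicComplete J M := by
  haveI := h.isHausdorff (IsAdicComplete.le_jacobson_bot J) M
  obtain ⟨s, g, hg⟩ := Module.Finite.exists_fin' C M
  haveI : IsPrecomplete J (Fin s → C) := AdicLim.isPrecomplete_pi C
  refine { prec' := fun f hf => ?_ }
  have hd : ∀ n, ∃ d ∈ J ^ n • (⊤ : Submodule C (Fin s → C)), g d = f (n + 1) - f n := fun n => by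
    have := SModEq.sub_mem.1 (hf (Nat.le_succ n))
    rw [← map_smul_top_eq g hg] at this
    obtain ⟨d, hd, e⟩ := this
    exact ⟨-d, neg_mem hd, by rw [map_neg, e, neg_sub]⟩
  choose d hdm hde using hd
  obtain ⟨c0, hc0⟩ := hg (f 0)
  let t : ℕ → (Fin s → C) := fun n => c0 + ∑ i ∈ Finset.range n, d i
  obtain ⟨S, hS⟩ := AdicLim.exists_limit (I := J) (Fin s → C) t fun n => by
    rw [show t (n + 1) - t n = d n by simp [t, Finset.sum_range_succ]]
    exact hdm n
  have ht : ∀ n, g (t n) = f n := by
    intro n
    simp only [t, map_add, map_sum, hde, hc0, Finset.sum_range_sub f]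
    abel
  refine ⟨g S, fun n => ?_⟩
  rw [SModEq.sub_mem, ← ht n, ← map_sub, ← map_smul_top_eq g hg, ← neg_sub, map_neg]
  exact neg_mem (Submodule.mem_map_of_mem (hS n))

variable {M : Type u} [AddCommGroup M] [Module C M] {M' : Type u} [AddCommGroup M'] [Module C M']

/-- Completion preserves injectivity into finite modules. -/
theorem Nice.map_injective (h : Nice J) [Module.Finite C M'] {f : M →ₗ[C] M'}
    (hf : Function.Injective f) : Function.Injective (AdicCompletion.map J f) := by
  obtain ⟨N₀, hle, -, c, hc⟩ := h.tame' (LinearMap.range f)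
  rw [injective_iff_map_eq_zero]
  intro x
  refine AdicCompletion.induction_on J M x (p := fun x => AdicCompletion.map J f x = 0 → x = 0)
    fun a hx => ?_
  refine AdicCompletion.mk_zero_of _ _ _ ⟨0, fun n _ => ⟨n + c, by omega, n, le_rfl, ?_⟩⟩
  rw [← Submodule.comap_map_eq_of_injective hf (J ^ n • ⊤ : Submodule C M), Submodule.map_smul'',
    Submodule.map_top]
  refine Submodule.smul_mono le_rfl hle (hc n ⟨?_, ⟨a (n + c), rfl⟩⟩)
  simpa using congrArg (fun x => x.val (n + c)) hx

/-- Completion is computed by base change on finite modules. -/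
theorem Nice.ofTensorProduct_bijective (h : Nice J) [Module.Finite C M] :
    Function.Bijective (AdicCompletion.ofTensorProduct J M) := by
  refine ⟨?_, AdicCompletion.ofTensorProduct_surjective_of_finite J M⟩
  obtain ⟨s, p, hp⟩ := Module.Finite.exists_fin' C M
  obtain ⟨N₀, hle, hfg, c, hc⟩ := h.tame s (LinearMap.ker p)
  haveI : Module.Finite C N₀ := Module.Finite.iff_fg.2 hfg
  rw [injective_iff_map_eq_zero]
  intro z hz
  obtain ⟨y, rfl⟩ := LinearMap.lTensor_surjective (AdicCompletion J C) hp z
  -- `y` is killed in the completion of `M`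
  have hy : AdicCompletion.map J p (AdicCompletion.ofTensorProduct J (Fin s → C) y) = 0 := by
    have := congrArg (fun φ => φ y) (AdicCompletion.ofTensorProduct_naturality J p)
    simp only [LinearMap.comp_apply] at this
    rw [this]
    exact hz
  generalize hx : AdicCompletion.ofTensorProduct J (Fin s → C) y = x at hy
  obtain ⟨k₀, hk₀, w, hw⟩ : ∃ k₀ ∈ LinearMap.ker p, ∃ w : AdicCompletion J C ⊗[C] N₀,
      AdicCompletion.map J N₀.subtype (AdicCompletion.ofTensorProduct J N₀ w) +
        AdicCompletion.of J (Fin s → C) k₀ = x := by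
    suffices ∃ k₀ ∈ LinearMap.ker p, ∃ w,
        AdicCompletion.map J N₀.subtype w + AdicCompletion.of J (Fin s → C) k₀ = x by
      obtain ⟨k₀, hk₀, w, rfl⟩ := this
      obtain ⟨w, rfl⟩ := AdicCompletion.ofTensorProduct_surjective_of_finite J N₀ w
      exact ⟨k₀, hk₀, w, rfl⟩
    clear hx
    revert hy
    refine AdicCompletion.induction_on J _ x (p := fun x => AdicCompletion.map J p x = 0 →
      ∃ k₀ ∈ LinearMap.ker p, ∃ w,
        AdicCompletion.map J N₀.subtype w + AdicCompletion.of J (Fin s → C) k₀ = x) fun b hb => ?_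
    have hb' : ∀ n, ∃ k ∈ LinearMap.ker p, b n - k ∈ J ^ n • (⊤ : Submodule C (Fin s → C)) := by
      intro n
      have : p (b n) ∈ J ^ n • (⊤ : Submodule C M) := by
        simpa using congrArg (fun x => x.val n) hb
      rw [← map_smul_top_eq p hp] at this
      obtain ⟨d, hd, hpd⟩ := this
      exact ⟨b n - d, by simp [LinearMap.mem_ker, hpd], by simpa using hd⟩
    choose k hk hbk using hb'
    -- a sequence in `N₀` with the same limit
    have hbdiff : ∀ i j, i ≤ j → b j - b i ∈ J ^ i • (⊤ : Submodule C (Fin s → C)) := fun i j hij => by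
      rw [← neg_sub]
      exact neg_mem (SModEq.sub_mem.1 (b.property hij))
    have hd : ∀ n, k (n + 1 + c) - k (n + c) ∈ J ^ n • N₀ := fun n => by
      refine hc n ⟨?_, sub_mem (hk _) (hk _)⟩
      have e : k (n + 1 + c) - k (n + c) =
          (b (n + 1 + c) - b (n + c)) - (b (n + 1 + c) - k (n + 1 + c)) + (b (n + c) - k (n + c)) := by
        abel
      rw [e]
      exact add_mem (sub_mem (hbdiff _ _ (by omega))
        (Submodule.pow_smul_top_le J _ (by omega) (hbk _))) (hbk _)
    have he : ∀ n, k (n + c) - k c ∈ N₀ := by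
      intro n
      induction n with
      | zero => simp
      | succ n ih =>
        have := add_mem (Submodule.smul_le_right (hd n)) ih
        rwa [sub_add_sub_cancel] at this
    let e : ℕ → N₀ := fun n => ⟨k (n + c) - k c, he n⟩
    have hec : ∀ n, e n ≡ e (n + 1) [SMOD (J ^ n • ⊤ : Submodule C N₀)] := fun n => by
      rw [SModEq.sub_mem, ← Submodule.comap_map_eq_of_injective N₀.injective_subtype (J ^ n • ⊤),
        Submodule.map_smul'', Submodule.map_top, Submodule.range_subtype, Submodule.mem_comap,
        ← neg_sub, map_neg]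
      refine neg_mem ?_
      simpa [e] using hd n
    refine ⟨k c, hk c, AdicCompletion.mk J N₀ (AdicCompletion.AdicCauchySequence.mk J N₀ e hec), ?_⟩
    refine AdicCompletion.ext fun n => ?_
    change (Submodule.Quotient.mk ((e n).1) + Submodule.Quotient.mk (k c) :
        (Fin s → C) ⧸ (J ^ n • ⊤ : Submodule C (Fin s → C))) = Submodule.Quotient.mk (b n)
    rw [← Submodule.Quotient.mk_add, Submodule.Quotient.eq]
    have h1 : k (n + c) - k c + k c - b n = (b (n + c) - b n) - (b (n + c) - k (n + c)) := by abel
    rw [h1]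
    exact sub_mem (hbdiff _ _ (by omega)) (Submodule.pow_smul_top_le J _ (by omega) (hbk _))
  have hinj : Function.Injective (AdicCompletion.ofTensorProduct J (Fin s → C)) :=
    (AdicCompletion.ofTensorProduct_bijective_of_pi_of_fintype J (Fin s)).1
  have hyw : y = (N₀.subtype).lTensor (AdicCompletion J C) w + (1 : AdicCompletion J C) ⊗ₜ[C] k₀ := by
    apply hinj
    rw [map_add, hx, ← hw, AdicCompletion.ofTensorProduct_tmul, one_smul]
    congr 1
    exact congrArg (fun φ => φ w) (AdicCompletion.ofTensorProduct_naturality J N₀.subtype)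
  rw [hyw, map_add, ← LinearMap.comp_apply, ← LinearMap.lTensor_comp,
    show p ∘ₗ N₀.subtype = 0 from LinearMap.ext fun v => hle v.2, LinearMap.lTensor_zero,
    LinearMap.lTensor_tmul, LinearMap.mem_ker.1 hk₀, TensorProduct.tmul_zero]
  exact add_zero 0

/-- Completion of a nice ring is flat. -/
theorem Nice.flat (h : Nice J) : Module.Flat C (AdicCompletion J C) := by
  refine Module.Flat.iff_lTensor_injective.mpr fun L hL => ?_
  haveI : Module.Finite C L := Module.Finite.iff_fg.2 hL
  intro x y hxy
  apply (h.ofTensorProduct_bijective (M := L)).1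
  apply h.map_injective L.injective_subtype
  have e := AdicCompletion.ofTensorProduct_naturality J L.subtype
  exact (congrArg (fun φ => φ x) e).trans
    ((congrArg (AdicCompletion.ofTensorProduct J C) hxy).trans (congrArg (fun φ => φ y) e).symm)

end Groth.Agent.TopFT
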