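import Mathlib.Data.Finsupp.Antidiagonal
import Mathlib.RingTheory.AdicCompletion.Basic
import Mathlib.RingTheory.MvPolynomial.Homogeneous
import Mathlib.Algebra.MvPolynomial.Equiv
import Mathlib.RingTheory.Polynomial.Basic
import Groth.Agent.AdicLim.Noetherian
import Groth.Agent.TopFT.Division
import Groth.Agent.TopFT.Nice

/-!
Saturated submodules over polynomial rings in `e` variables over a complete ring `P` with a
non-zero-divisor `τ`, whose reduction is a polynomial ring over a chain ring with nilpotent
maximal ideal, are finitely generated.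
-/

set_option autoImplicit false

namespace Groth.Agent.TopFT

open MvPolynomial

universe u v w

variable {P : Type v} [CommRing P] {τ : P} {e s : ℕ}

/-- Dehomogenisation. -/
noncomputable def dehom (P : Type v) [CommRing P] (e : ℕ) :
    MvPolynomial (Fin (e + 1)) P →ₐ[P] MvPolynomial (Fin e) P :=
  aeval (Fin.cons 1 X)

theorem dehom_X_zero : dehom P e (X 0) = 1 := by simp [dehom]

theorem dehom_X_succ (i : Fin e) : dehom P e (X i.succ) = X i := by simp [dehom]

/-- Homogenisation in degree `D`. -/
noncomputable def hom (D : ℕ) (f : MvPolynomial (Fin e) P) : MvPolynomial (Fin (e + 1)) P :=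
  ∑ α ∈ f.support, monomial (Finsupp.cons (D - α.degree) α) (f.coeff α)

theorem dehom_hom (D : ℕ) (f : MvPolynomial (Fin e) P) : dehom P e (hom D f) = f := by
  conv_rhs => rw [f.as_sum]
  rw [hom, map_sum]
  refine Finset.sum_congr rfl fun α _ => ?_
  rw [dehom, aeval_monomial, Finsupp.prod_fintype _ _ (fun i => pow_zero _), Fin.prod_univ_succ]
  simp only [Fin.cons_zero, one_pow, one_mul, Fin.cons_succ, Finsupp.cons_succ]
  rw [monomial_eq, Finsupp.prod_fintype _ _ (fun i => pow_zero _)]
  rfl

theorem hom_isHomogeneous (D : ℕ) (f : MvPolynomial (Fin e) P) (h : f.totalDegree ≤ D) :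
    (hom D f).IsHomogeneous D := by
  refine IsHomogeneous.sum _ _ _ fun α hα => isHomogeneous_monomial _ ?_
  have hd : α.degree ≤ D := le_trans (by
    rw [Finsupp.degree_eq_sum]
    exact le_trans (le_of_eq (Finsupp.sum_fintype α (fun _ x => x) (fun _ => rfl)).symm)
      (le_totalDegree hα)) h
  rw [Finsupp.degree_eq_sum, Fin.sum_univ_succ]
  simp only [Finsupp.cons_zero, Finsupp.cons_succ]
  rw [← Finsupp.degree_eq_sum]
  omega

/-- Vectors all of whose homogeneous components dehomogenise into `N`. -/
noncomputable def homLift (N : Submodule (MvPolynomial (Fin e) P) (Fin s → MvPolynomial (Fin e) P)) :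
    Submodule (MvPolynomial (Fin (e + 1)) P) (Fin s → MvPolynomial (Fin (e + 1)) P) where
  carrier := {F | ∀ d, (fun j => dehom P e (homogeneousComponent d (F j))) ∈ N}
  add_mem' := fun {F G} hF hG d => by
    simp only [Pi.add_apply, map_add]
    exact N.add_mem (hF d) (hG d)
  zero_mem' := fun d => by simp only [Pi.zero_apply, map_zero]; exact N.zero_mem
  smul_mem' := fun a F hF d => by
    have key : (fun j => dehom P e (homogeneousComponent d (a * F j))) =
        ∑ k ∈ Finset.range (a.totalDegree + 1), if k ≤ d then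
          dehom P e (homogeneousComponent k a) •
            (fun j => dehom P e (homogeneousComponent (d - k) (F j))) else 0 := by
      funext j
      conv_lhs => rw [← sum_homogeneousComponent a, Finset.sum_mul, map_sum, map_sum]
      rw [Finset.sum_apply]
      refine Finset.sum_congr rfl fun k _ => ?_
      rw [mul_comm, AdicLim.homogeneousComponent_mul_of_isHomogeneous _
        (homogeneousComponent_isHomogeneous k a)]
      split_ifs
      · rw [map_mul, Pi.smul_apply, smul_eq_mul, mul_comm]
      · simp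
    show (fun j => dehom P e (homogeneousComponent d (a * F j))) ∈ N
    rw [key]
    refine N.sum_mem fun k _ => ?_
    split_ifs
    · exact N.smul_mem _ (hF _)
    · exact N.zero_mem

theorem mem_homLift_of_homogeneous
    {N : Submodule (MvPolynomial (Fin e) P) (Fin s → MvPolynomial (Fin e) P)}
    {F : Fin s → MvPolynomial (Fin (e + 1)) P} {D : ℕ} (hF : ∀ j, (F j).IsHomogeneous D)
    (h : (fun j => dehom P e (F j)) ∈ N) : F ∈ homLift N := by
  intro d
  rcases eq_or_ne D d with rfl | hne
  · simp only [homogeneousComponent_eq_self (hF _)]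
    exact h
  · convert N.zero_mem using 1
    funext j
    rw [homogeneousComponent_of_mem (hF j), if_neg hne.symm]
    simp

/-- Saturated with respect to `τ`, hence to all its divisors. -/
theorem mem_homLift_of_smul
    {N : Submodule (MvPolynomial (Fin e) P) (Fin s → MvPolynomial (Fin e) P)}
    (hN : ∀ x, (C τ : MvPolynomial (Fin e) P) • x ∈ N → x ∈ N) {c : P} (hc : c ∣ τ)
    {F : Fin s → MvPolynomial (Fin (e + 1)) P}
    (h : (C c : MvPolynomial (Fin (e + 1)) P) • F ∈ homLift N) : F ∈ homLift N := by
  obtain ⟨d', rfl⟩ := hc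
  intro d
  refine hN _ ?_
  have := N.smul_mem (C d') (h d)
  convert this using 1
  funext j
  simp only [Pi.smul_apply, smul_eq_mul, homogeneousComponent_C_mul, map_mul, dehom, aeval_C,
    MvPolynomial.algebraMap_eq]
  ring

/-- Cauchy sequences of polynomials with bounded degree converge. -/
theorem exists_poly_limit [IsAdicComplete (Ideal.span {τ}) P] {σ : Type*} [Fintype σ] (δ : ℕ)
    (f : ℕ → MvPolynomial σ P) (hf : ∀ k, (f k).IsHomogeneous δ)
    (hd : ∀ k, C (τ ^ k) ∣ f (k + 1) - f k) :
    ∃ S : MvPolynomial σ P, S.IsHomogeneous δ ∧ ∀ k, C (τ ^ k) ∣ S - f k := by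
  classical
  have hlim : ∀ α, ∃ L : P, ∀ k, L - (f k).coeff α ∈ (Ideal.span {τ}) ^ k • (⊤ : Submodule P P) :=
    fun α => AdicLim.exists_limit (I := Ideal.span {τ}) P (fun k => (f k).coeff α) fun k => by
      rw [smul_eq_mul, Ideal.mul_top, Ideal.span_singleton_pow, Ideal.mem_span_singleton,
        ← MvPolynomial.coeff_sub]
      exact (C_dvd_iff_dvd_coeff _ _).1 (hd k) α
  choose L hL using hlim
  let B : Finset (σ →₀ ℕ) := (Finset.univ : Finset σ).finsuppAntidiag δ
  refine ⟨∑ α ∈ B, monomial α (L α), IsHomogeneous.sum _ _ _ fun α hα => isHomogeneous_monomial _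
    (by rw [Finsupp.degree_eq_sum]; exact (Finset.mem_finsuppAntidiag.1 hα).1),
    fun k => (C_dvd_iff_dvd_coeff _ _).2 fun α => ?_⟩
  rw [MvPolynomial.coeff_sub, MvPolynomial.coeff_sum]
  by_cases hα : α ∈ B
  · rw [Finset.sum_eq_single α (fun β _ hne => by simp [hne]) (fun h => absurd hα h),
      coeff_monomial, if_pos rfl, ← Ideal.mem_span_singleton, ← Ideal.span_singleton_pow]
    simpa [Ideal.mul_top] using hL α k
  · rw [Finset.sum_eq_zero fun β hβ => ?_, (hf k).coeff_eq_zero ?_, sub_zero]
    · exact dvd_zero _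
    · intro hdeg
      refine hα (Finset.mem_finsuppAntidiag.2 ⟨?_, Finset.subset_univ _⟩)
      rw [← hdeg, Finsupp.degree_eq_sum]
    · rw [coeff_monomial, if_neg]
      exact fun h => hα (h ▸ hβ)

/-- Successive approximation in each degree. -/
theorem mem_span_of_homogeneous [IsAdicComplete (Ideal.span {τ}) P] {ι : Type*} [Fintype ι]
    (L : Submodule (MvPolynomial (Fin (e + 1)) P) (Fin s → MvPolynomial (Fin (e + 1)) P))
    (hL : ∀ x, (C τ : MvPolynomial (Fin (e + 1)) P) • x ∈ L → x ∈ L)
    (g : ι → Fin s → MvPolynomial (Fin (e + 1)) P) (deg : ι → ℕ)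
    (hghom : ∀ p j, (g p j).IsHomogeneous (deg p)) (hgL : ∀ p, g p ∈ L)
    (happrox : ∀ F ∈ L, ∃ A : ι → MvPolynomial (Fin (e + 1)) P,
      ∀ j, C τ ∣ F j - (∑ p, A p • g p) j)
    {d : ℕ} {F : Fin s → MvPolynomial (Fin (e + 1)) P} (hF : F ∈ L)
    (hFd : ∀ j, (F j).IsHomogeneous d) :
    F ∈ Submodule.span (MvPolynomial (Fin (e + 1)) P) (Set.range g) := by
  classical
  let Gk : ℕ → AddSubgroup (ι → MvPolynomial (Fin (e + 1)) P) := fun k =>
    { carrier := {a | ∀ p, (a p).IsHomogeneous (d - deg p) ∧ (d < deg p → a p = 0) ∧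
        C (τ ^ k) ∣ a p}
      add_mem' := fun {a b} ha hb p => ⟨(ha p).1.add (hb p).1,
        fun h => by rw [Pi.add_apply, (ha p).2.1 h, (hb p).2.1 h, add_zero],
        dvd_add (ha p).2.2 (hb p).2.2⟩
      zero_mem' := fun p => ⟨isHomogeneous_zero _ _ _, fun _ => rfl, dvd_zero _⟩
      neg_mem' := fun {a} ha p => ⟨(ha p).1.neg, fun h => by rw [Pi.neg_apply, (ha p).2.1 h,
        neg_zero], (ha p).2.2.neg_right⟩ }
  let Nk : ℕ → AddSubgroup (Fin s → MvPolynomial (Fin (e + 1)) P) := fun k =>
    { carrier := {x | x ∈ L ∧ ∀ j, (x j).IsHomogeneous d ∧ C (τ ^ k) ∣ x j}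
      add_mem' := fun {a b} ha hb => ⟨add_mem ha.1 hb.1, fun j => ⟨(ha.2 j).1.add (hb.2 j).1,
        dvd_add (ha.2 j).2 (hb.2 j).2⟩⟩
      zero_mem' := ⟨zero_mem _, fun j => ⟨isHomogeneous_zero _ _ _, dvd_zero _⟩⟩
      neg_mem' := fun {a} ha => ⟨neg_mem ha.1, fun j => ⟨(ha.2 j).1.neg, (ha.2 j).2.neg_right⟩⟩ }
  let φ : (ι → MvPolynomial (Fin (e + 1)) P) →+
      (Fin s → MvPolynomial (Fin (e + 1)) P) :=
    { toFun := fun a => ∑ p, a p • g p
      map_zero' := by simp
      map_add' := fun a b => by simp [add_smul, Finset.sum_add_distrib] }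
  have hsep : ∀ x, (∀ k, x ∈ Nk k) → x = 0 := fun x hx => funext fun j =>
    MvPolynomial.ext _ _ fun α => by
      refine IsHausdorff.haus (inferInstance : IsHausdorff (Ideal.span {τ}) P) _ fun k => ?_
      rw [SModEq.zero, smul_eq_mul, Ideal.mul_top, Ideal.span_singleton_pow,
        Ideal.mem_span_singleton]
      exact (C_dvd_iff_dvd_coeff _ _).1 ((hx k).2 j).2 α
  have hτpow : ∀ k x, (C (τ ^ k) : MvPolynomial (Fin (e + 1)) P) • x ∈ L →
      x ∈ L := by
    intro k
    induction k with
    | zero => intro x hx; simpa using hx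
    | succ k ih =>
      intro x hx
      rw [pow_succ, C_mul, mul_smul] at hx
      exact hL _ (ih _ hx)
  obtain ⟨a, -, ha⟩ := AdicLim.exists_eq_map Gk Nk φ
    (fun k a ha p => ⟨(ha p).1, (ha p).2.1,
      (map_dvd C (pow_dvd_pow τ k.le_succ)).trans (ha p).2.2⟩)
    (fun q hq => by
      have hq0 : ∀ k, q k - q 0 ∈ Gk 0 := by
        intro k
        induction k with
        | zero => simpa using (Gk 0).zero_mem
        | succ k ih =>
          have h1 : q (k + 1) - q k ∈ Gk 0 := fun p =>
            ⟨(hq k p).1, (hq k p).2.1, by simp⟩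
          have := add_mem h1 ih
          rwa [sub_add_sub_cancel] at this
      choose S hS1 hS2 using fun p => exists_poly_limit (τ := τ) (d - deg p)
        (fun k => q k p - q 0 p) (fun k => (hq0 k p).1)
        (fun k => by simpa using (hq k p).2.2)
      refine ⟨fun p => (if d < deg p then 0 else S p) + q 0 p, fun k p => ?_⟩
      simp only [Pi.sub_apply]
      split_ifs with h
      · have : q k p = q 0 p := sub_eq_zero.1 (by simpa using (hq0 k p).2.1 h)
        rw [this, zero_add, sub_self]
        exact ⟨isHomogeneous_zero _ _ _, fun _ => rfl, dvd_zero _⟩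
      · refine ⟨?_, fun h' => absurd h' h, ?_⟩
        · rw [show S p + q 0 p - q k p = S p - (q k p - q 0 p) by ring]
          exact (hS1 p).sub (hq0 k p).1
        · rw [show S p + q 0 p - q k p = S p - (q k p - q 0 p) by ring]
          exact hS2 p k)
    hsep
    (fun k c hc => by
      refine ⟨Submodule.sum_mem _ fun p _ => Submodule.smul_mem _ _ (hgL p), fun j => ⟨?_, ?_⟩⟩
      · show ((∑ p, c p • g p) j).IsHomogeneous d
        rw [Finset.sum_apply]
        refine IsHomogeneous.sum _ _ _ fun p _ => ?_
        by_cases h : d < deg p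
        · rw [(hc p).2.1 h, Pi.smul_apply, zero_smul]
          exact isHomogeneous_zero _ _ _
        · have := (hc p).1.mul (hghom p j)
          rwa [Nat.sub_add_cancel (not_lt.1 h)] at this
      · show C (τ ^ k) ∣ (∑ p, c p • g p) j
        rw [Finset.sum_apply]
        exact Finset.dvd_sum fun p _ => (hc p).2.2.mul_right _)
    (fun k x hx => by
      choose x' hx' using fun j => (hx.2 j).2
      let x'' : Fin s → MvPolynomial (Fin (e + 1)) P := fun j => homogeneousComponent d (x' j)
      have hxx : ∀ j, x j = C (τ ^ k) * x'' j := fun j => by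
        rw [← homogeneousComponent_C_mul, ← hx', homogeneousComponent_eq_self (hx.2 j).1]
      have hx'N : x'' ∈ L := by
        refine hτpow k _ ?_
        rw [show (C (τ ^ k) : MvPolynomial (Fin (e + 1)) P) • x'' = x from
          funext fun j => (hxx j).symm]
        exact hx.1
      obtain ⟨A, hHx⟩ := happrox _ hx'N
      let a : ι → MvPolynomial (Fin (e + 1)) P := fun p =>
        if d < deg p then 0 else homogeneousComponent (d - deg p) (A p)
      refine ⟨fun p => C (τ ^ k) * a p, fun p => ⟨?_, fun h => ?_, Dvd.intro _ rfl⟩,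
        ?_, fun j => ?_⟩
      · refine IsHomogeneous.C_mul ?_ _
        simp only [a]
        split_ifs
        · exact isHomogeneous_zero _ _ _
        · exact homogeneousComponent_isHomogeneous _ _
      · simp only [a]
        rw [if_pos h, mul_zero]
      · exact sub_mem hx.1 (Submodule.sum_mem _ fun p _ => Submodule.smul_mem _ _ (hgL p))
      · have hcomp : homogeneousComponent d ((∑ p, A p • g p) j) = ∑ p, a p * g p j := by
          rw [Finset.sum_apply, map_sum]
          refine Finset.sum_congr rfl fun p _ => ?_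
          rw [Pi.smul_apply, smul_eq_mul,
            AdicLim.homogeneousComponent_mul_of_isHomogeneous _ (hghom p j)]
          simp only [a]
          by_cases h : d < deg p
          · rw [if_neg (not_le.2 h), if_pos h, zero_mul]
          · rw [if_pos (not_lt.1 h), if_neg h]
        have hφ : (φ fun p => C (τ ^ k) * a p) j = C (τ ^ k) * ∑ p, a p * g p j := by
          show (∑ p, (C (τ ^ k) * a p) • g p) j = _
          rw [Finset.sum_apply, Finset.mul_sum]
          exact Finset.sum_congr rfl fun p _ => by rw [Pi.smul_apply, smul_eq_mul, mul_assoc]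
        have hdiff : (x'' j - ∑ p, a p * g p j).IsHomogeneous d := by
          rw [← hcomp]
          exact (homogeneousComponent_isHomogeneous _ _).sub (homogeneousComponent_isHomogeneous _ _)
        have hτdvd : C τ ∣ x'' j - ∑ p, a p * g p j := by
          obtain ⟨w, hw⟩ := hHx j
          rw [← hcomp, ← homogeneousComponent_eq_self (n := d) (p := x'' j)
            (homogeneousComponent_isHomogeneous d (x' j)), ← map_sub, hw, homogeneousComponent_C_mul]
          exact Dvd.intro _ rfl
        rw [Pi.sub_apply, hφ, hxx, ← mul_sub]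
        exact ⟨hdiff.C_mul _, by rw [pow_succ, C_mul]; exact mul_dvd_mul_left _ hτdvd⟩)
    (show F ∈ Nk 0 from ⟨hF, fun j => ⟨hFd j, by simp⟩⟩)
  rw [← ha]
  exact Submodule.sum_mem _ fun p _ => Submodule.smul_mem _ _ (Submodule.subset_span ⟨p, rfl⟩)

variable {W : Type u} [CommRing W] [Nontrivial W] [PreValuationRing W]

/-- The finiteness theorem. -/
theorem fg_of_saturated {n : ℕ} (red : P →+* MvPolynomial (Fin n) W)
    (hred : Function.Surjective red) (hker : RingHom.ker red = Ideal.span {τ})
    (hW : ∀ x : W, ¬IsUnit x → IsNilpotent x)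
    (hlift : ∀ c : W, c ≠ 0 → ∃ c' : P, red c' = C c ∧ ∃ d' : P, τ = c' * d' ∧
      ∃ d : W, red d' = C d ∧ ¬IsUnit d)
    [IsAdicComplete (Ideal.span {τ}) P]
    (N : Submodule (MvPolynomial (Fin e) P) (Fin s → MvPolynomial (Fin e) P))
    (hN : ∀ x, (C τ : MvPolynomial (Fin e) P) • x ∈ N → x ∈ N) : N.FG := by
  classical
  -- reduction of homogeneous coordinates
  let π : MvPolynomial (Fin (e + 1)) P →+* MvPolynomial (Fin (e + 1 + n)) W :=
    ((renameEquiv W finSumFinEquiv).toRingEquiv.toRingHom.comp
      (sumAlgEquiv W (Fin (e + 1)) (Fin n)).symm.toRingEquiv.toRingHom).comp (MvPolynomial.map red)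
  have hπ : Function.Surjective π := by
    show Function.Surjective (⇑(renameEquiv W finSumFinEquiv) ∘
      ⇑(sumAlgEquiv W (Fin (e + 1)) (Fin n)).symm ∘ ⇑(MvPolynomial.map red))
    exact (AlgEquiv.surjective _).comp
      ((AlgEquiv.surjective _).comp (MvPolynomial.map_surjective red hred))
  have hπC : ∀ (p : P) (w : W), red p = C w → π (C p) = C w := fun p w hp => by
    show renameEquiv W finSumFinEquiv ((sumAlgEquiv W (Fin (e + 1)) (Fin n)).symm
      (MvPolynomial.map red (C p))) = C w
    rw [map_C, hp, show (C (C w) : MvPolynomial (Fin (e + 1)) (MvPolynomial (Fin n) W)) =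
      algebraMap W _ w from rfl, AlgEquiv.commutes, AlgEquiv.commutes]
    rfl
  have hπker : ∀ q, π q = 0 → C τ ∣ q := fun q hq => by
    have h : MvPolynomial.map red q = 0 := by
      have h1 : renameEquiv W finSumFinEquiv ((sumAlgEquiv W (Fin (e + 1)) (Fin n)).symm
          (MvPolynomial.map red q)) = 0 := hq
      rwa [map_eq_zero_iff _ (AlgEquiv.injective _), map_eq_zero_iff _ (AlgEquiv.injective _)] at h1
    rw [← RingHom.mem_ker, MvPolynomial.ker_map, hker, Ideal.map_span, Set.image_singleton,
      Ideal.mem_span_singleton] at h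
    exact h
  haveI : RingHomSurjective π := ⟨hπ⟩
  let Pr : (Fin s → MvPolynomial (Fin (e + 1)) P) →ₛₗ[π] (Fin s → MvPolynomial (Fin (e + 1 + n)) W) :=
    { toFun := fun F i => π (F i)
      map_add' := fun F G => funext fun i => map_add π _ _
      map_smul' := fun a F => funext fun i => map_mul π _ _ }
  -- generators of the reduction
  have hfg : ((homLift N).map Pr).FG := by
    refine fg_of_saturated_mod hW _ fun c y hc hy => ?_
    obtain ⟨c', hc', d', hcd, d, hd, hdu⟩ := hlift c hc
    choose Y hY using fun i => hπ (y i)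
    obtain ⟨F, hF, hFy⟩ := hy
    have hdiv : ∀ i, C τ ∣ C c' * Y i - F i := fun i => by
      refine hπker _ ?_
      rw [map_sub, map_mul, hπC c' c hc', hY, show π (F i) = (c • y) i from congrFun hFy i,
        Pi.smul_apply, C_mul', sub_self]
    choose Z hZ using hdiv
    have hn : (fun i => Y i - C d' * Z i) ∈ homLift N := by
      refine mem_homLift_of_smul hN (Dvd.intro d' hcd.symm) ?_
      have e : (C c' : MvPolynomial (Fin (e + 1)) P) • (fun i => Y i - C d' * Z i) = F :=
        funext fun i => by
          rw [Pi.smul_apply, smul_eq_mul, mul_sub, ← mul_assoc, ← C_mul, ← hcd, ← hZ i]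
          ring
      rw [e]
      exact hF
    refine ⟨Pr _, Submodule.mem_map_of_mem hn, fun m => ?_⟩
    show ¬IsUnit ((y m.1 - π (Y m.1 - C d' * Z m.1)).coeff m.2)
    rw [map_sub, hY, map_mul, hπC d' d hd, sub_sub_cancel, coeff_C_mul]
    exact fun h => hdu (isUnit_of_mul_isUnit_left h)
  obtain ⟨r, gbar, hgb⟩ := Submodule.fg_iff_exists_fin_generating_family.1 hfg
  choose G hGN hGg using fun i => (hgb ▸ Submodule.subset_span ⟨i, rfl⟩ :
    gbar i ∈ (homLift N).map Pr)
  -- homogeneous generators
  let D := Finset.univ.sup fun i : Fin r => Finset.univ.sup fun j => (G i j).totalDegree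
  let g : Fin r × Fin (D + 1) → Fin s → MvPolynomial (Fin (e + 1)) P :=
    fun p j => homogeneousComponent p.2 (G p.1 j)
  have hghom : ∀ p j, (g p j).IsHomogeneous (p.2 : ℕ) := fun p j =>
    homogeneousComponent_isHomogeneous _ _
  have hgN : ∀ p, g p ∈ homLift N := fun p =>
    mem_homLift_of_homogeneous (hghom p) (hGN p.1 p.2)
  have hGsum : ∀ i, G i = ∑ k : Fin (D + 1), g (i, k) := fun i => funext fun j => by
    rw [Finset.sum_apply]
    conv_lhs => rw [← sum_homogeneousComponent (G i j)]
    rw [Fin.sum_univ_eq_sum_range (fun k => homogeneousComponent k (G i j)) (D + 1)]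
    refine Finset.sum_subset (Finset.range_subset_range.2 ?_) fun k _ hk => ?_
    · have h1 := Finset.le_sup (f := fun j => (G i j).totalDegree) (Finset.mem_univ j)
      have h2 := Finset.le_sup (f := fun i : Fin r => Finset.univ.sup fun j => (G i j).totalDegree)
        (Finset.mem_univ i)
      exact Nat.add_le_add_right (h1.trans h2) 1
    · rw [Finset.mem_range, not_lt] at hk
      exact homogeneousComponent_eq_zero _ _ (by omega)
  let gN := Submodule.span (MvPolynomial (Fin (e + 1)) P) (Set.range g)
  have happrox : ∀ F ∈ homLift N, ∃ H ∈ gN, ∀ j, C τ ∣ F j - H j := by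
    intro F hF
    have hm : Pr F ∈ (homLift N).map Pr := Submodule.mem_map_of_mem hF
    rw [← hgb, ← show Pr '' Set.range G = Set.range gbar by
      rw [← Set.range_comp]; exact congrArg Set.range (funext hGg), ← Submodule.map_span] at hm
    obtain ⟨H, hH, hHF⟩ := hm
    refine ⟨H, ?_, fun j => hπker _ ?_⟩
    · refine Submodule.span_le.2 ?_ hH
      rintro _ ⟨i, rfl⟩
      rw [SetLike.mem_coe, hGsum]
      exact Submodule.sum_mem _ fun k _ => Submodule.subset_span ⟨(i, k), rfl⟩
    · rw [map_sub, sub_eq_zero]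
      exact (congrFun hHF j).symm
  -- successive approximation in each degree
  have hdeg : ∀ (d : ℕ) (F : Fin s → MvPolynomial (Fin (e + 1)) P), F ∈ homLift N →
      (∀ j, (F j).IsHomogeneous d) → F ∈ gN := fun d F hF hFd =>
    mem_span_of_homogeneous (τ := τ) (homLift N) (fun x hx => mem_homLift_of_smul hN dvd_rfl hx) g
      (fun p => (p.2 : ℕ)) hghom hgN (fun F hF => by
        obtain ⟨H, hH, hHF⟩ := happrox F hF
        obtain ⟨A, rfl⟩ := (Submodule.mem_span_range_iff_exists_fun _).1 hH
        exact ⟨A, hHF⟩) hF hFd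
  -- dehomogenise
  refine ⟨(Finset.univ.image fun p => fun j => dehom P e (g p j)), le_antisymm ?_ fun x hx => ?_⟩
  · rw [Submodule.span_le]
    intro y hy
    obtain ⟨p, -, rfl⟩ := Finset.mem_image.1 hy
    have := hgN p (p.2 : ℕ)
    simpa [homogeneousComponent_eq_self (hghom p _)] using this
  · let M := Finset.univ.sup fun j => (x j).totalDegree
    have hh : ∀ j, (hom M (x j)).IsHomogeneous M := fun j =>
      hom_isHomogeneous M _ (Finset.le_sup (f := fun j => (x j).totalDegree) (Finset.mem_univ j))
    have hm := hdeg M (fun j => hom M (x j))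
      (mem_homLift_of_homogeneous hh (by simpa [dehom_hom] using hx)) hh
    obtain ⟨A, hA⟩ := (Submodule.mem_span_range_iff_exists_fun _).1 hm
    have : x = ∑ p, dehom P e (A p) • (fun j => dehom P e (g p j)) := funext fun j => by
      have h1 := congrArg (fun F => dehom P e (F j)) hA
      simp only [Finset.sum_apply, map_sum, Pi.smul_apply, smul_eq_mul, map_mul, dehom_hom] at h1 ⊢
      exact h1.symm
    rw [this]
    exact Submodule.sum_mem _ fun p _ => Submodule.smul_mem _ _
      (Submodule.subset_span (Finset.mem_coe.2 (Finset.mem_image.2 ⟨p, Finset.mem_univ _, rfl⟩)))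

end Groth.Agent.TopFT
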