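import Mathlib.RingTheory.FiniteType
import Mathlib.RingTheory.Ideal.Quotient.Noetherian
import Groth.Agent.AdicLim.Noetherian
import Groth.Agent.TopFT.Homog
import Groth.Agent.TopFT.RPowBasic

/-!
Finite type algebras over topologically finite type algebras are nice.
-/

set_option autoImplicit false

namespace Groth.Agent.TopFT

open AdicRing MvPolynomial

universe u v w

variable {R : Type u} [CommRing R] {I : Ideal R}

theorem isNoetherianRing_rPow [IsNoetherianRing R] (n : ℕ) : IsNoetherianRing (RPow R I n) := by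
  have hI : I.FG := IsNoetherian.noetherian I
  have := isAdicComplete_rPow hI n
  have : IsNoetherianRing (RPow R I n ⧸ I.map (algebraMap R (RPow R I n))) :=
    isNoetherianRing_of_ringEquiv _ ((Ideal.quotEquivOfEq (ker_red hI n).symm).trans
      (RingHom.quotientKerEquivOfSurjective (red_surjective n))).symm
  exact AdicLim.isNoetherianRing_of_isAdicComplete (hI.map (algebraMap R (RPow R I n)))

section Val

theorem map_span_singleton' {S : Type v} [CommRing S] (f : R →+* S) (t : R) :
    (Ideal.span {t}).map f = Ideal.span {f t} :=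
  (Ideal.map_span f {t}).trans (congrArg _ Set.image_singleton)

variable {t : R}

theorem isUnit_or_dvd_pow [IsDomain R] [PreValuationRing R] [Ring.KrullDimLE 1 R] (ht : t ≠ 0)
    (htu : ¬IsUnit t) (x : R) : IsUnit x ∨ ∃ k : ℕ, t ∣ x ^ k := by
  haveI : ValuationRing R := { }
  haveI : IsLocalRing R := ValuationRing.isLocalRing R
  by_cases hx : IsUnit x
  · exact Or.inl hx
  right
  have h : x ∈ (Ideal.span {t}).radical := by
    rw [Ideal.radical_eq_sInf, Ideal.mem_sInf]
    rintro P ⟨hP, hPp⟩
    haveI := hPp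
    have hP0 : P ≠ ⊥ := fun h0 => ht (by
      simpa [h0, Ideal.span_singleton_le_iff_mem] using hP)
    haveI : P.IsMaximal := Ideal.IsPrime.isMaximal_of_ne_bot hPp hP0
    rw [IsLocalRing.eq_maximalIdeal (I := P) inferInstance]
    exact (IsLocalRing.mem_maximalIdeal x).2 hx
  obtain ⟨k, hk⟩ := h
  exact ⟨k, Ideal.mem_span_singleton.1 hk⟩

theorem not_isUnit_of_isAdicComplete [Nontrivial R] [IsAdicComplete (Ideal.span {t}) R] :
    ¬IsUnit t := fun h => one_ne_zero (α := R)
  (IsHausdorff.haus (inferInstance : IsHausdorff (Ideal.span {t}) R) 1 fun n => by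
    rw [Ideal.span_singleton_eq_top.2 h, Ideal.top_pow, Submodule.top_smul]
    exact SModEq.top)

/-- Every finite type algebra over restricted power series over a valuation base is nice. -/
theorem nice_mvPolynomial_val [IsDomain R] [PreValuationRing R] [Ring.KrullDimLE 1 R] (ht : t ≠ 0)
    [IsAdicComplete (Ideal.span {t}) R] (n e : ℕ) :
    Nice (Ideal.span {(C (algebraMap R (RPow R (Ideal.span {t}) n) t) :
      MvPolynomial (Fin e) (RPow R (Ideal.span {t}) n))}) := by
  set τ := algebraMap R (RPow R (Ideal.span {t}) n) t with hτdef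
  have hI : (Ideal.span {t}).FG := Submodule.fg_span_singleton t
  have htu : ¬IsUnit t := not_isUnit_of_isAdicComplete
  haveI : IsAdicComplete (Ideal.span {τ}) (RPow R (Ideal.span {t}) n) := by
    have := isAdicComplete_rPow (R := R) hI n
    exact (congrArg (fun J => IsAdicComplete J (RPow R (Ideal.span {t}) n))
      (map_span_singleton' _ t)).mp this
  haveI : Nontrivial (R ⧸ Ideal.span {t}) :=
    Ideal.Quotient.nontrivial_iff.2 (by rwa [Ne, Ideal.span_singleton_eq_top])
  haveI : PreValuationRing (R ⧸ Ideal.span {t}) := ⟨fun a b => by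
    obtain ⟨a, rfl⟩ := Ideal.Quotient.mk_surjective a
    obtain ⟨b, rfl⟩ := Ideal.Quotient.mk_surjective b
    obtain ⟨c, h | h⟩ := PreValuationRing.cond a b
    · exact ⟨Ideal.Quotient.mk _ c, Or.inl (by rw [← map_mul, h])⟩
    · exact ⟨Ideal.Quotient.mk _ c, Or.inr (by rw [← map_mul, h])⟩⟩
  have hW : ∀ x : R ⧸ Ideal.span {t}, ¬IsUnit x → IsNilpotent x := fun x hx => by
    obtain ⟨x, rfl⟩ := Ideal.Quotient.mk_surjective x
    rcases isUnit_or_dvd_pow ht htu x with h | ⟨k, hk⟩
    · exact absurd (h.map _) hx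
    · exact ⟨k, by rw [← map_pow, Ideal.Quotient.eq_zero_iff_mem, Ideal.mem_span_singleton]; exact hk⟩
  have hker : RingHom.ker (red (Ideal.span {t}) n) = Ideal.span {τ} := by
    exact (ker_red hI n).trans (map_span_singleton' _ t)
  have hlift : ∀ c : R ⧸ Ideal.span {t}, c ≠ 0 → ∃ c' : RPow R (Ideal.span {t}) n,
      red _ n c' = C c ∧ ∃ d' : RPow R (Ideal.span {t}) n, τ = c' * d' ∧
        ∃ d : R ⧸ Ideal.span {t}, red _ n d' = C d ∧ ¬IsUnit d := by
    intro c hc
    obtain ⟨c, rfl⟩ := Ideal.Quotient.mk_surjective c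
    rw [Ne, Ideal.Quotient.eq_zero_iff_mem, Ideal.mem_span_singleton] at hc
    obtain ⟨d, h | h⟩ := PreValuationRing.cond c t
    · refine ⟨algebraMap R _ c, red_algebraMap' n c, algebraMap R _ d, by rw [hτdef, ← h, map_mul],
        Ideal.Quotient.mk _ d, red_algebraMap' n d, fun hd => ?_⟩
      rcases isUnit_or_dvd_pow ht htu d with hd' | ⟨k, hk⟩
      · exact hc (h ▸ (IsUnit.mul_right_dvd hd').2 dvd_rfl)
      · have h0 : IsNilpotent (Ideal.Quotient.mk (Ideal.span {t}) d) :=
          ⟨k, by rw [← map_pow, Ideal.Quotient.eq_zero_iff_mem, Ideal.mem_span_singleton]; exact hk⟩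
        obtain ⟨k', hk'⟩ := h0
        exact not_isUnit_zero (hk' ▸ hd.pow k')
    · exact absurd (Dvd.intro d h) hc
  have hsatfg : ∀ (s : ℕ) (N : Submodule (MvPolynomial (Fin e) (RPow R (Ideal.span {t}) n))
      (Fin s → MvPolynomial (Fin e) (RPow R (Ideal.span {t}) n))),
      Sat (Ideal.span {C τ}) N → N.FG := fun s N hN =>
    fg_of_saturated (red (Ideal.span {t}) n) (red_surjective n) hker hW hlift N fun x hx =>
      hN x 1 fun a ha => by
        rw [pow_one, Ideal.mem_span_singleton'] at ha
        obtain ⟨b, rfl⟩ := ha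
        rw [mul_smul]
        exact N.smul_mem _ hx
  refine ⟨Submodule.fg_span_singleton _, fun s N => ?_, hsatfg⟩
  -- Artin–Rees through the saturation
  let K : Submodule (MvPolynomial (Fin e) (RPow R (Ideal.span {t}) n))
      (Fin s → MvPolynomial (Fin e) (RPow R (Ideal.span {t}) n)) :=
    { carrier := {x | ∃ j : ℕ, (C τ : MvPolynomial (Fin e) (RPow R (Ideal.span {t}) n)) ^ j • x ∈ N}
      add_mem' := fun {x y} ⟨i, hi⟩ ⟨j, hj⟩ => ⟨i + j, by
        rw [smul_add]
        refine N.add_mem ?_ ?_
        · rw [add_comm, pow_add, mul_smul]; exact N.smul_mem _ hi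
        · rw [pow_add, mul_smul]; exact N.smul_mem _ hj⟩
      zero_mem' := ⟨0, by simp⟩
      smul_mem' := fun a x ⟨j, hj⟩ => ⟨j, by rw [smul_comm]; exact N.smul_mem _ hj⟩ }
  have hK : K.FG := hsatfg s K fun x m hx => by
    obtain ⟨j, hj⟩ := hx _ (Ideal.pow_mem_pow (Ideal.mem_span_singleton_self _) m)
    exact ⟨j + m, by rwa [pow_add, mul_smul]⟩
  obtain ⟨g, hg⟩ := hK
  have hc : ∀ x ∈ g, ∃ j : ℕ, (C τ : MvPolynomial (Fin e) (RPow R (Ideal.span {t}) n)) ^ j • x ∈ N :=
    fun x hx => (SetLike.ext_iff.1 hg x).1 (Submodule.subset_span hx)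
  choose j hj using hc
  let c := g.attach.sup fun x => j x.1 x.2
  let N₀ := K.map (LinearMap.lsmul _ _
    ((C τ : MvPolynomial (Fin e) (RPow R (Ideal.span {t}) n)) ^ c))
  refine ⟨N₀, ?_, Submodule.FG.map _ ⟨g, hg⟩, c, fun m => ?_⟩
  · refine Submodule.map_le_iff_le_comap.2 ?_
    rw [← hg, Submodule.span_le]
    intro x hx
    have hle : j x hx ≤ c := Finset.le_sup (f := fun x : g => j x.1 x.2) (Finset.mem_attach g ⟨x, hx⟩)
    obtain ⟨d, hd⟩ := Nat.exists_eq_add_of_le hle
    rw [SetLike.mem_coe, Submodule.mem_comap, LinearMap.lsmul_apply]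
    rw [hd, add_comm, pow_add, mul_smul]
    exact N.smul_mem _ (hj x hx)
  · rintro x ⟨hx, hxN⟩
    rw [Ideal.span_singleton_pow, Submodule.ideal_span_singleton_smul] at hx ⊢
    obtain ⟨y, -, rfl⟩ := hx
    refine ⟨(C τ : MvPolynomial (Fin e) (RPow R (Ideal.span {t}) n)) ^ c • y,
      ⟨y, ⟨m + c, hxN⟩, LinearMap.lsmul_apply _ _⟩, ?_⟩
    show (C τ : MvPolynomial (Fin e) (RPow R (Ideal.span {t}) n)) ^ m •
        ((C τ : MvPolynomial (Fin e) (RPow R (Ideal.span {t}) n)) ^ c • y) =
      (C τ : MvPolynomial (Fin e) (RPow R (Ideal.span {t}) n)) ^ (m + c) • y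
    rw [← mul_smul, ← pow_add]

end Val

/-- Finite type algebras over restricted power series over a base ring are nice. -/
theorem nice_mvPolynomial (hR : IsBase R I) (n e : ℕ) :
    Nice (I.map (algebraMap R (MvPolynomial (Fin e) (RPow R I n)))) := by
  obtain ⟨hc, ⟨hN, -⟩ | ⟨hd, hp, hk, t, ht, rfl⟩⟩ := hR
  · haveI := hN
    haveI := isNoetherianRing_rPow (R := R) (I := I) n
    exact Nice.of_isNoetherianRing _
  · haveI := hd; haveI := hp; haveI := hk; haveI := hc
    exact (congrArg Nice (map_span_singleton' (algebraMap R (MvPolynomial (Fin e)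
      (RPow R (Ideal.span {t}) n))) t)).mpr (nice_mvPolynomial_val ht n e)

/-- Finite type algebras over topologically finite type algebras are nice. -/
theorem nice_of_finiteType (hR : IsBase R I) {A : Type v} [CommRing A] [Algebra R A]
    (hA : TopFiniteType R I A) (B : Type w) [CommRing B] [Algebra R B] [Algebra A B]
    [IsScalarTower R A B] [Algebra.FiniteType A B] : Nice (I.map (algebraMap R B)) := by
  obtain ⟨n, φ, hφ⟩ := hA
  obtain ⟨e, f, hf⟩ := Algebra.FiniteType.iff_quotient_mvPolynomial''.1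
    (inferInstance : Algebra.FiniteType A B)
  let ψ : MvPolynomial (Fin e) (RPow R I n) →+* B :=
    f.toRingHom.comp (MvPolynomial.map φ.toRingHom)
  have hψ : Function.Surjective ψ :=
    hf.comp (MvPolynomial.map_surjective φ.toRingHom hφ)
  have h := (nice_mvPolynomial hR n e).of_surjective ψ hψ
  rw [Ideal.map_map] at h
  have e1 : ψ.comp (algebraMap R (MvPolynomial (Fin e) (RPow R I n))) = algebraMap R B := by
    ext r
    show f (MvPolynomial.map φ.toRingHom (C (algebraMap R (RPow R I n) r))) = _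
    rw [map_C, ← MvPolynomial.algebraMap_eq, f.commutes]
    exact (congrArg _ (φ.commutes r)).trans (IsScalarTower.algebraMap_apply R A B r).symm
  rwa [e1] at h

/-- Topologically finite type algebras are nice. -/
theorem nice (hR : IsBase R I) {A : Type v} [CommRing A] [Algebra R A]
    (hA : TopFiniteType R I A) : Nice (I.map (algebraMap R A)) :=
  nice_of_finiteType hR hA A

/-- The ideal of definition lies in the radical and gives a complete topology. -/
theorem isAdicComplete_topFiniteType (hR : IsBase R I) {A : Type v} [CommRing A] [Algebra R A]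
    (hA : TopFiniteType R I A) : IsAdicComplete (I.map (algebraMap R A)) A := by
  obtain ⟨n, φ, hφ⟩ := hA
  haveI := isAdicComplete_rPow (ideal_fg hR) n
  letI : Algebra (RPow R I n) A := φ.toRingHom.toAlgebra
  haveI : IsScalarTower R (RPow R I n) A := IsScalarTower.of_algebraMap_eq fun r => (φ.commutes r).symm
  haveI : Module.Finite (RPow R I n) A :=
    Module.Finite.of_surjective (Algebra.linearMap (RPow R I n) A) hφ
  have h := (nice hR ⟨n, AlgHom.id R (RPow R I n), Function.surjective_id⟩).isAdicComplete A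
  rw [IsScalarTower.algebraMap_eq R (RPow R I n) A, ← Ideal.map_map]
  exact (IsAdicComplete.map_algebraMap_iff ..).2 h

end Groth.Agent.TopFT
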