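import Mathlib.RingTheory.Flat.TorsionFree
import Mathlib.RingTheory.AdicCompletion.AsTensorProduct
import Mathlib.LinearAlgebra.TensorProduct.Pi
import Mathlib.Algebra.Module.FinitePresentation
import Groth.Agent.TopFT.Main

/-!
Absence of power torsion, flatness of restricted power series, coherence.
-/

set_option autoImplicit false

namespace Groth.Agent.TopFT

open AdicRing TensorProduct

universe u v w

variable {R : Type u} [CommRing R] {I : Ideal R}

theorem noPowTorsion_base (hR : IsBase R I) : NoPowTorsion I R := by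
  obtain ⟨-, ⟨-, h⟩ | ⟨hd, -, -, t, ht, rfl⟩⟩ := hR
  · exact h
  · intro x n hx
    have := hx (t ^ n) (Ideal.pow_mem_pow (Ideal.mem_span_singleton_self t) n)
    rw [smul_eq_mul] at this
    exact (mul_eq_zero.1 this).resolve_left (pow_ne_zero _ ht)

/-- Flat modules over a ring without power torsion have none. -/
theorem noPowTorsion_of_flat (hI : I.FG) (hT : NoPowTorsion I R) (M : Type v) [AddCommGroup M]
    [Module R M] [Module.Flat R M] : NoPowTorsion I M := by
  intro x n hx
  obtain ⟨g, a, ha⟩ := Submodule.fg_iff_exists_fin_generating_family.1 (Ideal.FG.pow (n := n) hI)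
  let f : R →ₗ[R] (Fin g → R) := LinearMap.pi fun i => LinearMap.lsmul R R (a i)
  have hf : Function.Injective f := by
    rw [injective_iff_map_eq_zero]
    intro r hr
    refine hT r n fun b hb => ?_
    rw [← ha] at hb
    refine Submodule.span_induction ?_ (zero_smul R r) (fun p q _ _ hp hq => by
      rw [add_smul, hp, hq, add_zero]) (fun c p _ hp => by rw [smul_assoc, hp, smul_zero]) hb
    rintro _ ⟨i, rfl⟩
    exact congrFun hr i
  have h2 := Module.Flat.rTensor_preserves_injective_linearMap (M := M) f hf
  have h3 : (piScalarRight R R M (Fin g)) ((TensorProduct.comm R (Fin g → R) M)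
      (f.rTensor M ((1 : R) ⊗ₜ[R] x))) = 0 := by
    funext i
    simp only [LinearMap.rTensor_tmul, TensorProduct.comm_tmul, piScalarRight_apply,
      piScalarRightHom_tmul, Pi.zero_apply]
    show (a i • (1 : R)) • x = 0
    rw [smul_eq_mul, mul_one]
    exact hx _ (ha ▸ Submodule.subset_span ⟨i, rfl⟩)
  rw [LinearEquiv.map_eq_zero_iff, LinearEquiv.map_eq_zero_iff, ← map_zero (f.rTensor M)] at h3
  have h4 := congrArg (TensorProduct.lid R M) (h2 h3)
  simpa using h4

section Val

variable [IsDomain R] [PreValuationRing R] [Ring.KrullDimLE 1 R] {t : R}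

/-- Every non-zero element divides a power of `t`. -/
theorem exists_dvd_pow (ht : t ≠ 0) {r : R} (hr : r ≠ 0) (htu : ¬IsUnit t) :
    ∃ k : ℕ, r ∣ t ^ k := by
  by_cases hu : IsUnit r
  · exact ⟨0, hu.dvd⟩
  · exact (isUnit_or_dvd_pow hr hu t).resolve_left htu

/-- Modules without `t`-torsion are flat. -/
theorem flat_of_forall_smul_eq_zero (ht : t ≠ 0) (htu : ¬IsUnit t) (M : Type u) [AddCommGroup M]
    [Module R M] (hM : ∀ x : M, t • x = 0 → x = 0) : Module.Flat R M := by
  haveI : ValuationRing R := { }
  rw [Module.Flat.flat_iff_torsion_eq_bot_of_isBezout, eq_bot_iff]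
  rintro x ⟨⟨r, hr⟩, hrx⟩
  obtain ⟨k, c, hk⟩ := exists_dvd_pow ht (nonZeroDivisors.ne_zero hr) htu
  have h : t ^ k • x = 0 := by
    rw [hk, mul_comm, mul_smul]
    exact (congrArg (c • ·) hrx).trans (smul_zero c)
  show x = 0
  clear hk hrx
  induction k with
  | zero => simpa using h
  | succ k ih => exact ih (hM _ (by rwa [← mul_smul, ← pow_succ']))

end Val

/-- Restricted power series are flat over the base. -/
theorem flat_rPow (hR : IsBase R I) (n : ℕ) : Module.Flat R (RPow R I n) := by
  obtain ⟨hc, ⟨hN, -⟩ | ⟨hd, hp, hk, t, ht, rfl⟩⟩ := hR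
  · haveI := hN
    exact Module.Flat.trans R (MvPolynomial (Fin n) R) (RPow R I n)
  · haveI := hd; haveI := hp; haveI := hk; haveI := hc
    have h := (mem_nonZeroDivisors_iff_right (M₀ := RPow R (Ideal.span {t}) n)).1
      (mem_nonZeroDivisors_algebraMap ht n)
    refine flat_of_forall_smul_eq_zero ht (not_isUnit_of_isAdicComplete) _ fun x hx => h x ?_
    rw [mul_comm, ← Algebra.smul_def]
    exact hx

theorem noPowTorsion_rPow (hR : IsBase R I) (n : ℕ) : NoPowTorsion I (RPow R I n) := by
  haveI := flat_rPow hR n
  exact noPowTorsion_of_flat (ideal_fg hR) (noPowTorsion_base hR) _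

section Sat

variable {C : Type v} [CommRing C] [Algebra R C]

/-- A kernel into a module without power torsion is saturated. -/
theorem sat_ker {M : Type w} [AddCommGroup M] [Module C M] [Module R M] [IsScalarTower R C M]
    {M' : Type*} [AddCommGroup M'] [Module C M'] (f : M' →ₗ[C] M) (hM : NoPowTorsion I M) :
    Sat (I.map (algebraMap R C)) (LinearMap.ker f) := by
  intro x n hx
  refine LinearMap.mem_ker.2 (hM _ n fun a ha => ?_)
  have := hx (algebraMap R C a) (by rw [← Ideal.map_pow]; exact Ideal.mem_map_of_mem _ ha)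
  rw [LinearMap.mem_ker, map_smul, algebraMap_smul] at this
  exact this

end Sat

/-- Finite modules without power torsion over a topologically finite type algebra are finitely
presented. -/
theorem finitePresentation_of_noPowTorsion (hR : IsBase R I) {A : Type v} [CommRing A] [Algebra R A]
    (hA : TopFiniteType R I A) (M : Type w) [AddCommGroup M] [Module A M] [Module R M]
    [IsScalarTower R A M] [Module.Finite A M] (hM : NoPowTorsion I M) :
    Module.FinitePresentation A M := by
  obtain ⟨s, f, hf⟩ := Module.Finite.exists_fin' A M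
  exact Module.finitePresentation_of_surjective f hf ((nice hR hA).satfg s _ (sat_ker f hM))

end Groth.Agent.TopFT
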