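import Groth.Agent.TopFT.Torsion

/-!
Coherence of topologically finitely presented algebras.
-/

set_option autoImplicit false

namespace Groth.Agent.TopFT

open AdicRing

universe u v

variable {R : Type u} [CommRing R] {I : Ideal R}

/-- Finitely generated ideals of topologically finitely presented algebras are finitely presented. -/
theorem fg_ideal_finitePresentation (hR : IsBase R I) {A : Type v} [CommRing A] [Algebra R A]
    (hA : TopFinitePresentation R I A) (J : Ideal A) (hJ : J.FG) :
    Module.FinitePresentation A J := by
  obtain ⟨n, φ, hφ, hL⟩ := hA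
  obtain ⟨s, a, ha⟩ := Submodule.fg_iff_exists_fin_generating_family.1 hJ
  obtain ⟨l, b, hb⟩ := Submodule.fg_iff_exists_fin_generating_family.1 hL
  choose a' ha' using fun i => hφ (a i)
  let F : (Fin s → RPow R I n) × (Fin l → RPow R I n) →ₗ[RPow R I n] RPow R I n :=
    (Fintype.linearCombination (RPow R I n) a').coprod (Fintype.linearCombination (RPow R I n) b)
  have hK : (LinearMap.ker F).FG :=
    (nice hR ⟨n, AlgHom.id R (RPow R I n), Function.surjective_id⟩).satfg' _
      (sat_ker F (noPowTorsion_rPow hR n))
  let f : (Fin s → A) →ₗ[A] J := (Fintype.linearCombination A a).codRestrict J fun x => by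
    rw [← ha, ← Fintype.range_linearCombination]
    exact ⟨x, rfl⟩
  have hf : Function.Surjective f := fun ⟨y, hy⟩ => by
    rw [← ha, ← Fintype.range_linearCombination] at hy
    obtain ⟨x, hx⟩ := hy
    exact ⟨x, Subtype.ext hx⟩
  refine Module.finitePresentation_of_surjective f hf ?_
  obtain ⟨g, hg⟩ := hK
  classical
  refine ⟨g.image fun p => fun i => φ (p.1 i), le_antisymm ?_ ?_⟩
  · rw [Submodule.span_le]
    intro y hy
    obtain ⟨p, hp, rfl⟩ := Finset.mem_image.1 hy
    have h0 : p ∈ LinearMap.ker F := hg ▸ Submodule.subset_span hp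
    refine Subtype.ext ?_
    show ∑ i, φ (p.1 i) • a i = 0
    have h1 : φ (∑ i, p.1 i * a' i) + φ (∑ i, p.2 i * b i) = φ 0 := by
      rw [← map_add]; exact congrArg φ h0
    have h2 : φ (∑ i, p.2 i * b i) = 0 := by
      refine RingHom.mem_ker (f := φ.toRingHom) |>.1 (Submodule.sum_mem _ fun i _ =>
        Ideal.mul_mem_left _ _ (hb ▸ Submodule.subset_span ⟨i, rfl⟩))
    rw [h2, add_zero, map_zero, map_sum] at h1
    simpa [ha', map_mul] using h1
  · intro y hy
    choose y' hy' using fun i => hφ (y i)
    have h0 : ∑ i, y i • a i = 0 := congrArg Subtype.val (LinearMap.mem_ker.1 hy)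
    have h1 : ∑ i, y' i * a' i ∈ RingHom.ker φ.toRingHom := by
      rw [RingHom.mem_ker]
      show φ _ = 0
      simpa [map_sum, map_mul, hy', ha'] using h0
    rw [← hb, Ideal.submodule_span_eq, Ideal.mem_span_range_iff_exists_fun] at h1
    obtain ⟨c, hc⟩ := h1
    have h2 : (y', -c) ∈ LinearMap.ker F := by
      show ∑ i, y' i • a' i + ∑ i, (-c) i • b i = 0
      simp only [Pi.neg_apply, smul_eq_mul, neg_mul, Finset.sum_neg_distrib, hc, add_neg_cancel]
    rw [← hg] at h2
    have h3 : ∀ p ∈ Submodule.span (RPow R I n)
        (g : Set ((Fin s → RPow R I n) × (Fin l → RPow R I n))),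
        (fun i => φ (p.1 i)) ∈ Submodule.span A
          ((g.image fun p => fun i => φ (p.1 i) : Finset (Fin s → A)) : Set (Fin s → A)) := by
      intro p hp
      induction hp using Submodule.span_induction with
      | mem x hx => exact Submodule.subset_span (Finset.mem_image_of_mem _ hx)
      | zero =>
        convert Submodule.zero_mem _ using 1
        funext i; simp
      | add x y _ _ hx hy =>
        convert Submodule.add_mem _ hx hy using 1
        funext i; simp
      | smul r x _ hx =>
        convert Submodule.smul_mem _ (φ r) hx using 1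
        funext i; simp
    have := h3 _ h2
    simpa [hy'] using this

end Groth.Agent.TopFT
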