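import Mathlib.RingTheory.AdicCompletion.Functoriality
import Mathlib.RingTheory.FinitePresentation
import Mathlib.RingTheory.Localization.Away.Basic
import Groth.Agent.TopFT.RPowBasic

/-!
Completions of `R`-algebras for the topology of an ideal of `R`: universal property and truncations;
truncations of localizations.
-/

set_option autoImplicit false

namespace Groth.Agent.TopFT

open AdicRing

universe u v w

variable {R : Type u} [CommRing R] (I : Ideal R)

/-- The completion of an `R`-algebra. -/
abbrev cpl (S : Type v) [CommRing S] [Algebra R S] : Type v :=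
  AdicCompletion (I.map (algebraMap R S)) S

variable {I} {S : Type v} [CommRing S] [Algebra R S]

theorem map_cpl_eq (J : Ideal R) :
    (J.map (algebraMap R S)).map (algebraMap S (cpl I S)) = J.map (algebraMap R (cpl I S)) := by
  rw [Ideal.map_map, IsScalarTower.algebraMap_eq R S (cpl I S)]

theorem isAdicComplete_cpl (hI : I.FG) :
    IsAdicComplete (I.map (algebraMap R (cpl I S))) (cpl I S) :=
  (congrArg (fun J => IsAdicComplete J (cpl I S)) (map_cpl_eq I)).mp
    (isAdicComplete_map _ (hI.map _))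

/-- The truncation map of the completion. -/
noncomputable def cplProj (n : ℕ) : cpl I S →ₐ[R] S ⧸ (I ^ n).map (algebraMap R S) :=
  (Ideal.quotientEquivAlgOfEq R (Ideal.map_pow (algebraMap R S) I n).symm).toAlgHom.comp
    ((AdicCompletion.evalₐ (I.map (algebraMap R S)) n).restrictScalars R)

theorem cplProj_algebraMap (n : ℕ) (s : S) :
    cplProj n (algebraMap S (cpl I S) s) = Ideal.Quotient.mk ((I ^ n).map (algebraMap R S)) s := by
  show Ideal.quotientEquivAlgOfEq R (Ideal.map_pow (algebraMap R S) I n).symm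
    (AdicCompletion.evalₐ _ n (algebraMap S (cpl I S) s)) = _
  rw [AlgHom.commutes]
  rfl

theorem cplProj_surjective (n : ℕ) :
    Function.Surjective (cplProj (I := I) (S := S) n) := fun y => by
  obtain ⟨s, rfl⟩ := Ideal.Quotient.mk_surjective y
  exact ⟨algebraMap S (cpl I S) s, cplProj_algebraMap n s⟩

theorem ker_cplProj (hI : I.FG) (n : ℕ) :
    RingHom.ker (cplProj (I := I) (S := S) n) = (I ^ n).map (algebraMap R (cpl I S)) := by
  refine Eq.trans ?_ (((ker_evalₐ _ (hI.map _) n).trans (Ideal.map_pow _ _ _).symm).trans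
    ((congrArg (Ideal.map _) (Ideal.map_pow _ _ _).symm).trans (map_cpl_eq _)))
  ext x
  rw [RingHom.mem_ker, RingHom.mem_ker]
  exact map_eq_zero_iff (Ideal.quotientEquivAlgOfEq R (Ideal.map_pow (algebraMap R S) I n).symm)
    (AlgEquiv.injective _)

/-- Approximation by elements of `S`. -/
theorem exists_sub_mem_cpl (hI : I.FG) (n : ℕ) (x : cpl I S) :
    ∃ s : S, x - algebraMap S (cpl I S) s ∈ (I ^ n).map (algebraMap R (cpl I S)) := by
  obtain ⟨s, hs⟩ := Ideal.Quotient.mk_surjective (cplProj n x)
  exact ⟨s, by rw [← ker_cplProj hI, RingHom.mem_ker, map_sub, cplProj_algebraMap, hs, sub_self]⟩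

/-- The truncations of the completion. -/
noncomputable def cplQuotEquiv (hI : I.FG) (n : ℕ) :
    (cpl I S ⧸ (I ^ n).map (algebraMap R (cpl I S))) ≃ₐ[R] S ⧸ (I ^ n).map (algebraMap R S) :=
  (Ideal.quotientEquivAlgOfEq R (ker_cplProj hI n).symm).trans
    (Ideal.quotientKerAlgEquivOfSurjective (cplProj_surjective n))

section Lift

variable {D : Type w} [CommRing D] [Algebra R D] [IsAdicComplete (I.map (algebraMap R D)) D]

theorem lift_aux (g : S →ₐ[R] D) (n : ℕ) (a : S) (ha : a ∈ (I.map (algebraMap R S)) ^ n) :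
    g a ∈ (I.map (algebraMap R D)) ^ n := by
  rw [← Ideal.map_pow] at ha ⊢
  have := Ideal.mem_map_of_mem g.toRingHom ha
  rwa [Ideal.map_map, AlgHom.toRingHom_eq_coe, AlgHom.comp_algebraMap] at this

/-- The maps to the truncations of `D`. -/
noncomputable def liftStep (g : S →ₐ[R] D) (n : ℕ) :
    cpl I S →ₐ[R] D ⧸ (I.map (algebraMap R D)) ^ n :=
  (Ideal.Quotient.liftₐ ((I.map (algebraMap R S)) ^ n)
      ((Ideal.Quotient.mkₐ R _).comp g) fun a ha =>
        Ideal.Quotient.eq_zero_iff_mem.2 (lift_aux g n a ha)).comp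
    ((AdicCompletion.evalₐ (I.map (algebraMap R S)) n).restrictScalars R)

theorem liftStep_algebraMap (g : S →ₐ[R] D) (n : ℕ) (s : S) :
    liftStep (I := I) g n (algebraMap S (cpl I S) s) = Ideal.Quotient.mk _ (g s) := by
  show Ideal.Quotient.liftₐ ((I.map (algebraMap R S)) ^ n)
      ((Ideal.Quotient.mkₐ R ((I.map (algebraMap R D)) ^ n)).comp g)
      (fun a ha => Ideal.Quotient.eq_zero_iff_mem.2 (lift_aux g n a ha))
      (AdicCompletion.evalₐ _ n (algebraMap S (cpl I S) s)) = _
  rw [AlgHom.commutes]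
  rfl

theorem liftStep_compat (hI : I.FG) (g : S →ₐ[R] D) {m n : ℕ} (hle : m ≤ n) :
    (Ideal.Quotient.factorₐ R (Ideal.pow_le_pow_right hle)).comp (liftStep (I := I) g n) =
      liftStep g m := by
  refine AlgHom.ext fun x => ?_
  obtain ⟨s, hs⟩ := exists_sub_mem_cpl hI n x
  have hn : ∀ k ≤ n, liftStep (I := I) g k x = Ideal.Quotient.mk _ (g s) := fun k hk => by
    rw [← liftStep_algebraMap (I := I), ← sub_eq_zero, ← map_sub, ← RingHom.mem_ker]
    refine (Ideal.map_le_iff_le_comap.2 fun r hr => ?_) hs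
    rw [Ideal.mem_comap, RingHom.mem_ker, AlgHom.commutes, IsScalarTower.algebraMap_apply R D,
      Ideal.Quotient.algebraMap_eq, Ideal.Quotient.eq_zero_iff_mem, ← Ideal.map_pow]
    exact Ideal.mem_map_of_mem _ (Ideal.pow_le_pow_right hk hr)
  rw [AlgHom.comp_apply, hn n le_rfl, hn m hle]
  rfl

/-- Universal property of the completion. -/
noncomputable def cplLift (hI : I.FG) (g : S →ₐ[R] D) : cpl I S →ₐ[R] D :=
  ((AdicCompletion.ofAlgEquiv (I.map (algebraMap R D))).symm.toAlgHom.restrictScalars R).comp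
    (AdicCompletion.liftAlgHom _ (liftStep g) (liftStep_compat hI g))

theorem cplLift_algebraMap (hI : I.FG) (g : S →ₐ[R] D) (s : S) :
    cplLift hI g (algebraMap S (cpl I S) s) = g s := by
  refine sub_eq_zero.1 (IsHausdorff.haus
    (inferInstance : IsHausdorff (I.map (algebraMap R D)) D) _ fun n => ?_)
  rw [SModEq.zero, smul_eq_mul, Ideal.mul_top, ← Ideal.Quotient.eq]
  show Ideal.Quotient.mk _ ((AdicCompletion.ofAlgEquiv (I.map (algebraMap R D))).symm
    (AdicCompletion.liftAlgHom _ (liftStep g) (liftStep_compat hI g)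
      (algebraMap S (cpl I S) s))) = _
  rw [AdicCompletion.mk_ofAlgEquiv_symm, AdicCompletion.evalₐ_liftAlgHom, liftStep_algebraMap]

/-- Maps out of the completion are determined on `S`. -/
theorem cpl_hom_ext (hI : I.FG) {g h : cpl I S →ₐ[R] D}
    (e : ∀ s, g (algebraMap S (cpl I S) s) = h (algebraMap S (cpl I S) s)) : g = h := by
  refine AlgHom.ext fun x => sub_eq_zero.1 (IsHausdorff.haus
    (inferInstance : IsHausdorff (I.map (algebraMap R D)) D) _ fun n => ?_)
  obtain ⟨s, hs⟩ := exists_sub_mem_cpl hI n x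
  have key : ∀ f : cpl I S →ₐ[R] D,
      f x - f (algebraMap S (cpl I S) s) ∈ (I.map (algebraMap R D)) ^ n := fun f => by
    rw [← map_sub, ← Ideal.map_pow]
    have := Ideal.mem_map_of_mem f.toRingHom hs
    rwa [Ideal.map_map, AlgHom.toRingHom_eq_coe, AlgHom.comp_algebraMap] at this
  rw [SModEq.zero, smul_eq_mul, Ideal.mul_top]
  have := sub_mem (key g) (key h)
  rwa [e, sub_sub_sub_cancel_right] at this

end Lift

section Localization

variable {A : Type v} [CommRing A] [Algebra R A] (Q : Ideal R) (f : A)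

/-- Truncations commute with localization. -/
theorem exists_awayQuotEquiv :
    Nonempty (Localization.Away (Ideal.Quotient.mk (Q.map (algebraMap R A)) f) ≃ₐ[R]
      Localization.Away f ⧸ Q.map (algebraMap R (Localization.Away f))) := by
  let q := Ideal.Quotient.mkₐ R (Q.map (algebraMap R A))
  let L := Localization.Away f
  let L' := Localization.Away (Ideal.Quotient.mk (Q.map (algebraMap R A)) f)
  let u : (A ⧸ Q.map (algebraMap R A)) →ₐ[R] L ⧸ Q.map (algebraMap R L) :=
    Ideal.quotientMapₐ _ (IsScalarTower.toAlgHom R A L) (by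
      rw [← Ideal.map_le_iff_le_comap]
      change ((Q.map (algebraMap R A)).map (algebraMap A L)) ≤ _
      rw [Ideal.map_map, ← IsScalarTower.algebraMap_eq])
  have hu : IsUnit (u (Ideal.Quotient.mk _ f)) :=
    (IsLocalization.Away.algebraMap_isUnit (S := L) f).map (Ideal.Quotient.mk _)
  let a : L' →ₐ[R] L ⧸ Q.map (algebraMap R L) :=
    IsLocalization.liftAlgHom (M := Submonoid.powers (Ideal.Quotient.mk (Q.map (algebraMap R A)) f))
      (S := L') (f := u) fun y => by
        obtain ⟨y, n, rfl⟩ := y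
        rw [map_pow]
        exact hu.pow n
  let g : L →ₐ[R] L' := Localization.awayMapₐ q f
  let b : (L ⧸ Q.map (algebraMap R L)) →ₐ[R] L' := Ideal.Quotient.liftₐ _ g fun x hx => by
    have h : Q.map (algebraMap R L) ≤ RingHom.ker g := Ideal.map_le_iff_le_comap.2 fun r hr => by
      rw [Ideal.mem_comap, RingHom.mem_ker, AlgHom.commutes,
        IsScalarTower.algebraMap_apply R (A ⧸ Q.map (algebraMap R A)) L',
        show algebraMap R (A ⧸ Q.map (algebraMap R A)) r = 0 from
          Ideal.Quotient.eq_zero_iff_mem.2 (Ideal.mem_map_of_mem _ hr), map_zero]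
    exact h hx
  have hg : ∀ x : A, g (algebraMap A L x) = algebraMap _ L' (Ideal.Quotient.mk _ x) := fun x =>
    IsLocalization.map_eq (M := Submonoid.powers f)
      (T := Submonoid.powers (Ideal.Quotient.mk (Q.map (algebraMap R A)) f)) (S := Localization.Away f)
      (Q := Localization.Away (Ideal.Quotient.mk (Q.map (algebraMap R A)) f))
      (Submonoid.powers_le.2 ⟨1, pow_one _⟩) x
  refine ⟨AlgEquiv.ofAlgHom a b ?_ ?_⟩
  · refine Ideal.Quotient.algHom_ext R ?_
    refine IsLocalization.algHom_ext (Submonoid.powers f) (AlgHom.ext fun x => ?_)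
    show a (g (algebraMap A L x)) = Ideal.Quotient.mk _ (algebraMap A L x)
    rw [hg]
    exact IsLocalization.lift_eq _ _
  · refine IsLocalization.algHom_ext
      (Submonoid.powers (Ideal.Quotient.mk (Q.map (algebraMap R A)) f)) (AlgHom.ext fun x => ?_)
    obtain ⟨x, rfl⟩ := Ideal.Quotient.mk_surjective x
    show b (a (algebraMap _ L' (Ideal.Quotient.mk _ x))) = algebraMap _ L' (Ideal.Quotient.mk _ x)
    rw [show a (algebraMap _ L' (Ideal.Quotient.mk _ x)) = u (Ideal.Quotient.mk _ x) from
      IsLocalization.lift_eq _ _]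
    exact hg x

end Localization

end Groth.Agent.TopFT
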