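import Mathlib.RingTheory.FiniteType
import Mathlib.RingTheory.Finiteness.Finsupp
import Groth.Agent.TopFT.Cpl
import Groth.Agent.TopFT.Torsion

/-!
Topologically finite type / finite presentation are detected on truncations.
-/

set_option autoImplicit false

namespace Groth.Agent.TopFT

open AdicRing MvPolynomial

universe u v

variable {R : Type u} [CommRing R] {I : Ideal R} {A : Type v} [CommRing A] [Algebra R A]

/-- Restricted power series surject onto their truncations' polynomial rings. -/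
theorem exists_rPow_proj (hI : I.FG) (n m : ℕ) :
    ∃ p : RPow R I n →ₐ[R] MvPolynomial (Fin n) R ⧸ (I ^ m).map (algebraMap R (MvPolynomial (Fin n) R)),
      Function.Surjective p ∧ RingHom.ker p = (I ^ m).map (algebraMap R (RPow R I n)) :=
  ⟨cplProj (I := I) (S := MvPolynomial (Fin n) R) m, cplProj_surjective m, ker_cplProj hI m⟩

/-- Restricted power series evaluate in complete algebras. -/
theorem exists_rPow_lift (hI : I.FG) [IsAdicComplete (I.map (algebraMap R A)) A] {n : ℕ}
    (a : Fin n → A) :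
    ∃ φ : RPow R I n →ₐ[R] A,
      ∀ p : MvPolynomial (Fin n) R, φ (algebraMap _ (RPow R I n) p) = aeval a p :=
  ⟨cplLift (I := I) (S := MvPolynomial (Fin n) R) hI (aeval a), fun p => cplLift_algebraMap hI _ p⟩

/-- A complete algebra with finite type reduction is topologically of finite type. -/
theorem topFiniteType_of_finiteType (hI : I.FG) [IsAdicComplete (I.map (algebraMap R A)) A]
    (h : Algebra.FiniteType R (A ⧸ I.map (algebraMap R A))) : TopFiniteType R I A := by
  obtain ⟨n, f, hf⟩ := Algebra.FiniteType.iff_quotient_mvPolynomial''.1 h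
  choose a ha using fun i => Ideal.Quotient.mk_surjective (f (X i))
  obtain ⟨φ, hφ⟩ := exists_rPow_lift hI a
  refine ⟨n, φ, ?_⟩
  haveI := isAdicComplete_rPow hI n
  have hmap : (I.map (algebraMap R (RPow R I n))).map φ.toRingHom = I.map (algebraMap R A) := by
    rw [Ideal.map_map, AlgHom.toRingHom_eq_coe, AlgHom.comp_algebraMap]
  have hH : IsHausdorff ((I.map (algebraMap R (RPow R I n))).map φ.toRingHom) A := by
    rw [hmap]; infer_instance
  refine surjective_of_mk_map_comp_surjective (I := I.map (algebraMap R (RPow R I n)))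
    (f := φ.toRingHom) (haus := hH) fun y => ?_
  obtain ⟨y, rfl⟩ := Ideal.Quotient.mk_surjective y
  obtain ⟨p, hp⟩ := hf (Ideal.Quotient.mk _ y)
  refine ⟨algebraMap _ (RPow R I n) p, ?_⟩
  show Ideal.Quotient.mk _ (φ (algebraMap _ (RPow R I n) p)) = _
  rw [hφ, Ideal.Quotient.eq, hmap, ← Ideal.Quotient.eq, ← hp]
  have : f = (Ideal.Quotient.mkₐ R (I.map (algebraMap R A))).comp (aeval a) :=
    MvPolynomial.algHom_ext fun i => by simp [ha]
  rw [this]
  rfl

theorem finitePresentation_quot_mvPolynomial {Q : Ideal R} (hQ : Q.FG) (n : ℕ) :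
    Algebra.FinitePresentation R (MvPolynomial (Fin n) R ⧸ Q.map (algebraMap R (MvPolynomial (Fin n) R))) :=
  Algebra.FinitePresentation.quotient (hQ.map _)

/-- Truncations of topologically finitely presented algebras are finitely presented. -/
theorem finitePresentation_trunc (hI : I.FG) (hA : TopFinitePresentation R I A) (m : ℕ) :
    Algebra.FinitePresentation R (A ⧸ (I ^ m).map (algebraMap R A)) := by
  obtain ⟨n, φ, hφ, hker⟩ := hA
  obtain ⟨p, hp, hpker⟩ := exists_rPow_proj hI n m
  let q : RPow R I n →ₐ[R] A ⧸ (I ^ m).map (algebraMap R A) := (Ideal.Quotient.mkₐ R _).comp φ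
  have hq : ∀ x ∈ RingHom.ker p, q x = 0 := by
    intro x hx
    rw [hpker] at hx
    refine Ideal.Quotient.eq_zero_iff_mem.2 ?_
    have := Ideal.mem_map_of_mem φ.toRingHom hx
    rwa [Ideal.map_map, AlgHom.toRingHom_eq_coe, AlgHom.comp_algebraMap] at this
  let q' : (MvPolynomial (Fin n) R ⧸ (I ^ m).map (algebraMap R (MvPolynomial (Fin n) R))) →ₐ[R]
      A ⧸ (I ^ m).map (algebraMap R A) :=
    (Ideal.Quotient.liftₐ _ q hq).comp
      (Ideal.quotientKerAlgEquivOfSurjective hp).symm.toAlgHom
  have hq' : ∀ x, q' (p x) = q x := fun x => by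
    show Ideal.Quotient.liftₐ _ q hq ((Ideal.quotientKerAlgEquivOfSurjective hp).symm (p x)) = q x
    rw [show p x = Ideal.quotientKerAlgEquivOfSurjective hp (Ideal.Quotient.mk _ x) from rfl,
      AlgEquiv.symm_apply_apply]
    rfl
  haveI := finitePresentation_quot_mvPolynomial (Ideal.FG.pow (n := m) hI) n
  refine Algebra.FinitePresentation.of_surjective (f := q') (fun y => ?_) ?_
  · obtain ⟨y, rfl⟩ := Ideal.Quotient.mk_surjective y
    obtain ⟨x, rfl⟩ := hφ y
    exact ⟨p x, hq' x⟩
  · have : RingHom.ker q' = (RingHom.ker φ.toRingHom).map p.toRingHom := by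
      refine le_antisymm (fun y hy => ?_) (Ideal.map_le_iff_le_comap.2 fun x hx => ?_)
      · obtain ⟨x, rfl⟩ := hp y
        rw [RingHom.mem_ker, hq'] at hy
        have hx : φ x ∈ ((I ^ m).map (algebraMap R (RPow R I n))).map φ.toRingHom := by
          rw [Ideal.map_map, AlgHom.toRingHom_eq_coe, AlgHom.comp_algebraMap]
          exact Ideal.Quotient.eq_zero_iff_mem.1 hy
        obtain ⟨z, hz, hzx⟩ := (Ideal.mem_map_iff_of_surjective _ hφ).1 hx
        have h1 : x - z ∈ RingHom.ker φ.toRingHom := by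
          rw [RingHom.mem_ker, map_sub, sub_eq_zero]; exact hzx.symm
        have h2 := Ideal.mem_map_of_mem p.toRingHom h1
        rw [← hpker, RingHom.mem_ker] at hz
        rw [AlgHom.toRingHom_eq_coe, RingHom.coe_coe, map_sub, hz, sub_zero] at h2
        exact h2
      · rw [Ideal.mem_comap]
        show q' (p x) = 0
        rw [hq']
        show Ideal.Quotient.mk _ (φ x) = 0
        rw [show φ x = 0 from hx, map_zero]
    show (RingHom.ker q').FG
    rw [this]
    exact hker.map _

/-- A complete algebra with finitely presented truncations is topologically finitely presented. -/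
theorem topFinitePresentation_of_trunc (hR : IsBase R I)
    [IsAdicComplete (I.map (algebraMap R A)) A]
    (h : ∀ m, Algebra.FinitePresentation R (A ⧸ (I ^ (m + 1)).map (algebraMap R A))) :
    TopFinitePresentation R I A := by
  classical
  have hI := ideal_fg hR
  haveI : Algebra.FiniteType R (A ⧸ I.map (algebraMap R A)) := by
    haveI := h 0
    exact (inferInstance : Algebra.FiniteType R (A ⧸ (I ^ (0 + 1)).map (algebraMap R A))).equiv
      (Ideal.quotientEquivAlgOfEq R (by rw [zero_add, pow_one]))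
  obtain ⟨n, φ, hφ⟩ := topFiniteType_of_finiteType hI this
  refine ⟨n, φ, hφ, ?_⟩
  let J := I.map (algebraMap R (RPow R I n))
  obtain ⟨N₀, hN₀, hN₀fg, c, hc⟩ := (nice hR ⟨n, AlgHom.id R (RPow R I n),
    Function.surjective_id⟩).tame' (M := RPow R I n) (RingHom.ker φ.toRingHom)
  haveI := h c
  obtain ⟨p, hp, hpker⟩ := exists_rPow_proj hI n (c + 1)
  let q : RPow R I n →ₐ[R] A ⧸ (I ^ (c + 1)).map (algebraMap R A) :=
    (Ideal.Quotient.mkₐ R _).comp φ
  have hq : ∀ x ∈ RingHom.ker p, q x = 0 := by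
    intro x hx
    rw [hpker] at hx
    refine Ideal.Quotient.eq_zero_iff_mem.2 ?_
    have := Ideal.mem_map_of_mem φ.toRingHom hx
    rwa [Ideal.map_map, AlgHom.toRingHom_eq_coe, AlgHom.comp_algebraMap] at this
  let q' : (MvPolynomial (Fin n) R ⧸ (I ^ (c + 1)).map (algebraMap R (MvPolynomial (Fin n) R))) →ₐ[R]
      A ⧸ (I ^ (c + 1)).map (algebraMap R A) :=
    (Ideal.Quotient.liftₐ _ q hq).comp
      (Ideal.quotientKerAlgEquivOfSurjective hp).symm.toAlgHom
  have hq' : ∀ x, q' (p x) = q x := fun x => by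
    show Ideal.Quotient.liftₐ _ q hq ((Ideal.quotientKerAlgEquivOfSurjective hp).symm (p x)) = q x
    rw [show p x = Ideal.quotientKerAlgEquivOfSurjective hp (Ideal.Quotient.mk _ x) from rfl,
      AlgEquiv.symm_apply_apply]
    rfl
  haveI := finitePresentation_quot_mvPolynomial (Ideal.FG.pow (n := c + 1) hI) n
  obtain ⟨g, hg⟩ := Algebra.FinitePresentation.ker_fG_of_surjective q' fun y => by
    obtain ⟨y, rfl⟩ := Ideal.Quotient.mk_surjective y
    obtain ⟨x, rfl⟩ := hφ y
    exact ⟨p x, hq' x⟩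
  have hgl : ∀ y ∈ g, ∃ l ∈ RingHom.ker φ.toRingHom, p l = y := by
    intro y hy
    obtain ⟨x, rfl⟩ := hp y
    have h0 : q x = 0 := (hq' x).symm.trans (RingHom.mem_ker.1 (hg ▸ Submodule.subset_span hy))
    have hx : φ x ∈ ((I ^ (c + 1)).map (algebraMap R (RPow R I n))).map φ.toRingHom := by
      rw [Ideal.map_map, AlgHom.toRingHom_eq_coe, AlgHom.comp_algebraMap]
      exact Ideal.Quotient.eq_zero_iff_mem.1 h0
    obtain ⟨z, hz, hzx⟩ := (Ideal.mem_map_iff_of_surjective _ hφ).1 hx
    refine ⟨x - z, by rw [RingHom.mem_ker, map_sub, sub_eq_zero]; exact hzx.symm, ?_⟩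
    rw [← hpker, RingHom.mem_ker] at hz
    rw [map_sub, hz, sub_zero]
  choose l hl hlp using hgl
  let L₁ : Ideal (RPow R I n) := Submodule.span _ (Set.range fun y : g => l y.1 y.2) ⊔ N₀
  have hle : L₁ ≤ RingHom.ker φ.toRingHom :=
    sup_le (Submodule.span_le.2 (Set.range_subset_iff.2 fun y => hl _ _)) hN₀
  suffices RingHom.ker φ.toRingHom ≤ L₁ by
    rw [le_antisymm this hle]
    exact (Submodule.fg_span (Set.finite_range _)).sup hN₀fg
  intro x hx
  have hpx : p x ∈ Submodule.span (MvPolynomial (Fin n) R ⧸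
      (I ^ (c + 1)).map (algebraMap R (MvPolynomial (Fin n) R))) (g : Set (MvPolynomial (Fin n) R ⧸
      (I ^ (c + 1)).map (algebraMap R (MvPolynomial (Fin n) R)))) := by
    refine (SetLike.ext_iff.1 hg _).2 ?_
    show q' (p x) = 0
    rw [hq']
    show Ideal.Quotient.mk _ (φ x) = 0
    rw [show φ x = 0 from hx, map_zero]
  obtain ⟨x₁, hx₁, hpx₁⟩ : ∃ x₁ ∈ Submodule.span (RPow R I n) (Set.range fun y : g => l y.1 y.2),
      p x₁ = p x := by
    revert hpx
    generalize p x = y₀
    intro hpx
    induction hpx using Submodule.span_induction with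
    | mem y hy => exact ⟨l y hy, Submodule.subset_span ⟨⟨y, hy⟩, rfl⟩, hlp y hy⟩
    | zero => exact ⟨0, zero_mem _, map_zero p⟩
    | add a b _ _ ha hb =>
      obtain ⟨a', ha', rfl⟩ := ha
      obtain ⟨b', hb', rfl⟩ := hb
      exact ⟨a' + b', add_mem ha' hb', map_add p a' b'⟩
    | smul r a _ ha =>
      obtain ⟨a', ha', rfl⟩ := ha
      obtain ⟨r', rfl⟩ := hp r
      exact ⟨r' • a', Submodule.smul_mem _ r' ha', map_mul p r' a'⟩
  have hd : x - x₁ ∈ RingHom.ker φ.toRingHom :=
    sub_mem hx ((Submodule.span_le.2 (Set.range_subset_iff.2 fun y : g => hl y.1 y.2)) hx₁)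
  have hd2 : x - x₁ ∈ (I ^ (c + 1)).map (algebraMap R (RPow R I n)) := by
    rw [← hpker, RingHom.mem_ker, map_sub, hpx₁, sub_self]
  have hd3 := hc 1 ⟨by
    rw [SetLike.mem_coe, smul_eq_mul, Ideal.mul_top, add_comm, ← Ideal.map_pow]
    exact hd2, hd⟩
  have := add_mem (Submodule.mem_sup_left (T := N₀) hx₁)
    (Submodule.mem_sup_right (S := Submodule.span (RPow R I n) (Set.range fun y : g => l y.1 y.2))
      (Submodule.smul_le_right hd3))
  rwa [add_sub_cancel] at this

end Groth.Agent.TopFT
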