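import Mathlib.RingTheory.Finiteness.FinitePresentationLocal
import Mathlib.RingTheory.Finiteness.FiniteTypeLocal
import Mathlib.LinearAlgebra.DFinsupp
import Mathlib.RingTheory.Flat.FaithfullyFlat.Basic
import Groth.Agent.TopFT.Trunc

/-!
Complete localizations of topologically finite type algebras.
-/

set_option autoImplicit false

namespace Groth.Agent.TopFT

open AdicRing TensorProduct

universe u v

variable {R : Type u} [CommRing R] {I : Ideal R} {A : Type v} [CommRing A] [Algebra R A]

theorem isAdicComplete_cLoc (hI : I.FG) (f : A) :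
    IsAdicComplete (I.map (algebraMap R (CLoc I f))) (CLoc I f) :=
  isAdicComplete_cpl (S := Localization.Away f) hI

/-- Truncations of complete localizations. -/
theorem nonempty_cLocTruncEquiv (hI : I.FG) (f : A) (m : ℕ) :
    Nonempty (Localization.Away (Ideal.Quotient.mk ((I ^ m).map (algebraMap R A)) f) ≃ₐ[R]
      (CLoc I f ⧸ (I ^ m).map (algebraMap R (CLoc I f)))) :=
  (exists_awayQuotEquiv (I ^ m) f).map fun e =>
    e.trans (cplQuotEquiv (S := Localization.Away f) hI m).symm

theorem span_map_mk_eq_top {ι : Type*} {f : ι → A} (hf : Ideal.span (Set.range f) = ⊤)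
    (Q : Ideal A) : Ideal.span (Set.range fun i => Ideal.Quotient.mk Q (f i)) = ⊤ := by
  rw [show (fun i => Ideal.Quotient.mk Q (f i)) = Ideal.Quotient.mk Q ∘ f from rfl,
    Set.range_comp, ← Ideal.map_span, hf, Ideal.map_top]

theorem finiteType_trunc (hI : I.FG) (hA : TopFiniteType R I A) (m : ℕ) :
    Algebra.FiniteType R (A ⧸ (I ^ m).map (algebraMap R A)) := by
  obtain ⟨n, φ, hφ⟩ := hA
  obtain ⟨p, hp, hker⟩ := exists_rPow_proj hI n m
  haveI := finitePresentation_quot_mvPolynomial (Ideal.FG.pow (n := m) hI) n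
  let q : RPow R I n →ₐ[R] A ⧸ (I ^ m).map (algebraMap R A) := (Ideal.Quotient.mkₐ R _).comp φ
  have hq : ∀ x ∈ RingHom.ker p, q x = 0 := by
    intro x hx
    rw [hker] at hx
    refine Ideal.Quotient.eq_zero_iff_mem.2 ?_
    have := Ideal.mem_map_of_mem φ.toRingHom hx
    rwa [Ideal.map_map, AlgHom.toRingHom_eq_coe, AlgHom.comp_algebraMap] at this
  refine (inferInstance : Algebra.FiniteType R (MvPolynomial (Fin n) R ⧸
    (I ^ m).map (algebraMap R (MvPolynomial (Fin n) R)))).of_surjective
    ((Ideal.Quotient.liftₐ _ q hq).comp (Ideal.quotientKerAlgEquivOfSurjective hp).symm.toAlgHom) ?_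
  show Function.Surjective (⇑(Ideal.Quotient.liftₐ _ q hq) ∘
    ⇑(Ideal.quotientKerAlgEquivOfSurjective hp).symm)
  refine Function.Surjective.comp (fun y => ?_) (AlgEquiv.surjective _)
  obtain ⟨y, rfl⟩ := Ideal.Quotient.mk_surjective y
  obtain ⟨x, rfl⟩ := hφ y
  exact ⟨Ideal.Quotient.mk _ x, rfl⟩

theorem topFiniteType_iff_cLoc (hI : I.FG) [IsAdicComplete (I.map (algebraMap R A)) A] {r : ℕ}
    (f : Fin r → A) (hf : Ideal.span (Set.range f) = ⊤) :
    TopFiniteType R I A ↔ ∀ i, TopFiniteType R I (CLoc I (f i)) := by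
  constructor
  · intro hA i
    haveI := isAdicComplete_cLoc hI (f i)
    refine topFiniteType_of_finiteType hI ?_
    have h := finiteType_trunc hI hA 1
    obtain ⟨e⟩ := nonempty_cLocTruncEquiv hI (f i) 1
    haveI : Algebra.FiniteType (A ⧸ (I ^ 1).map (algebraMap R A))
        (Localization.Away (Ideal.Quotient.mk ((I ^ 1).map (algebraMap R A)) (f i))) :=
      inferInstance
    exact ((h.trans this).equiv e).equiv (Ideal.quotientEquivAlgOfEq R (by rw [pow_one]))
  · intro h
    refine topFiniteType_of_finiteType hI ?_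
    have := Algebra.FiniteType.of_span_eq_top_target (R := R)
      (Set.range fun i => Ideal.Quotient.mk ((I ^ 1).map (algebraMap R A)) (f i))
      (span_map_mk_eq_top hf _) (by
        rintro _ ⟨i, rfl⟩
        obtain ⟨e⟩ := nonempty_cLocTruncEquiv hI (f i) 1
        exact (finiteType_trunc hI (h i) 1).equiv e.symm)
    exact this.equiv (Ideal.quotientEquivAlgOfEq R (by rw [pow_one]))

theorem topFinitePresentation_iff_cLoc (hR : IsBase R I)
    [IsAdicComplete (I.map (algebraMap R A)) A] {r : ℕ}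
    (f : Fin r → A) (hf : Ideal.span (Set.range f) = ⊤) :
    TopFinitePresentation R I A ↔ ∀ i, TopFinitePresentation R I (CLoc I (f i)) := by
  have hI := ideal_fg hR
  constructor
  · intro hA i
    haveI := isAdicComplete_cLoc hI (f i)
    refine topFinitePresentation_of_trunc hR fun m => ?_
    haveI := finitePresentation_trunc hI hA (m + 1)
    obtain ⟨e⟩ := nonempty_cLocTruncEquiv hI (f i) (m + 1)
    haveI : Algebra.FinitePresentation (A ⧸ (I ^ (m + 1)).map (algebraMap R A))
        (Localization.Away (Ideal.Quotient.mk ((I ^ (m + 1)).map (algebraMap R A)) (f i))) :=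
      IsLocalization.Away.finitePresentation (Ideal.Quotient.mk _ (f i))
    haveI := Algebra.FinitePresentation.trans R (A ⧸ (I ^ (m + 1)).map (algebraMap R A))
      (Localization.Away (Ideal.Quotient.mk ((I ^ (m + 1)).map (algebraMap R A)) (f i)))
    exact Algebra.FinitePresentation.equiv e
  · intro h
    refine topFinitePresentation_of_trunc hR fun m => ?_
    refine Algebra.FinitePresentation.of_span_eq_top_target
      (Set.range fun i => Ideal.Quotient.mk ((I ^ (m + 1)).map (algebraMap R A)) (f i))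
      (span_map_mk_eq_top hf _) ?_
    rintro _ ⟨i, rfl⟩
    obtain ⟨e⟩ := nonempty_cLocTruncEquiv hI (f i) (m + 1)
    haveI := finitePresentation_trunc hI (h i) (m + 1)
    exact Algebra.FinitePresentation.equiv e.symm

theorem flat_cLoc (hR : IsBase R I) (hA : TopFiniteType R I A) (f : A) :
    Module.Flat A (CLoc I f) := by
  haveI := (nice_of_finiteType hR hA (Localization.Away f)).flat
  haveI : Module.Flat A (Localization.Away f) :=
    IsLocalization.flat (Localization.Away f) (Submonoid.powers f)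
  exact Module.Flat.trans A (Localization.Away f) (CLoc I f)

theorem faithfullyFlat_cLoc (hR : IsBase R I) (hA : TopFiniteType R I A) {r : ℕ}
    (f : Fin r → A) (hf : Ideal.span (Set.range f) = ⊤) :
    Module.FaithfullyFlat A (∀ i, CLoc I (f i)) := by
  have hI := ideal_fg hR
  haveI := fun i => flat_cLoc hR hA (f i)
  haveI : Module.Flat A (∀ i, CLoc I (f i)) :=
    Module.Flat.of_linearEquiv
      (DFinsupp.linearEquivFunOnFintype (R := A) (M := fun i => CLoc I (f i))).symm
  refine @Module.FaithfullyFlat.mk A _ _ _ _ ‹_› fun m hm htop => ?_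
  haveI := isAdicComplete_topFiniteType hR hA
  have hJm : I.map (algebraMap R A) ≤ m :=
    (IsAdicComplete.le_jacobson_bot _).trans (sInf_le ⟨bot_le, hm⟩)
  obtain ⟨i, hi⟩ : ∃ i, f i ∉ m := by
    by_contra h
    push Not at h
    exact hm.ne_top (top_le_iff.1 (hf ▸ Ideal.span_le.2 (Set.range_subset_iff.2 h)))
  letI := Ideal.Quotient.field m
  have hu : ∀ y : Submonoid.powers (f i), IsUnit (Ideal.Quotient.mkₐ R m y) := by
    rintro ⟨_, n, rfl⟩
    rw [map_pow]
    exact (isUnit_iff_ne_zero.2 fun h => hi (Ideal.Quotient.eq_zero_iff_mem.1 h)).pow n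
  let L := Localization.Away (f i)
  let ℓ : L →ₐ[R] A ⧸ m :=
    IsLocalization.liftAlgHom (M := Submonoid.powers (f i)) (S := L)
      (f := Ideal.Quotient.mkₐ R m) hu
  let ℓ' : (L ⧸ (I ^ 1).map (algebraMap R L)) →ₐ[R] A ⧸ m :=
    Ideal.Quotient.liftₐ _ ℓ fun x hx => by
      have h : (I ^ 1).map (algebraMap R L) ≤ RingHom.ker ℓ :=
        Ideal.map_le_iff_le_comap.2 fun y hy => by
          rw [Ideal.mem_comap, RingHom.mem_ker, AlgHom.commutes,
            IsScalarTower.algebraMap_apply R A (A ⧸ m), Ideal.Quotient.algebraMap_eq,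
            Ideal.Quotient.eq_zero_iff_mem]
          exact hJm (Ideal.mem_map_of_mem _ (by simpa using hy))
      exact h hx
  let ψ : CLoc I (f i) →ₐ[R] A ⧸ m := ℓ'.comp (cplProj (S := L) 1)
  have hψ : ∀ a : A, ψ (algebraMap A (CLoc I (f i)) a) = Ideal.Quotient.mk m a := fun a => by
    show ℓ' (cplProj (S := L) 1 (algebraMap L (cpl I L) (algebraMap A L a))) = _
    rw [cplProj_algebraMap]
    exact IsLocalization.lift_eq (M := Submonoid.powers (f i)) (S := L) hu a
  have h1 : (1 : ∀ i, CLoc I (f i)) ∈ m • (⊤ : Submodule A (∀ i, CLoc I (f i))) := by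
    rw [htop]; trivial
  have key : ∀ x ∈ m • (⊤ : Submodule A (∀ i, CLoc I (f i))), ψ (x i) = 0 := fun x hx =>
    Submodule.smul_induction_on hx (fun a ha y _ => by
      rw [Pi.smul_apply, Algebra.smul_def, map_mul, hψ, Ideal.Quotient.eq_zero_iff_mem.2 ha,
        zero_mul]) fun p q hp hq => by rw [Pi.add_apply, map_add, hp, hq, add_zero]
  have := key 1 h1
  rw [Pi.one_apply, map_one] at this
  exact one_ne_zero this

theorem admissible_iff_cLoc (hR : IsBase R I) [IsAdicComplete (I.map (algebraMap R A)) A] {r : ℕ}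
    (f : Fin r → A) (hf : Ideal.span (Set.range f) = ⊤) :
    Admissible R I A ↔ ∀ i, Admissible R I (CLoc I (f i)) := by
  have hI := ideal_fg hR
  constructor
  · rintro ⟨hA, hT⟩ i
    refine ⟨(topFinitePresentation_iff_cLoc hR f hf).1 hA i, fun x n hx => ?_⟩
    obtain ⟨k, φ, hφ, -⟩ := hA
    haveI := flat_cLoc hR ⟨k, φ, hφ⟩ (f i)
    have hTA : NoPowTorsion (I.map (algebraMap R A)) A := fun y l hy => hT y l fun a ha => by
      rw [← algebraMap_smul A a y]
      exact hy _ (by rw [← Ideal.map_pow]; exact Ideal.mem_map_of_mem _ ha)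
    refine noPowTorsion_of_flat (hI.map (algebraMap R A)) hTA (CLoc I (f i)) x n fun b hb => ?_
    rw [← Ideal.map_pow] at hb
    refine Submodule.span_induction ?_ (zero_smul A x) (fun p q _ _ hp hq => by
      rw [add_smul, hp, hq, add_zero]) (fun c p _ hp => by rw [smul_assoc, hp, smul_zero]) hb
    rintro _ ⟨a, ha, rfl⟩
    rw [algebraMap_smul]
    exact hx a ha
  · intro h
    have hA := (topFinitePresentation_iff_cLoc hR f hf).2 fun i => (h i).1
    obtain ⟨k, φ, hφ, hk⟩ := hA
    haveI := faithfullyFlat_cLoc hR ⟨k, φ, hφ⟩ f hf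
    refine ⟨⟨k, φ, hφ, hk⟩, fun x n hx => ?_⟩
    have h0 : algebraMap A (∀ i, CLoc I (f i)) x = 0 := funext fun i => by
      refine (h i).2 _ n fun a ha => ?_
      show a • algebraMap A (CLoc I (f i)) x = 0
      rw [← IsScalarTower.toAlgHom_apply R A (CLoc I (f i)), ← map_smul, hx a ha, map_zero]
    refine (Module.FaithfullyFlat.one_tmul_eq_zero_iff A A (A := ∀ i, CLoc I (f i)) x).1 ?_
    have e : (1 : ∀ i, CLoc I (f i)) ⊗ₜ[A] (x • (1 : A)) = 0 := by
      rw [← TensorProduct.smul_tmul, Algebra.smul_def, h0, zero_mul, TensorProduct.zero_tmul]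
    rwa [smul_eq_mul, mul_one] at e

end Groth.Agent.TopFT
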