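import Mathlib.RingTheory.Flat.FaithfullyFlat.Basic
import Mathlib.LinearAlgebra.TensorProduct.RightExactness
import Mathlib.RingTheory.Localization.Away.Basic
import Mathlib.RingTheory.Localization.Module
import Mathlib.RingTheory.Flat.Localization
import Groth.Agent.TopFT.Nice

/-!
Flatness criteria: modulo a power of an ideal, and modulo a non-zero-divisor.
-/

set_option autoImplicit false

namespace Groth.Agent.TopFT

open TensorProduct

universe u v w

variable {A : Type u} [CommRing A] {M : Type v} [AddCommGroup M] [Module A M]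

/-- Tensoring an injection of `B`-modules with `M` stays injective if `B ⊗ M` is flat over `B`. -/
theorem rTensor_injective_of_flat_baseChange (B : Type u) [CommRing B] [Algebra A B]
    [Module.Flat B (B ⊗[A] M)] {N N' : Type u} [AddCommGroup N] [Module A N] [Module B N]
    [IsScalarTower A B N] [AddCommGroup N'] [Module A N'] [Module B N'] [IsScalarTower A B N']
    (f : N →ₗ[B] N') (hf : Function.Injective f) :
    Function.Injective ((f.restrictScalars A).rTensor M) := by
  have h := Module.Flat.rTensor_preserves_injective_linearMap (M := B ⊗[A] M) f hf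
  let eN := AlgebraTensorModule.cancelBaseChange A B B N M
  let eN' := AlgebraTensorModule.cancelBaseChange A B B N' M
  have key : ∀ x, eN' (f.rTensor (B ⊗[A] M) x) = (f.restrictScalars A).rTensor M (eN x) := by
    intro x
    induction x using TensorProduct.induction_on with
    | zero => simp only [map_zero]
    | add x y hx hy => simp only [map_add, hx, hy]
    | tmul n y =>
      induction y using TensorProduct.induction_on with
      | zero => simp only [tmul_zero, map_zero]
      | add a b ha hb => simp only [tmul_add, map_add, ha, hb]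
      | tmul b m =>
        simp only [eN, eN', LinearMap.rTensor_tmul, AlgebraTensorModule.cancelBaseChange_tmul,
          LinearMap.coe_restrictScalars, map_smul]
  intro x y hxy
  obtain ⟨x, rfl⟩ := eN.surjective x
  obtain ⟨y, rfl⟩ := eN.surjective y
  rw [← key, ← key, eN'.injective.eq_iff] at hxy
  rw [h hxy]

section Adic

/-- The kernel of `L ⊗ M → M` lies in every power, when the quotients `A/J^k ⊗ M` are flat. -/
theorem mem_pow_smul_of_lTensor_eq_zero {J : Ideal A} (Qs : ℕ → Ideal A)
    (hQs : ∀ k, Qs k = J ^ (k + 1))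
    (hflat : ∀ k, Module.Flat (A ⧸ Qs k) ((A ⧸ Qs k) ⊗[A] M))
    {L : Ideal A} (hAR : AR J (L : Submodule A A))
    {z : L ⊗[A] M} (hz : L.subtype.rTensor M z = 0) (m : ℕ) :
    z ∈ J ^ m • (⊤ : Submodule A (L ⊗[A] M)) := by
  obtain ⟨N₀, hle, -, c, hc⟩ := hAR
  set Q := Qs (m + c) with hQ
  haveI := hflat (m + c)
  let f : L →ₗ[A] A ⧸ Q := (Ideal.Quotient.mkₐ A Q).toLinearMap ∘ₗ L.subtype
  let L' : Submodule (A ⧸ Q) (A ⧸ Q) := L.map (Ideal.Quotient.mk Q)
  let g : L →ₗ[A] L' := f.codRestrict (L'.restrictScalars A) fun l => Ideal.mem_map_of_mem _ l.2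
  have hg : Function.Surjective g := fun ⟨y, hy⟩ => by
    obtain ⟨x, hx, rfl⟩ := (Ideal.mem_map_iff_of_surjective _ Ideal.Quotient.mk_surjective).1 hy
    exact ⟨⟨x, hx⟩, rfl⟩
  have hinj := rTensor_injective_of_flat_baseChange (A := A) (M := M) (A ⧸ Q) L'.subtype
    L'.injective_subtype
  have hgz : g.rTensor M z = 0 := by
    apply hinj
    rw [map_zero, ← LinearMap.comp_apply, ← LinearMap.rTensor_comp,
      show ((L'.subtype).restrictScalars A : L' →ₗ[A] A ⧸ Q) ∘ₗ g =
          (Ideal.Quotient.mkₐ A Q).toLinearMap ∘ₗ L.subtype from rfl, LinearMap.rTensor_comp, LinearMap.comp_apply, hz, map_zero]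
  have hex : Function.Exact (LinearMap.ker g).subtype g := LinearMap.exact_subtype_ker_map g
  obtain ⟨w, rfl⟩ := (rTensor_exact M hex hg z).1 hgz
  clear hgz hz
  induction w using TensorProduct.induction_on with
  | zero => simp
  | add a b ha hb => rw [map_add]; exact add_mem ha hb
  | tmul k x =>
    have hk : ((k : L) : A) ∈ Q := Ideal.Quotient.eq_zero_iff_mem.1
      (congrArg Subtype.val (LinearMap.mem_ker.1 k.2))
    have : ((k : L) : A) ∈ J ^ m • N₀ := hc m ⟨by
      rw [smul_eq_mul, Ideal.mul_top]
      exact Ideal.pow_le_pow_right (Nat.le_succ _) ((SetLike.ext_iff.1 (hQs (m + c)) _).1 hk), (k : L).2⟩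
    have h2 : (k : L) ∈ J ^ m • (⊤ : Submodule A L) := by
      rw [← Submodule.comap_map_eq_of_injective L.injective_subtype (J ^ m • ⊤ : Submodule A L),
        Submodule.map_smul'', Submodule.map_top, Submodule.range_subtype]
      exact Submodule.smul_mono le_rfl hle this
    rw [LinearMap.rTensor_tmul]
    show (k : L) ⊗ₜ[A] x ∈ J ^ m • ⊤
    refine Submodule.smul_induction_on h2 (fun a ha n _ => ?_) (fun p q hp hq => ?_)
    · rw [← smul_tmul']
      exact Submodule.smul_mem_smul ha trivial
    · rw [add_tmul]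
      exact add_mem hp hq

end Adic

section Principal

variable {π : A}

theorem smul_tmul_quot_eq_zero {X : Type*} [AddCommGroup X] [Module A X]
    (a : A ⧸ Ideal.span {π}) (x : X) : π • (a ⊗ₜ[A] x) = 0 := by
  rw [TensorProduct.smul_tmul']
  suffices π • a = 0 by rw [this, zero_tmul]
  rw [Algebra.smul_def, Ideal.Quotient.algebraMap_eq,
    Ideal.Quotient.eq_zero_iff_mem.2 (Ideal.mem_span_singleton_self π), zero_mul]

theorem smul_quot_tensor_eq_zero {X : Type*} [AddCommGroup X] [Module A X]
    (y : (A ⧸ Ideal.span {π}) ⊗[A] X) : π • y = 0 := by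
  induction y using TensorProduct.induction_on with
  | zero => exact smul_zero π
  | add a b ha hb => rw [smul_add, ha, hb, add_zero]
  | tmul a x => exact smul_tmul_quot_eq_zero a x

theorem smul_quot_tensor_tensor_eq_zero {X : Type*} [AddCommGroup X] [Module A X]
    (y : ((A ⧸ Ideal.span {π}) ⊗[A] X) ⊗[A] M) : π • y = 0 := by
  induction y using TensorProduct.induction_on with
  | zero => exact smul_zero π
  | add a b ha hb => rw [smul_add, ha, hb, add_zero]
  | tmul a m => rw [TensorProduct.smul_tmul', smul_quot_tensor_eq_zero a, zero_tmul]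

/-- A saturated submodule stays a submodule modulo `π`. -/
theorem baseChange_subtype_injective {F : Type u} [AddCommGroup F] [Module A F] (K : Submodule A F)
    (hK : ∀ x : F, π • x ∈ K → x ∈ K) :
    Function.Injective (K.subtype.baseChange (A ⧸ Ideal.span {π})) := by
  rw [injective_iff_map_eq_zero]
  intro y hy
  obtain ⟨y, rfl⟩ := TensorProduct.mk_surjective A K (A ⧸ Ideal.span {π})
    Ideal.Quotient.mk_surjective y
  rw [TensorProduct.mk_apply, LinearMap.baseChange_tmul] at hy
  have hy' := congrArg (quotTensorEquivQuotSMul F (Ideal.span {π})) hy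
  rw [map_zero, ← map_one (Ideal.Quotient.mk (Ideal.span {π})), quotTensorEquivQuotSMul_mk_tmul,
    one_smul, Submodule.Quotient.mk_eq_zero, Submodule.ideal_span_singleton_smul] at hy'
  obtain ⟨x, -, hx⟩ := hy'
  have hx' : π • x = (y : F) := hx
  have hxK : x ∈ K := hK x (hx' ▸ y.2)
  rw [TensorProduct.mk_apply, show y = π • (⟨x, hxK⟩ : K) from Subtype.ext hx'.symm, tmul_smul]
  exact smul_quot_tensor_eq_zero _

/-- Exactness of multiplication by `π` and reduction. -/
theorem exact_lsmul_mk (X : Type u) [AddCommGroup X] [Module A X] :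
    Function.Exact (LinearMap.lsmul A X π) (TensorProduct.mk A (A ⧸ Ideal.span {π}) X 1) := by
  intro y
  constructor
  · intro hy
    rw [TensorProduct.mk_apply] at hy
    have hy' := congrArg (quotTensorEquivQuotSMul X (Ideal.span {π})) hy
    rw [map_zero, ← map_one (Ideal.Quotient.mk (Ideal.span {π})), quotTensorEquivQuotSMul_mk_tmul,
      one_smul, Submodule.Quotient.mk_eq_zero, Submodule.ideal_span_singleton_smul] at hy'
    obtain ⟨x, -, hx⟩ := hy'
    exact ⟨x, hx⟩
  · rintro ⟨x, rfl⟩
    rw [TensorProduct.mk_apply, LinearMap.lsmul_apply, tmul_smul]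
    exact smul_quot_tensor_eq_zero _

/-- Divisibility descends to a saturated submodule after tensoring. -/
theorem exists_smul_of_rTensor_eq_smul
    [Module.Flat (A ⧸ Ideal.span {π}) ((A ⧸ Ideal.span {π}) ⊗[A] M)]
    {F : Type u} [AddCommGroup F] [Module A F] (K : Submodule A F)
    (hK : ∀ x : F, π • x ∈ K → x ∈ K) (k : K ⊗[A] M) (w : F ⊗[A] M)
    (hk : K.subtype.rTensor M k = π • w) : ∃ k' : K ⊗[A] M, π • k' = k := by
  let q : K →ₗ[A] (A ⧸ Ideal.span {π}) ⊗[A] K := TensorProduct.mk A (A ⧸ Ideal.span {π}) K 1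
  have hinj : Function.Injective
      ((K.subtype.baseChange (A ⧸ Ideal.span {π})).restrictScalars A |>.rTensor M) :=
    rTensor_injective_of_flat_baseChange (A ⧸ Ideal.span {π}) _ (baseChange_subtype_injective K hK)
  have hq0 : q.rTensor M k = 0 := by
    apply hinj
    rw [map_zero, ← LinearMap.comp_apply, ← LinearMap.rTensor_comp,
      show (K.subtype.baseChange (A ⧸ Ideal.span {π})).restrictScalars A ∘ₗ q =
        (TensorProduct.mk A (A ⧸ Ideal.span {π}) F 1) ∘ₗ K.subtype from rfl,
      LinearMap.rTensor_comp, LinearMap.comp_apply, hk, map_smul]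
    exact smul_quot_tensor_tensor_eq_zero _
  have hqs : Function.Surjective q :=
    TensorProduct.mk_surjective A K (A ⧸ Ideal.span {π}) Ideal.Quotient.mk_surjective
  obtain ⟨k', hk'⟩ := (rTensor_exact (M := K) (N := K) (f := LinearMap.lsmul A K π) (g := q) M
    (exact_lsmul_mk K) hqs k).1 hq0
  refine ⟨k', ?_⟩
  rw [← hk', show LinearMap.lsmul A K π = π • LinearMap.id from rfl, LinearMap.rTensor_smul]
  simp

/-- `N ⊗ M` has no `π`-torsion if `N` and `M` have none and `M/π` is flat. -/
theorem tensor_smul_eq_zero [Module.Flat (A ⧸ Ideal.span {π}) ((A ⧸ Ideal.span {π}) ⊗[A] M)]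
    (hM : ∀ x : M, π • x = 0 → x = 0) (N : Type u) [AddCommGroup N] [Module A N]
    (hN : ∀ x : N, π • x = 0 → x = 0) (z : N ⊗[A] M) (hz : π • z = 0) : z = 0 := by
  classical
  let p : (N →₀ A) →ₗ[A] N := Finsupp.linearCombination A id
  have hp : Function.Surjective p := fun x => ⟨Finsupp.single x 1, by simp [p]⟩
  let K := LinearMap.ker p
  have hex : Function.Exact (K.subtype : K →ₗ[A] (N →₀ A)) p := LinearMap.exact_subtype_ker_map p
  obtain ⟨w, rfl⟩ := LinearMap.rTensor_surjective M hp z
  rw [← map_smul] at hz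
  obtain ⟨k, hk⟩ := (rTensor_exact (M := K) (N := N →₀ A) (f := K.subtype) (g := p) M hex hp (π • w)).1 hz
  obtain ⟨k', rfl⟩ := exists_smul_of_rTensor_eq_smul K
    (fun x hx => LinearMap.mem_ker.2 (hN _ (by rw [← map_smul]; exact LinearMap.mem_ker.1 hx)))
    k w hk
  have hk' : π • (w - K.subtype.rTensor M k') = 0 := by
    rw [smul_sub, ← map_smul, hk, sub_self]
  have hfree : w - K.subtype.rTensor M k' = 0 := by
    apply (finsuppScalarLeft (R := A) (N := M) (ι := N)).injective
    rw [map_zero]
    refine Finsupp.ext fun i => hM _ ?_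
    rw [← Finsupp.smul_apply, ← map_smul, hk', map_zero]
    rfl
  rw [sub_eq_zero] at hfree
  rw [hfree, ← LinearMap.comp_apply, ← LinearMap.rTensor_comp,
    show p ∘ₗ K.subtype = 0 from LinearMap.ext fun v => v.2, LinearMap.rTensor_zero]
  rfl

/-- The flatness criterion modulo a non-zero-divisor. -/
theorem flat_of_torsionFree_of_flat (hπ : π ∈ nonZeroDivisors A)
    [Module.Flat (A ⧸ Ideal.span {π}) ((A ⧸ Ideal.span {π}) ⊗[A] M)]
    [Module.Flat (Localization.Away π) ((Localization.Away π) ⊗[A] M)]
    (hM : ∀ x : M, π • x = 0 → x = 0) : Module.Flat A M := by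
  refine Module.Flat.iff_rTensor_injective'.2 fun L => ?_
  rw [injective_iff_map_eq_zero]
  intro z hz
  let Aπ := Localization.Away π
  haveI : Module.Flat A Aπ := IsLocalization.flat Aπ (Submonoid.powers π)
  have h1 : Function.Injective ((L.subtype.baseChange Aπ).restrictScalars A |>.rTensor M) :=
    rTensor_injective_of_flat_baseChange Aπ (L.subtype.baseChange Aπ)
      (Module.Flat.lTensor_preserves_injective_linearMap (M := Aπ) L.subtype L.injective_subtype)
  let q : L →ₗ[A] Aπ ⊗[A] L := TensorProduct.mk A Aπ L 1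
  have h2 : q.rTensor M z = 0 := by
    apply h1
    rw [map_zero, ← LinearMap.comp_apply, ← LinearMap.rTensor_comp,
      show (L.subtype.baseChange Aπ).restrictScalars A ∘ₗ q =
        (TensorProduct.mk A Aπ A 1) ∘ₗ L.subtype from rfl,
      LinearMap.rTensor_comp, LinearMap.comp_apply, hz, map_zero]
  let e := TensorProduct.assoc A Aπ L M
  have h3 : TensorProduct.mk A Aπ (L ⊗[A] M) 1 z = e (q.rTensor M z) := by
    show _ = e (q.rTensor M z)
    clear hz h2
    induction z using TensorProduct.induction_on with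
    | zero => simp
    | add a b ha hb => simp only [map_add, ha, hb]
    | tmul a m => rfl
  rw [h2, map_zero] at h3
  obtain ⟨⟨s, n, hn⟩, hs⟩ :=
    ((IsLocalizedModule.eq_zero_iff (Submonoid.powers π)
      (TensorProduct.mk A Aπ (L ⊗[A] M) 1)).1 h3)
  have htors : ∀ z : L ⊗[A] M, π • z = 0 → z = 0 := tensor_smul_eq_zero hM L fun x hx =>
    Subtype.ext ((mem_nonZeroDivisors_iff_right.1 hπ) (x : A) (by
      rw [mul_comm]; exact congrArg Subtype.val hx))
  subst hn
  have hs' : π ^ n • z = 0 := hs
  clear hs h3 h2 hz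
  induction n with
  | zero => simpa using hs'
  | succ n ih => exact ih (htors _ (by rwa [← mul_smul, ← pow_succ']))

end Principal

end Groth.Agent.TopFT
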