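import Mathlib.RingTheory.Finiteness.Basic
import Groth.Agent.TopFT.Flatness
import Groth.Agent.TopFT.Main

/-!
Flatness and faithful flatness of finite modules are detected on truncations.
-/

set_option autoImplicit false

namespace Groth.Agent.TopFT

open AdicRing TensorProduct

universe u

variable {R : Type u} [CommRing R] {I : Ideal R} {A : Type u} [CommRing A] [Algebra R A]
  {B : Type u} [CommRing B] [Algebra R B] [Algebra A B] [IsScalarTower R A B]
  {M : Type u} [AddCommGroup M] [Module B M] [Module A M] [IsScalarTower A B M]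

theorem flat_iff_trunc (hR : IsBase R I) (hA : TopFiniteType R I A) (hB : TopFiniteType R I B)
    [Module.Finite B M] :
    Module.Flat A M ↔ ∀ n : ℕ, Module.Flat (trunc A I n) ((trunc A I n) ⊗[A] M) := by
  refine ⟨fun _ n => inferInstance, fun h => Module.Flat.iff_rTensor_injective.2 fun L hL => ?_⟩
  rw [injective_iff_map_eq_zero]
  intro z hz
  have hmem := mem_pow_smul_of_lTensor_eq_zero (J := I.map (algebraMap R A))
    (fun k => (I ^ (k + 1)).map (algebraMap R A)) (fun k => Ideal.map_pow _ _ _) h
    ((nice hR hA).tame' (M := A) L) hz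
  haveI : Module.Finite A L := Module.Finite.iff_fg.2 hL
  obtain ⟨⟨g, hg⟩⟩ := ‹Module.Finite A L›
  obtain ⟨⟨e, he⟩⟩ := ‹Module.Finite B M›
  haveI : Module.Finite B (M ⊗[A] L) := by
    classical
    refine ⟨⟨(e ×ˢ g).image fun p => p.1 ⊗ₜ[A] p.2, eq_top_iff.2 fun x _ => ?_⟩⟩
    induction x using TensorProduct.induction_on with
    | zero => exact zero_mem _
    | add a b ha hb => exact add_mem (ha trivial) (hb trivial)
    | tmul m l =>
      have hm : m ∈ Submodule.span B (e : Set M) := he ▸ trivial
      have hl : l ∈ Submodule.span A (g : Set L) := hg ▸ trivial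
      induction hl using Submodule.span_induction with
      | mem l hl =>
        clear * - hm hl
        induction hm using Submodule.span_induction with
        | mem m hm => exact Submodule.subset_span (Finset.mem_coe.2
            (Finset.mem_image.2 ⟨(m, l), Finset.mem_product.2 ⟨hm, hl⟩, rfl⟩))
        | zero => rw [zero_tmul]; exact zero_mem _
        | add a b _ _ ha hb => rw [add_tmul]; exact add_mem ha hb
        | smul b a _ ha => exact Submodule.smul_mem _ b ha
      | zero => rw [tmul_zero]; exact zero_mem _
      | add a b _ _ ha hb => rw [tmul_add]; exact add_mem (ha trivial) (hb trivial)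
      | smul a l _ ha =>
        rw [tmul_smul, ← algebraMap_smul B a]
        exact Submodule.smul_mem _ _ (ha trivial)
  haveI := isAdicComplete_topFiniteType hR hB
  haveI := (nice hR hB).isAdicComplete (M ⊗[A] L)
  apply (TensorProduct.comm A L M).injective
  rw [map_zero]
  refine IsHausdorff.haus (inferInstance : IsHausdorff (I.map (algebraMap R B)) (M ⊗[A] L)) _
    fun m => SModEq.zero.2 ?_
  have h1 : TensorProduct.comm A L M z ∈
      (I.map (algebraMap R A)) ^ m • (⊤ : Submodule A (M ⊗[A] L)) := by
    have := Submodule.mem_map_of_mem (f := (TensorProduct.comm A L M).toLinearMap) (hmem m)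
    rw [Submodule.map_smul'', Submodule.map_top, LinearEquiv.range] at this
    exact this
  refine Submodule.smul_induction_on h1 (fun a ha x _ => ?_) (fun _ _ => add_mem)
  rw [← algebraMap_smul B a x]
  refine Submodule.smul_mem_smul ?_ trivial
  rw [← Ideal.map_pow] at ha ⊢
  have := Ideal.mem_map_of_mem (algebraMap A B) ha
  rwa [Ideal.map_map, ← IsScalarTower.algebraMap_eq] at this

theorem faithfullyFlat_iff_trunc (hR : IsBase R I) (hA : TopFiniteType R I A)
    (hB : TopFiniteType R I B) [Module.Finite B M] :
    Module.FaithfullyFlat A M ↔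
      ∀ n : ℕ, Module.FaithfullyFlat (trunc A I n) ((trunc A I n) ⊗[A] M) := by
  refine ⟨fun _ n => inferInstance, fun h => ?_⟩
  have hflat : Module.Flat A M := (flat_iff_trunc hR hA hB).2 fun n => (h n).toFlat
  refine @Module.FaithfullyFlat.mk A M _ _ _ hflat fun m hm htop => ?_
  haveI := isAdicComplete_topFiniteType hR hA
  have hle : (I ^ (0 + 1)).map (algebraMap R A) ≤ m := by
    rw [zero_add, pow_one]
    refine (IsAdicComplete.le_jacobson_bot _).trans (sInf_le ⟨bot_le, hm⟩)
  have hp := ((Module.FaithfullyFlat.iff_flat_and_proper_ideal _ _).1 (h 0)).2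
    (m.map (Ideal.Quotient.mk _)) ?_
  · apply hp
    rw [eq_top_iff]
    intro x _
    induction x using TensorProduct.induction_on with
    | zero => exact zero_mem _
    | add a b ha hb => exact add_mem (ha trivial) (hb trivial)
    | tmul a x =>
      have hx : x ∈ m • (⊤ : Submodule A M) := by rw [htop]; trivial
      refine Submodule.smul_induction_on hx (fun r hr y _ => ?_) (fun p q hp hq => ?_)
      · rw [tmul_smul, ← algebraMap_smul (trunc A I 0) r (a ⊗ₜ[A] y)]
        exact Submodule.smul_mem_smul (Ideal.mem_map_of_mem _ hr) trivial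
      · rw [tmul_add]; exact add_mem hp hq
  · intro hmtop
    apply hm.ne_top
    rw [Ideal.eq_top_iff_one]
    have h1 : (1 : trunc A I 0) ∈ m.map (Ideal.Quotient.mk _) := hmtop ▸ trivial
    obtain ⟨y, hy, hy1⟩ := (Ideal.mem_map_iff_of_surjective _ Ideal.Quotient.mk_surjective).1 h1
    rw [← map_one (Ideal.Quotient.mk _), Ideal.Quotient.eq] at hy1
    simpa using sub_mem hy (hle hy1)

end Groth.Agent.TopFT
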