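import Mathlib.RingTheory.FiniteType
import Mathlib.RingTheory.Flat.Basic
import Mathlib.RingTheory.Localization.Away.Basic
import Mathlib.RingTheory.MvPolynomial.Homogeneous
import Groth.Agent.TopFT.Torsion

/-!
Charts of formal blow-ups: torsion.
-/

set_option autoImplicit false

namespace Groth.Agent.TopFT

open AdicRing TensorProduct MvPolynomial

universe u v

section Algebraic

variable {A : Type v} [CommRing A] {ι : Type} [Finite ι] (f : ι → A) (i : ι)

instance finiteType_chartAlg : Algebra.FiniteType A (chartAlg f i) :=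
  (inferInstance : Algebra.FiniteType A (MvPolynomial {j : ι // j ≠ i} A)).of_surjective
    (Ideal.Quotient.mkₐ A _) Ideal.Quotient.mk_surjective

/-- Multiplying by a power of `f i` brings chart elements into the constants. -/
theorem exists_pow_mul_eq_algebraMap (x : chartAlg f i) :
    ∃ (d : ℕ) (a : A), algebraMap A (chartAlg f i) (f i) ^ d * x = algebraMap A _ a := by
  obtain ⟨p, rfl⟩ := Ideal.Quotient.mk_surjective x
  induction p using MvPolynomial.induction_on with
  | C a => exact ⟨0, a, by rw [pow_zero, one_mul]; rfl⟩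
  | add p q hp hq =>
    obtain ⟨d, a, ha⟩ := hp
    obtain ⟨e, b, hb⟩ := hq
    refine ⟨d + e, f i ^ e * a + f i ^ d * b, ?_⟩
    rw [map_add, map_add, map_mul, map_mul, map_pow, map_pow, ← ha, ← hb]
    ring
  | mul_X p j hp =>
    obtain ⟨d, a, ha⟩ := hp
    refine ⟨d + 1, a * f j.1, ?_⟩
    have hX : algebraMap A (chartAlg f i) (f i) * Ideal.Quotient.mk _ (X j) =
        algebraMap A (chartAlg f i) (f j.1) := by
      rw [Ideal.Quotient.mk_comp_algebraMap (R₁ := A) _ |>.symm]
      simp only [RingHom.comp_apply, MvPolynomial.algebraMap_eq]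
      rw [← map_mul, Ideal.Quotient.eq]
      exact Ideal.subset_span ⟨j, rfl⟩
    rw [map_mul, map_mul, ← ha, ← hX]
    ring

/-- Elements of a chart killed in `A[1/f i]` are killed by a power of `f i`. -/
theorem exists_pow_mul_eq_zero (x : chartAlg f i)
    (h : ∀ (g : chartAlg f i →ₐ[A] Localization.Away (f i)), g x = 0) :
    ∃ m : ℕ, algebraMap A (chartAlg f i) (f i) ^ m * x = 0 := by
  let L := Localization.Away (f i)
  let w : L := IsLocalization.Away.invSelf (f i)
  have hw : algebraMap A L (f i) * w = 1 := IsLocalization.Away.mul_invSelf (f i)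
  let g : chartAlg f i →ₐ[A] L :=
    Ideal.Quotient.liftₐ _ (aeval fun j : {j : ι // j ≠ i} => algebraMap A L (f j.1) * w) (by
      intro p hp
      refine (Ideal.span_le.2 ?_ : _ ≤ RingHom.ker
        (aeval fun j : {j : ι // j ≠ i} => algebraMap A L (f j.1) * w : _ →ₐ[A] L)) hp
      rintro _ ⟨j, rfl⟩
      rw [SetLike.mem_coe, RingHom.mem_ker, map_sub, map_mul, aeval_C, aeval_C, aeval_X,
        mul_comm _ w, ← mul_assoc, hw, one_mul, sub_self])
  obtain ⟨d, a, ha⟩ := exists_pow_mul_eq_algebraMap f i x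
  have h1 := congrArg g ha
  rw [map_mul, map_pow, AlgHom.commutes, AlgHom.commutes, h g, mul_zero] at h1
  obtain ⟨⟨_, m, rfl⟩, hm⟩ :=
    (IsLocalization.map_eq_zero_iff (Submonoid.powers (f i)) L a).1 h1.symm
  exact ⟨m + d, by rw [pow_add, mul_assoc, ha, ← map_pow, ← map_mul, hm, map_zero]⟩

end Algebraic

variable {R : Type u} [CommRing R] {I : Ideal R} {A : Type u} [CommRing A] [Algebra R A]
  {ι : Type} [Finite ι] (f : ι → A) (i : ι)

omit [Finite ι] in
theorem map_le_span_chartCompl {k : ℕ}
    (hopen : (I ^ k).map (algebraMap R A) ≤ Ideal.span (Set.range f)) :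
    (I ^ k).map (algebraMap R (chartCompl I f i)) ≤
      Ideal.span {algebraMap A (chartCompl I f i) (f i)} := by
  rw [IsScalarTower.algebraMap_eq R A (chartCompl I f i), ← Ideal.map_map]
  refine (Ideal.map_mono hopen).trans ?_
  rw [Ideal.map_span, Ideal.span_le]
  rintro _ ⟨_, ⟨j, rfl⟩, rfl⟩
  rw [SetLike.mem_coe, Ideal.mem_span_singleton]
  by_cases hj : j = i
  · rw [hj]
  · refine ⟨algebraMap (chartAlg f i) _ (Ideal.Quotient.mk _ (X ⟨j, hj⟩)), ?_⟩
    rw [IsScalarTower.algebraMap_apply A (chartAlg f i) (chartCompl I f i),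
      IsScalarTower.algebraMap_apply A (chartAlg f i) (chartCompl I f i) (f i), ← map_mul]
    congr 1
    rw [IsScalarTower.algebraMap_apply A (MvPolynomial {j : ι // j ≠ i} A) (chartAlg f i),
      IsScalarTower.algebraMap_apply A (MvPolynomial {j : ι // j ≠ i} A) (chartAlg f i) (f i),
      Ideal.Quotient.algebraMap_eq, ← map_mul, Ideal.Quotient.eq, MvPolynomial.algebraMap_eq,
      ← neg_sub]
    exact neg_mem (Ideal.subset_span ⟨⟨j, hj⟩, rfl⟩)

theorem powTorsion_iff (hR : IsBase R I) (hA : Admissible R I A) {k : ℕ}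
    (hopen : (I ^ k).map (algebraMap R A) ≤ Ideal.span (Set.range f)) (x : chartCompl I f i) :
    (∃ n : ℕ, ∀ a ∈ I ^ n, a • x = 0) ↔
      ∃ n : ℕ, algebraMap A (chartCompl I f i) (f i) ^ n * x = 0 := by
  constructor
  · rintro ⟨n, hn⟩
    obtain ⟨⟨e, φ, hφ, -⟩, hTA⟩ := hA
    haveI := (nice_of_finiteType hR ⟨e, φ, hφ⟩ (chartAlg f i)).flat
    let D := chartAlg f i
    let C' := chartCompl I f i
    obtain ⟨g, a, ha⟩ :=
      Submodule.fg_iff_exists_fin_generating_family.1 (Ideal.FG.pow (n := n) (ideal_fg hR))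
    let F : D →ₗ[D] (Fin g → D) :=
      LinearMap.pi fun j => LinearMap.lsmul D D (algebraMap R D (a j))
    have hex : Function.Exact (LinearMap.ker F).subtype F := LinearMap.exact_subtype_ker_map F
    have h0 : F.lTensor C' (x ⊗ₜ[D] (1 : D)) = 0 := by
      apply (TensorProduct.piRight D D C' fun _ : Fin g => D).injective
      rw [map_zero]
      funext j
      show x ⊗ₜ[D] (algebraMap R D (a j) * 1) = 0
      refine (TensorProduct.smul_tmul (R := D) (algebraMap R D (a j)) x (1 : D)).symm.trans ?_
      rw [algebraMap_smul, hn _ (ha ▸ Submodule.subset_span ⟨j, rfl⟩), TensorProduct.zero_tmul]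
    obtain ⟨w, hw⟩ := (Module.Flat.lTensor_exact C' hex (x ⊗ₜ[D] (1 : D))).1 h0
    have hx : x = TensorProduct.rid D C' ((LinearMap.ker F).subtype.lTensor C' w) := by
      rw [hw, TensorProduct.rid_tmul, one_smul]
    subst hx
    clear hw h0 hn
    induction w using TensorProduct.induction_on with
    | zero => exact ⟨0, by simp⟩
    | add p q hp hq =>
      obtain ⟨m₁, h₁⟩ := hp
      obtain ⟨m₂, h₂⟩ := hq
      refine ⟨m₁ + m₂, ?_⟩
      rw [map_add, map_add, mul_add, pow_add, mul_assoc, mul_assoc, h₂, mul_zero, add_zero,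
        mul_left_comm, h₁, mul_zero]
    | tmul c y =>
      obtain ⟨m, hm⟩ := exists_pow_mul_eq_zero f i (y : D) fun χ => by
        let L := Localization.Away (f i)
        haveI : Module.Flat A L := IsLocalization.flat L (Submonoid.powers (f i))
        have hTA' : NoPowTorsion (I.map (algebraMap R A)) A := fun z l hz => hTA z l fun b hb => by
          rw [← algebraMap_smul A b z]
          exact hz _ (by rw [← Ideal.map_pow]; exact Ideal.mem_map_of_mem _ hb)
        refine noPowTorsion_of_flat ((ideal_fg hR).map (algebraMap R A)) hTA' L _ n fun b hb => ?_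
        rw [← Ideal.map_pow, ← ha, Ideal.submodule_span_eq, Ideal.map_span, ← Set.range_comp] at hb
        refine Submodule.span_induction ?_ (zero_smul A _) (fun p q _ _ hp hq => by
          rw [add_smul, hp, hq, add_zero]) (fun c p _ hp => by rw [smul_assoc, hp, smul_zero]) hb
        rintro _ ⟨j, rfl⟩
        have hy : algebraMap R D (a j) * (y : D) = 0 := congrFun (LinearMap.mem_ker.1 y.2) j
        have h1 := congrArg χ hy
        rw [map_mul, map_zero, IsScalarTower.algebraMap_apply R A D, AlgHom.commutes] at h1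
        rw [Algebra.smul_def]
        exact h1
      refine ⟨m, ?_⟩
      rw [LinearMap.lTensor_tmul, TensorProduct.rid_tmul]
      show algebraMap A C' (f i) ^ m * ((y : D) • c) = 0
      rw [show (y : D) • c = algebraMap D C' (y : D) * c from
          (algebraMap_smul (R := D) C' (y : D) c).symm,
        ← mul_assoc, IsScalarTower.algebraMap_apply A D C', ← map_pow,
        ← map_mul, hm, map_zero, zero_mul]
  · rintro ⟨n, hn⟩
    refine ⟨k * n, fun a ha => ?_⟩
    rw [Algebra.smul_def]
    have h := Ideal.pow_right_mono (map_le_span_chartCompl f i hopen) n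
    rw [← Ideal.map_pow, ← pow_mul, Ideal.span_singleton_pow] at h
    obtain ⟨c, hc⟩ := Ideal.mem_span_singleton.1 (h (Ideal.mem_map_of_mem _ ha))
    rw [hc, mul_right_comm, hn, zero_mul]

end Groth.Agent.TopFT
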