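import Groth.Agent.TopFT.IntClosure
import Groth.Agent.TopFT.CLocThms
import Mathlib.RingTheory.Localization.FractionRing
import Mathlib.RingTheory.Adjoin.FG

/-!
Admissible local domains of dimension one over a complete valuation ring of height one.
-/

set_option autoImplicit false

namespace Groth.Agent.TopFT

open AdicRing

universe u v

variable {R : Type u} [CommRing R] [IsDomain R] [ValuationRing R] [Ring.KrullDimLE 1 R] {t : R}
  {B : Type v} [CommRing B] [Algebra R B]

theorem algebraMap_ne_zero_of_noPowTorsion [Nontrivial B] (hB : NoPowTorsion (Ideal.span {t}) B) :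
    algebraMap R B t ≠ 0 := fun h => one_ne_zero (α := B)
  (noPowTorsion_iff_smul.1 hB 1 (by rw [Algebra.smul_def, h, zero_mul]))

theorem faithfulSMul_of_noPowTorsion (ht : t ≠ 0) [IsAdicComplete (Ideal.span {t}) R] [Nontrivial B]
    (hB : NoPowTorsion (Ideal.span {t}) B) : FaithfulSMul R B := by
  rw [faithfulSMul_iff_algebraMap_injective, injective_iff_map_eq_zero]
  intro r hr
  by_contra hr0
  obtain ⟨k, c, hk⟩ := exists_dvd_pow ht hr0 (not_isUnit_of_isAdicComplete (t := t))
  refine one_ne_zero (α := B) (hB 1 k fun a ha => ?_)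
  rw [Ideal.span_singleton_pow, Ideal.mem_span_singleton'] at ha
  obtain ⟨b, rfl⟩ := ha
  rw [Algebra.smul_def, hk, map_mul, map_mul, hr, zero_mul, mul_zero, zero_mul]

/-- A domain all of whose primes containing `t` coincide is finite over `R`. -/
theorem finite_of_unique_prime (ht : t ≠ 0) [IsAdicComplete (Ideal.span {t}) R] [Nontrivial B]
    (hB : TopFiniteType R (Ideal.span {t}) B) (m : Ideal B) [m.IsMaximal]
    (h : ∀ q : Ideal B, q.IsPrime → algebraMap R B t ∈ q → q = m) : Module.Finite R B := by
  have hR := isBase_span (R := R) ht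
  haveI := isAdicComplete_topFiniteType hR hB
  set J := (Ideal.span {t}).map (algebraMap R B) with hJ
  have hJm : J ≤ m := (IsAdicComplete.le_jacobson_bot J).trans (sInf_le ⟨bot_le, ‹m.IsMaximal›⟩)
  have htm : algebraMap R B t ∈ m :=
    hJm (Ideal.mem_map_of_mem _ (Ideal.mem_span_singleton_self t))
  haveI : Algebra.FiniteType R (B ⧸ J) := (finiteType_trunc (ideal_fg hR) hB 1).equiv
    (Ideal.quotientEquivAlgOfEq R (by rw [pow_one]))
  haveI : (m.map (Ideal.Quotient.mk J)).IsMaximal :=
    Ideal.IsMaximal.map_of_surjective_of_ker_le Ideal.Quotient.mk_surjective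
      (by rw [Ideal.mk_ker]; exact hJm)
  haveI : Algebra.IsIntegral R (B ⧸ J) := isIntegral_of_forall_isMaximal (m.map (Ideal.Quotient.mk J))
    (fun r hr => by
      obtain ⟨k, hk⟩ := exists_dvd_pow_of_mem ht hr
      refine Ideal.mem_map_of_mem (Ideal.Quotient.mk J) (x := algebraMap R B r) ?_
      refine Ideal.IsPrime.mem_of_pow_mem inferInstance k ?_
      rw [← map_pow]
      obtain ⟨c, hc⟩ := hk
      rw [hc, map_mul]
      exact m.mul_mem_right _ htm)
    (fun x hx => by
      rw [← mem_nilradical, nilradical_eq_sInf, Ideal.mem_sInf]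
      intro q hq
      haveI : q.IsPrime := hq
      have hc := h (q.comap (Ideal.Quotient.mk J)) (Ideal.comap_isPrime _ q) (by
        rw [Ideal.mem_comap, Ideal.Quotient.eq_zero_iff_mem.2
          (Ideal.mem_map_of_mem _ (Ideal.mem_span_singleton_self t))]
        exact zero_mem q)
      rw [← Ideal.map_comap_of_surjective _ Ideal.Quotient.mk_surjective q, hc]
      exact hx)
  exact finite_of_finite_reduction ht hB

/-- An admissible local domain of dimension one is finite. -/
theorem finite_of_admissible_local_domain (ht : t ≠ 0) [IsAdicComplete (Ideal.span {t}) R]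
    [IsDomain B] [IsLocalRing B] (hB : Admissible R (Ideal.span {t}) B) (hdim : ringKrullDim B = 1) :
    Module.Finite R B := by
  obtain ⟨⟨n, φ, hφ, -⟩, hT⟩ := hB
  haveI : Ring.KrullDimLE 1 B := (Ring.krullDimLE_iff (n := 1)).2 (le_of_eq hdim)
  refine finite_of_unique_prime ht ⟨n, φ, hφ⟩ (IsLocalRing.maximalIdeal B) fun q hq htq => ?_
  haveI : q.IsMaximal := Ideal.IsPrime.isMaximal_of_ne_bot hq fun h =>
    algebraMap_ne_zero_of_noPowTorsion hT (by simpa [h] using htq)
  exact IsLocalRing.eq_maximalIdeal ‹_›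

/-- The integral closure of an admissible local domain of dimension one is a valuation ring. -/
theorem valuationRing_integralClosure_fractionRing (ht : t ≠ 0) [IsAdicComplete (Ideal.span {t}) R]
    [IsDomain B] [Algebra.IsIntegral R B] [FaithfulSMul R B] :
    ValuationRing (integralClosure B (FractionRing B)) := by
  haveI : FaithfulSMul R (FractionRing B) := by
    rw [faithfulSMul_iff_algebraMap_injective, IsScalarTower.algebraMap_eq R B (FractionRing B)]
    exact (IsFractionRing.injective B (FractionRing B)).comp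
      (FaithfulSMul.algebraMap_injective R B)
  haveI : PreValuationRing (integralClosure B (FractionRing B)) := ⟨fun a b => by
    by_cases ha : (a : FractionRing B) = 0
    · exact ⟨0, Or.inr (by rw [mul_zero]; exact Subtype.ext ha.symm)⟩
    by_cases hb : (b : FractionRing B) = 0
    · exact ⟨0, Or.inl (by rw [mul_zero]; exact Subtype.ext hb.symm)⟩
    rcases isIntegral_or_inv ht (isAlgebraic_fractionRing (R := R)
      ((b : FractionRing B) / (a : FractionRing B))) with h | h
    · exact ⟨⟨_, h.tower_top⟩, Or.inl (Subtype.ext (mul_div_cancel₀ _ ha))⟩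
    · rw [inv_div] at h
      exact ⟨⟨_, h.tower_top⟩, Or.inr (Subtype.ext (mul_div_cancel₀ _ hb))⟩⟩
  exact { }

/-- A surjection from a complete localization onto a finite algebra comes from the algebra. -/
theorem surjective_comp_cLoc (ht : t ≠ 0) [IsAdicComplete (Ideal.span {t}) R]
    {A : Type v} [CommRing A] [Algebra R A] (f : A) [Module.Finite R B]
    (u : CLoc (Ideal.span {t}) f →ₐ[R] B) (hu : Function.Surjective u) :
    Function.Surjective (u.toRingHom.comp (algebraMap A (CLoc (Ideal.span {t}) f))) := by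
  have hI : (Ideal.span {t}).FG := Submodule.fg_span_singleton t
  let L := Localization.Away f
  let β : A →ₐ[R] B := u.comp (IsScalarTower.toAlgHom R A (CLoc (Ideal.span {t}) f))
  let γ : L →ₐ[R] B := u.comp (IsScalarTower.toAlgHom R L (CLoc (Ideal.span {t}) f))
  have hγ : ∀ a, γ (algebraMap A L a) = β a := fun a =>
    congrArg u (IsScalarTower.algebraMap_apply A L (CLoc (Ideal.span {t}) f) a).symm
  -- the inverse of `β f` is a polynomial in `β f`
  obtain ⟨w, hw⟩ : IsUnit (β f) := by
    rw [← hγ]
    exact (IsLocalization.Away.algebraMap_isUnit (S := L) f).map γ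
  have hinv : (↑w⁻¹ : B) ∈ β.range := by
    obtain ⟨p, hp, hpx⟩ := IsIntegral.of_finite R (↑w⁻¹ : B)
    rw [← Polynomial.aeval_def] at hpx
    obtain ⟨d, hd⟩ : ∃ d, p.natDegree = d := ⟨_, rfl⟩
    rcases d with _ | d
    · rw [hp.natDegree_eq_zero.1 hd, map_one] at hpx
      haveI : Subsingleton B := subsingleton_of_zero_eq_one hpx.symm
      exact ⟨0, Subsingleton.elim _ _⟩
    have h1 := congrArg (· * β f ^ d) hpx
    simp only [zero_mul, Polynomial.aeval_eq_sum_range, hd, Finset.sum_range_succ _ (d + 1),
      add_mul, Finset.sum_mul] at h1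
    have hlast : (p.coeff (d + 1) • (↑w⁻¹ : B) ^ (d + 1)) * β f ^ d = (↑w⁻¹ : B) := by
      rw [← hd, ← Polynomial.leadingCoeff, hp.leadingCoeff, one_smul, hd, pow_succ, mul_right_comm,
        ← mul_pow, ← hw, Units.inv_mul, one_pow, one_mul]
    rw [hlast, add_eq_zero_iff_eq_neg'] at h1
    rw [h1]
    refine neg_mem (sum_mem fun i hi => ?_)
    obtain ⟨j, hj⟩ := Nat.exists_eq_add_of_le (Nat.lt_succ_iff.1 (Finset.mem_range.1 hi))
    rw [smul_mul_assoc, hj, pow_add, ← mul_assoc, ← mul_pow, ← hw, Units.inv_mul, one_pow, one_mul,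
      hw]
    exact β.range.smul_mem (pow_mem (β.mem_range_self f) j) _
  have hγrange : ∀ s, γ s ∈ β.range := fun s => by
    obtain ⟨a, ⟨_, k, rfl⟩, rfl⟩ := IsLocalization.exists_mk'_eq (Submonoid.powers f) s
    have hs := congrArg γ (IsLocalization.mk'_spec L a (⟨f ^ k, k, rfl⟩ : Submonoid.powers f))
    rw [map_mul, hγ, hγ, map_pow, ← hw] at hs
    have : γ (IsLocalization.mk' L a (⟨f ^ k, k, rfl⟩ : Submonoid.powers f)) =
        β a * (↑w⁻¹ : B) ^ k := by
      rw [← hs, mul_assoc, ← mul_pow, Units.mul_inv, one_pow, mul_one]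
    rw [this]
    exact mul_mem (β.mem_range_self a) (pow_mem hinv k)
  haveI : IsAdicComplete (Ideal.span {t}) R := ‹_›
  intro b
  have htop : (⊤ : Submodule R B) ≤ Subalgebra.toSubmodule β.range := by
    refine Submodule.le_of_le_smul_of_le_jacobson_bot Module.Finite.fg_top
      (IsAdicComplete.le_jacobson_bot (Ideal.span {t})) fun b _ => ?_
    obtain ⟨x, rfl⟩ := hu b
    obtain ⟨s, hs⟩ := exists_sub_mem_cpl (S := L) hI 1 x
    obtain ⟨c, hc⟩ := Ideal.mem_span_singleton'.1 ((SetLike.ext_iff.1
      ((congrArg (Ideal.map _) (pow_one (Ideal.span {t}))).trans map_span_singleton_algebraMap) _).1 hs)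
    refine Submodule.mem_sup.2 ⟨γ s, hγrange s, t • u c,
      Submodule.smul_mem_smul (Ideal.mem_span_singleton_self t) trivial, ?_⟩
    have h2 := congrArg u hc
    rw [map_mul, AlgHom.commutes, map_sub, mul_comm, ← Algebra.smul_def] at h2
    show u (algebraMap L (CLoc (Ideal.span {t}) f) s) + t • u c = u x
    rw [h2]
    abel
  exact htop (Submodule.mem_top (x := b))

/-- Subalgebra images inside finite domains are admissible local domains of dimension one. -/
theorem range_admissible (ht : t ≠ 0) [IsAdicComplete (Ideal.span {t}) R] [IsDomain B]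
    [Module.Finite R B] (hT : NoPowTorsion (Ideal.span {t}) B) {A : Type v} [CommRing A]
    [Algebra R A] (hA : TopFiniteType R (Ideal.span {t}) A) (β : A →ₐ[R] B) :
    Admissible R (Ideal.span {t}) β.range ∧ IsLocalRing β.range ∧ ringKrullDim β.range = 1 := by
  haveI : Algebra.IsIntegral R B := Algebra.IsIntegral.of_finite R B
  haveI : Algebra.IsIntegral R β.range :=
    Algebra.IsIntegral.of_injective β.range.val Subtype.val_injective
  have hT' : NoPowTorsion (Ideal.span {t}) β.range := fun x k hx =>
    Subtype.ext (hT (x : B) k fun a ha => congrArg Subtype.val (hx a ha))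
  obtain ⟨n, φ, hφ⟩ := hA
  have hψ : Function.Surjective (β.rangeRestrict.comp φ) := fun ⟨_, a, rfl⟩ => by
    obtain ⟨x, rfl⟩ := hφ a
    exact ⟨x, rfl⟩
  refine ⟨⟨⟨n, β.rangeRestrict.comp φ, hψ, ?_⟩, hT'⟩, isLocalRing_of_integral_domain ht,
    ringKrullDim_eq_one ht (algebraMap_ne_zero_of_noPowTorsion hT')⟩
  letI : Algebra (RPow R (Ideal.span {t}) n) β.range := (β.rangeRestrict.comp φ).toRingHom.toAlgebra
  haveI : IsScalarTower R (RPow R (Ideal.span {t}) n) β.range :=
    IsScalarTower.of_algebraMap_eq fun r => ((β.rangeRestrict.comp φ).commutes r).symm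
  exact (nice (isBase_span ht) ⟨n, AlgHom.id R _, Function.surjective_id⟩).satfg' _
    (sat_ker (Algebra.linearMap (RPow R (Ideal.span {t}) n) β.range) hT')

/-- A finite extension inside the fraction field makes a finitely generated ideal principal. -/
theorem exists_subalgebra_span_eq (ht : t ≠ 0) [IsAdicComplete (Ideal.span {t}) R] [IsDomain B]
    [Algebra.IsIntegral R B] [FaithfulSMul R B] {n : ℕ} (b : Fin n → B) (hb : ∃ i, b i ≠ 0) :
    ∃ B' : Subalgebra B (FractionRing B),
      Module.Finite B ↥B' ∧ IsLocalRing ↥B' ∧ ringKrullDim ↥B' = 1 ∧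
      ∃ i, Ideal.span (Set.range (fun j => algebraMap B ↥B' (b j))) =
        Ideal.span {algebraMap B ↥B' (b i)} := by
  classical
  haveI := valuationRing_integralClosure_fractionRing (B := B) ht
  let V := integralClosure B (FractionRing B)
  obtain ⟨j, hj⟩ := hb
  obtain ⟨c, v, hc, hv, i, hi, hu⟩ := exists_content (fun i => algebraMap B V (b i)) Finset.univ
    ⟨j, Finset.mem_univ j, fun h => hj (IsFractionRing.injective B (FractionRing B)
      (by rw [map_zero]; exact congrArg Subtype.val h))⟩
  obtain ⟨w, hw⟩ := hu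
  have hdiv : ∀ j, algebraMap B V (b j) = algebraMap B V (b i) * ((↑w⁻¹ : V) * v j) := fun j => by
    rw [hv i (Finset.mem_univ i), hv j (Finset.mem_univ j), ← hw]
    rw [mul_assoc, ← mul_assoc (w : V), Units.mul_inv, one_mul]
  let S : Set (FractionRing B) := Set.range fun j => (((↑w⁻¹ : V) * v j : V) : FractionRing B)
  let B' : Subalgebra B (FractionRing B) := Algebra.adjoin B S
  haveI : Module.Finite B B' := Algebra.finite_adjoin_of_finite_of_isIntegral (Set.finite_range _)
    (by rintro _ ⟨j, rfl⟩; exact ((↑w⁻¹ : V) * v j).2)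
  haveI : Algebra.IsIntegral B B' := Algebra.IsIntegral.of_finite B B'
  haveI : Algebra.IsIntegral R B' := Algebra.IsIntegral.trans B
  refine ⟨B', inferInstance, isLocalRing_of_integral_domain (R := R) ht,
    ringKrullDim_eq_one (R := R) ht (fun h => ?_), i, le_antisymm (Ideal.span_le.2 ?_)
      (Ideal.span_le.2 (Set.singleton_subset_iff.2 (Ideal.subset_span ⟨i, rfl⟩)))⟩
  · have h' : algebraMap R (FractionRing B) t = 0 := congrArg Subtype.val h
    rw [IsScalarTower.algebraMap_apply R B (FractionRing B)] at h'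
    exact ht (FaithfulSMul.algebraMap_injective R B ((IsFractionRing.injective B (FractionRing B)
      (h'.trans (map_zero _).symm)).trans (map_zero _).symm))
  · rintro _ ⟨j, rfl⟩
    rw [SetLike.mem_coe, Ideal.mem_span_singleton]
    refine ⟨⟨_, Algebra.subset_adjoin ⟨j, rfl⟩⟩, Subtype.ext ?_⟩
    have h2 := congrArg Subtype.val (hdiv j)
    exact h2

end Groth.Agent.TopFT
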