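import Mathlib.RingTheory.LocalRing.ResidueField.Basic
import Groth.Agent.TopFT.RigPoint

/-!
Reduction of restricted power series to polynomials over the residue field, content.
-/

set_option autoImplicit false

namespace Groth.Agent.TopFT

open AdicRing MvPolynomial

universe u v

variable {R : Type u} [CommRing R] {t : R}

theorem exists_sub_mem_rPow {I : Ideal R} (hI : I.FG) (n m : ℕ) (x : RPow R I n) :
    ∃ p : MvPolynomial (Fin n) R, x - algebraMap _ (RPow R I n) p ∈
      (I ^ m).map (algebraMap R (RPow R I n)) :=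
  exists_sub_mem_cpl (S := MvPolynomial (Fin n) R) hI m x

theorem algebraMap_C_rPow {I : Ideal R} (n : ℕ) (r : R) :
    algebraMap (MvPolynomial (Fin n) R) (RPow R I n) (C r) = algebraMap R (RPow R I n) r :=
  (IsScalarTower.algebraMap_apply R (MvPolynomial (Fin n) R) (RPow R I n) r).symm

/-- Maps killing `t` are determined on the variables. -/
theorem rPow_hom_ext_mod {D : Type v} [CommRing D] [Algebra R D] {n : ℕ}
    (g h : RPow R (Ideal.span {t}) n →ₐ[R] D) (ht0 : algebraMap R D t = 0)
    (e : ∀ i, g (algebraMap (MvPolynomial (Fin n) R) _ (X i)) =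
      h (algebraMap (MvPolynomial (Fin n) R) _ (X i))) : g = h := by
  have hP : ∀ p, g (algebraMap (MvPolynomial (Fin n) R) _ p) =
      h (algebraMap (MvPolynomial (Fin n) R) _ p) := fun p => by
    have : g.comp (IsScalarTower.toAlgHom R (MvPolynomial (Fin n) R) _) =
        h.comp (IsScalarTower.toAlgHom R (MvPolynomial (Fin n) R) _) := MvPolynomial.algHom_ext e
    exact DFunLike.congr_fun this p
  refine AlgHom.ext fun x => ?_
  obtain ⟨s, hs⟩ := exists_sub_mem_rPow (Submodule.fg_span_singleton t) n 1 x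
  have key : ∀ f : RPow R (Ideal.span {t}) n →ₐ[R] D,
      f x = f (algebraMap (MvPolynomial (Fin n) R) _ s) := fun f => by
    rw [← sub_eq_zero, ← map_sub, ← RingHom.mem_ker]
    refine (Ideal.map_le_iff_le_comap.2 fun r hr => ?_) hs
    rw [pow_one, Ideal.mem_span_singleton'] at hr
    obtain ⟨b, rfl⟩ := hr
    rw [Ideal.mem_comap, RingHom.mem_ker, AlgHom.commutes, map_mul, ht0, mul_zero]
  rw [key g, key h, hP]

variable [IsDomain R] [ValuationRing R] [Ring.KrullDimLE 1 R]
  [IsAdicComplete (Ideal.span {t}) R]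

/-- Reduction modulo the maximal ideal. -/
noncomputable def redk (n : ℕ) :
    RPow R (Ideal.span {t}) n →ₐ[R] MvPolynomial (Fin n) (IsLocalRing.ResidueField R) where
  toRingHom := (MvPolynomial.map (Ideal.Quotient.factor
    (show Ideal.span {t} ≤ IsLocalRing.maximalIdeal R from
      (Ideal.span_singleton_le_iff_mem _).2 mem_maximalIdeal_self))).comp (red (Ideal.span {t}) n)
  commutes' r := by
    show MvPolynomial.map _ (red (Ideal.span {t}) n (algebraMap R _ r)) = _
    rw [red_algebraMap', map_C]
    rfl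

theorem redk_algebraMap (n : ℕ) (p : MvPolynomial (Fin n) R) :
    redk (t := t) n (algebraMap (MvPolynomial (Fin n) R) _ p) =
      MvPolynomial.map (IsLocalRing.residue R) p := by
  show MvPolynomial.map _ (red (Ideal.span {t}) n (algebraMap _ _ p)) = _
  rw [red_algebraMap, MvPolynomial.map_map]
  rfl

theorem redk_surjective (n : ℕ) : Function.Surjective (redk (t := t) (R := R) n) :=
  (MvPolynomial.map_surjective _ (Ideal.Quotient.factor_surjective _)).comp (red_surjective n)

/-- Every non-zero restricted power series is a scalar times one with non-zero reduction. -/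
theorem exists_content_rPow (n : ℕ) {F : RPow R (Ideal.span {t}) n} (hF : F ≠ 0) :
    ∃ (c : R) (G : RPow R (Ideal.span {t}) n),
      c ≠ 0 ∧ F = algebraMap R _ c * G ∧ redk (t := t) n G ≠ 0 := by
  classical
  have hI : (Ideal.span {t}).FG := Submodule.fg_span_singleton t
  haveI := isAdicComplete_rPow (R := R) hI n
  obtain ⟨m, hm⟩ : ∃ m, F ∉ ((Ideal.span {t}) ^ m).map
      (algebraMap R (RPow R (Ideal.span {t}) n)) := by
    by_contra h
    push Not at h
    refine hF (IsHausdorff.haus (inferInstance : IsHausdorff ((Ideal.span {t}).map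
      (algebraMap R (RPow R (Ideal.span {t}) n))) _) F fun k => SModEq.zero.2 ?_)
    rw [smul_eq_mul, Ideal.mul_top, ← Ideal.map_pow]
    exact h k
  obtain ⟨p, hp⟩ := exists_sub_mem_rPow hI n m F
  have htm : t ^ m ∈ (Ideal.span {t}) ^ m := Ideal.pow_mem_pow (Ideal.mem_span_singleton_self t) m
  have hp0 : p ≠ 0 := fun h => hm (by rw [h, map_zero, sub_zero] at hp; exact hp)
  obtain ⟨j, hj⟩ := MvPolynomial.ne_zero_iff.1 hp0
  obtain ⟨c, v, hc, hv, α, hα, hu⟩ :=
    exists_content (fun α => p.coeff α) p.support ⟨j, MvPolynomial.mem_support_iff.2 hj, hj⟩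
  let p' : MvPolynomial (Fin n) R := ∑ α ∈ p.support, monomial α (v α)
  have hp' : p = MvPolynomial.C c * p' := by
    conv_lhs => rw [p.as_sum]
    rw [Finset.mul_sum]
    refine Finset.sum_congr rfl fun α hα => ?_
    rw [C_mul_monomial, ← hv α hα]
  obtain ⟨d, hd⟩ : ∃ d : R, c * d = t ^ m ∧ d ∈ IsLocalRing.maximalIdeal R := by
    have hnd : ¬t ^ m ∣ c := fun hdvd => hm (by
      have h1 : algebraMap (MvPolynomial (Fin n) R) (RPow R (Ideal.span {t}) n) p ∈
          ((Ideal.span {t}) ^ m).map (algebraMap R (RPow R (Ideal.span {t}) n)) := by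
        obtain ⟨e, rfl⟩ := hdvd
        rw [hp', map_mul, algebraMap_C_rPow, map_mul,
          mul_assoc]
        exact Ideal.mul_mem_right _ _ (Ideal.mem_map_of_mem _ htm)
      have := add_mem hp h1
      rwa [sub_add_cancel] at this)
    obtain ⟨d, h | h⟩ := PreValuationRing.cond c (t ^ m)
    · refine ⟨d, h, (IsLocalRing.mem_maximalIdeal d).2 fun hdu => hnd ?_⟩
      rw [← h]
      exact hdu.mul_right_dvd.2 dvd_rfl
    · exact absurd (Dvd.intro d h) hnd
  obtain ⟨H, hH⟩ : ∃ H, F - algebraMap (MvPolynomial (Fin n) R) _ p = algebraMap R _ (t ^ m) * H := by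
    rw [Ideal.span_singleton_pow, map_span_singleton_algebraMap, Ideal.mem_span_singleton'] at hp
    obtain ⟨H, hH⟩ := hp
    exact ⟨H, by rw [mul_comm]; exact hH.symm⟩
  refine ⟨c, algebraMap (MvPolynomial (Fin n) R) _ p' + algebraMap R _ d * H, hc, ?_, ?_⟩
  · rw [mul_add, ← mul_assoc, ← map_mul, hd.1, ← hH, hp', map_mul, algebraMap_C_rPow]
    abel
  · intro h
    have h0 : IsLocalRing.residue R d = 0 := Ideal.Quotient.eq_zero_iff_mem.2 hd.2
    rw [map_add, map_mul, redk_algebraMap, AlgHom.commutes,
      IsScalarTower.algebraMap_apply R (IsLocalRing.ResidueField R)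
        (MvPolynomial (Fin n) (IsLocalRing.ResidueField R))] at h
    rw [show algebraMap R (IsLocalRing.ResidueField R) d = 0 from h0, map_zero, zero_mul,
      add_zero] at h
    have h2 := congrArg (MvPolynomial.coeff α) h
    rw [MvPolynomial.coeff_map, MvPolynomial.coeff_zero, MvPolynomial.coeff_sum,
      Finset.sum_eq_single α (fun β _ hne => by simp [hne])
        (fun hα' => absurd hα hα'), coeff_monomial, if_pos rfl] at h2
    exact (hu.map (IsLocalRing.residue R)).ne_zero h2

end Groth.Agent.TopFT
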