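import Mathlib.RingTheory.NoetherNormalization
import Groth.Agent.TopFT.ModT

/-!
A topologically finite type domain all of whose non-zero primes are open is finite over the base.
-/

set_option autoImplicit false

namespace Groth.Agent.TopFT

open AdicRing

universe u v

variable {R : Type u} [CommRing R] [IsDomain R] [ValuationRing R] [Ring.KrullDimLE 1 R] {t : R}

theorem algebraMap_rPow_zero_surjective (ht : t ≠ 0) [IsAdicComplete (Ideal.span {t}) R] :
    Function.Surjective (algebraMap R (RPow R (Ideal.span {t}) 0)) := by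
  have hI : (Ideal.span {t}).FG := Submodule.fg_span_singleton t
  haveI := isAdicComplete_rPow (R := R) hI 0
  have hH : IsHausdorff ((Ideal.span {t}).map (algebraMap R (RPow R (Ideal.span {t}) 0)))
      (RPow R (Ideal.span {t}) 0) := inferInstance
  refine surjective_of_mk_map_comp_surjective (I := Ideal.span {t})
    (f := algebraMap R (RPow R (Ideal.span {t}) 0)) (haus := hH) fun y => ?_
  obtain ⟨y, rfl⟩ := Ideal.Quotient.mk_surjective y
  obtain ⟨p, hp⟩ := exists_sub_mem_rPow hI 0 1 y
  obtain ⟨r, hr⟩ := MvPolynomial.C_surjective (Fin 0) p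
  refine ⟨r, ?_⟩
  show Ideal.Quotient.mk _ (algebraMap R (RPow R (Ideal.span {t}) 0) r) = _
  rw [Ideal.Quotient.eq, ← neg_sub, ← algebraMap_C_rPow, hr]
  refine neg_mem ((SetLike.ext_iff.1 ?_ _).1 hp)
  exact congrArg (Ideal.map _) (pow_one _)

/-- A topologically finite type domain whose non-zero primes contain `t` is finite over `R`. -/
theorem finite_of_forall_prime (ht : t ≠ 0) [IsAdicComplete (Ideal.span {t}) R]
    {D : Type u} [CommRing D] [IsDomain D] [Algebra R D] (hD : TopFiniteType R (Ideal.span {t}) D)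
    (htD : algebraMap R D t ≠ 0)
    (hprime : ∀ q : Ideal D, q.IsPrime → q ≠ ⊥ → algebraMap R D t ∈ q) : Module.Finite R D := by
  classical
  have hR := isBase_span (R := R) ht
  have hI := ideal_fg hR
  haveI := isAdicComplete_topFiniteType hR hD
  have hT : NoPowTorsion (Ideal.span {t}) D := noPowTorsion_iff_smul.2 fun x hx => by
    rw [Algebra.smul_def] at hx
    exact (mul_eq_zero.1 hx).resolve_left htD
  haveI := faithfulSMul_of_noPowTorsion ht hT
  set J := (Ideal.span {t}).map (algebraMap R D) with hJ
  let MR := (IsLocalRing.maximalIdeal R).map (algebraMap R D)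
  have hJMR : J ≤ MR :=
    Ideal.map_mono ((Ideal.span_singleton_le_iff_mem _).2 mem_maximalIdeal_self)
  haveI hFT : Algebra.FiniteType R (D ⧸ J) := (finiteType_trunc hI hD 1).equiv
    (Ideal.quotientEquivAlgOfEq R (by rw [pow_one]))
  let fac : (D ⧸ J) →ₐ[R] D ⧸ MR := Ideal.Quotient.factorₐ R hJMR
  have hfac : Function.Surjective fac := Ideal.Quotient.factor_surjective hJMR
  have hnil : ∀ x, fac x = 0 → IsNilpotent x := fun x hx => by
    obtain ⟨x, rfl⟩ := Ideal.Quotient.mk_surjective x
    have hxm : x ∈ MR := Ideal.Quotient.eq_zero_iff_mem.1 hx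
    rw [← mem_nilradical]
    have hle : MR.map (Ideal.Quotient.mk J) ≤ nilradical (D ⧸ J) := by
      rw [Ideal.map_map, Ideal.map_le_iff_le_comap]
      intro r hr
      obtain ⟨k, c, hc⟩ := exists_dvd_pow_of_mem ht hr
      refine ⟨k, ?_⟩
      rw [← map_pow, hc, RingHom.comp_apply, map_mul]
      exact Ideal.Quotient.eq_zero_iff_mem.2
        (J.mul_mem_right _ (Ideal.mem_map_of_mem _ (Ideal.mem_span_singleton_self t)))
    exact hle (Ideal.mem_map_of_mem _ hxm)
  haveI : Algebra.FiniteType R (D ⧸ MR) := hFT.of_surjective fac hfac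
  let k := IsLocalRing.ResidueField R
  letI : Algebra k (D ⧸ MR) := (Ideal.Quotient.lift (IsLocalRing.maximalIdeal R)
    (algebraMap R (D ⧸ MR)) fun r hr =>
      Ideal.Quotient.eq_zero_iff_mem.2 (Ideal.mem_map_of_mem _ hr)).toAlgebra
  haveI : IsScalarTower R k (D ⧸ MR) := IsScalarTower.of_algebraMap_eq fun r => rfl
  haveI : Algebra.FiniteType k (D ⧸ MR) := Algebra.FiniteType.of_restrictScalars_finiteType R k _
  haveI : Nontrivial (D ⧸ MR) := by
    rw [Ideal.Quotient.nontrivial_iff]
    intro htop
    have hu : (1 : D ⧸ J) ∈ nilradical (D ⧸ J) := by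
      rw [mem_nilradical]
      exact hnil 1 (by rw [map_one]; exact (Ideal.Quotient.eq_zero_iff_mem.2 (htop ▸ trivial) :
        Ideal.Quotient.mk MR 1 = 0))
    rw [mem_nilradical] at hu
    obtain ⟨e, he⟩ := hu
    rw [one_pow, ← map_one (Ideal.Quotient.mk J), Ideal.Quotient.eq_zero_iff_mem] at he
    obtain ⟨q, hq⟩ := Ideal.exists_maximal D
    exact hq.ne_top ((Ideal.eq_top_iff_one _).2
      ((IsAdicComplete.le_jacobson_bot J).trans (sInf_le ⟨bot_le, hq⟩) he))
  obtain ⟨s, g, hg, hgfin⟩ := exists_finite_inj_algHom_of_fg k (D ⧸ MR)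
  choose y hy using fun i : Fin s => Ideal.Quotient.mk_surjective (g (MvPolynomial.X i))
  obtain ⟨ψ, hψ⟩ := exists_rPow_lift (I := Ideal.span {t}) hI y
  let P := RPow R (Ideal.span {t}) s
  have ht0 : algebraMap R (D ⧸ MR) t = 0 :=
    Ideal.Quotient.eq_zero_iff_mem.2 (Ideal.mem_map_of_mem _ mem_maximalIdeal_self)
  have hcompat : (Ideal.Quotient.mkₐ R MR).comp ψ = (g.restrictScalars R).comp (redk (t := t) s) := by
    refine rPow_hom_ext_mod _ _ ht0 fun i => ?_
    show Ideal.Quotient.mk MR (ψ _) = g (redk (t := t) s _)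
    rw [hψ, MvPolynomial.aeval_X, hy, redk_algebraMap, MvPolynomial.map_X]
  letI : Algebra P D := ψ.toRingHom.toAlgebra
  haveI : IsScalarTower R P D := IsScalarTower.of_algebraMap_eq fun r => (ψ.commutes r).symm
  -- `ψ` is injective
  haveI : FaithfulSMul P D := by
    rw [faithfulSMul_iff_algebraMap_injective, injective_iff_map_eq_zero]
    intro F hF
    by_contra hF0
    obtain ⟨c, G, hc, rfl, hG⟩ := exists_content_rPow s hF0
    have h1 : algebraMap R D c * ψ G = 0 := by
      rw [← ψ.commutes, ← map_mul]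
      exact hF
    have h2 : ψ G = 0 := (mul_eq_zero.1 h1).resolve_left
      ((map_ne_zero_iff _ (FaithfulSMul.algebraMap_injective R D)).2 hc)
    have h3 := DFunLike.congr_fun hcompat G
    rw [AlgHom.comp_apply, h2, map_zero] at h3
    exact hG (hg (h3.symm.trans (map_zero g).symm))
  -- finiteness over `P`
  haveI : Module.Finite P D := by
    haveI : Algebra.FiniteType P (D ⧸ J) := Algebra.FiniteType.of_restrictScalars_finiteType R P _
    have hgint : g.toRingHom.IsIntegral := RingHom.IsIntegral.of_finite hgfin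
    haveI : Algebra.IsIntegral P (D ⧸ J) := by
      refine ⟨fun x => ?_⟩
      obtain ⟨p, hp, hpx⟩ := hgint (fac x)
      obtain ⟨q, hq, -, hqm⟩ := Polynomial.lifts_and_degree_eq_and_monic
        (f := (redk (t := t) (R := R) s).toRingHom)
        (Polynomial.map_surjective _ (redk_surjective s) p) hp
      have hfe : fac (Polynomial.aeval x q) = 0 := by
        rw [← hpx, ← hq, Polynomial.eval₂_map, Polynomial.aeval_def]
        rw [show fac (Polynomial.eval₂ (algebraMap P (D ⧸ J)) x q) =
          Polynomial.eval₂ (fac.toRingHom.comp (algebraMap P (D ⧸ J))) (fac x) q from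
            Polynomial.hom_eval₂ q (algebraMap P (D ⧸ J)) fac.toRingHom x]
        congr 1
        ext F
        exact DFunLike.congr_fun hcompat F
      obtain ⟨N, hN⟩ := hnil _ hfe
      exact ⟨q ^ N, hqm.pow N, by rw [← Polynomial.aeval_def, map_pow, hN]⟩
    haveI : Module.Finite P (D ⧸ J) := Algebra.IsIntegral.finite
    haveI := isAdicComplete_rPow (R := R) hI s
    set JP := (Ideal.span {t}).map (algebraMap R P) with hJP
    have hmap : JP.map (algebraMap P D) = J := by
      rw [Ideal.map_map, ← IsScalarTower.algebraMap_eq]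
    haveI : IsAdicComplete JP D := (IsAdicComplete.map_algebraMap_iff ..).1 (by
      rw [hmap]; infer_instance)
    obtain ⟨l, f, hf⟩ := Module.Finite.exists_fin' P (D ⧸ J)
    choose w hw using fun i : Fin l => Ideal.Quotient.mk_surjective (f (Pi.single i 1))
    haveI : IsAdicComplete JP (Fin l → P) :=
      (nice hR ⟨s, AlgHom.id R P, Function.surjective_id⟩).isAdicComplete _
    refine Module.Finite.of_surjective (Fintype.linearCombination P w)
      (surjective_of_mkQ_comp_surjective (I := JP) fun y => ?_)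
    obtain ⟨y, rfl⟩ := Submodule.Quotient.mk_surjective _ y
    obtain ⟨a, ha⟩ := hf (Ideal.Quotient.mk J y)
    refine ⟨a, ?_⟩
    show Submodule.Quotient.mk (Fintype.linearCombination P w a) = Submodule.Quotient.mk y
    rw [Submodule.Quotient.eq, Ideal.smul_top_eq_map, hmap, Submodule.restrictScalars_mem,
      ← Ideal.Quotient.eq, ← ha]
    conv_rhs => rw [pi_eq_sum_univ' a]
    simp only [Fintype.linearCombination_apply, map_sum, map_smul]
    refine Finset.sum_congr rfl fun i _ => ?_
    rw [← hw, Algebra.smul_def, map_mul, Algebra.smul_def]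
    rfl
  -- no variables remain
  haveI : IsEmpty (Fin s) := ⟨fun i => by
    haveI : Algebra.IsIntegral P D := Algebra.IsIntegral.of_finite P D
    haveI : IsAdicComplete ((Ideal.span {t}).map (algebraMap R R)) R := by
      rw [Algebra.algebraMap_self, Ideal.map_id]; infer_instance
    obtain ⟨ev, hev⟩ := exists_rPow_lift (I := Ideal.span {t}) (A := R) hI (fun _ : Fin s => (0 : R))
    haveI : (RingHom.ker ev.toRingHom).IsPrime := RingHom.ker_isPrime _
    obtain ⟨Q, hQ, hQc⟩ := Ideal.exists_ideal_over_prime_of_isIntegral_of_isDomain (S := D)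
      (RingHom.ker ev.toRingHom)
      (by rw [(RingHom.injective_iff_ker_eq_bot _).1 (FaithfulSMul.algebraMap_injective P D)]
          exact bot_le)
    have hne : Q ≠ ⊥ := by
      rintro rfl
      have hXmem : algebraMap (MvPolynomial (Fin s) R) P (MvPolynomial.X i) ∈
          RingHom.ker ev.toRingHom := by
        rw [RingHom.mem_ker]
        show ev _ = 0
        rw [hev, MvPolynomial.aeval_X]
      rw [← hQc, Ideal.mem_comap, Ideal.mem_bot] at hXmem
      have hX0 : algebraMap (MvPolynomial (Fin s) R) P (MvPolynomial.X i) = 0 :=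
        FaithfulSMul.algebraMap_injective P D (hXmem.trans (map_zero _).symm)
      have h1 := congrArg (redk (t := t) s) hX0
      rw [redk_algebraMap, MvPolynomial.map_X, map_zero] at h1
      exact MvPolynomial.X_ne_zero i h1
    have htQ := hprime Q hQ hne
    rw [IsScalarTower.algebraMap_apply R P D, ← Ideal.mem_comap, hQc] at htQ
    exact ht ((ev.commutes t).symm.trans htQ)⟩
  obtain rfl : s = 0 := Nat.eq_zero_of_not_pos fun h => IsEmpty.false (⟨0, h⟩ : Fin s)
  haveI : Module.Finite R P :=
    Module.Finite.of_surjective (Algebra.linearMap R P) (algebraMap_rPow_zero_surjective ht)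
  exact Module.Finite.trans P D

end Groth.Agent.TopFT
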