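import Mathlib.RingTheory.Localization.BaseChange
import Mathlib.RingTheory.Localization.Ideal
import Groth.Agent.TopFT.NoetherNorm

/-!
The generic fibre of an admissible algebra: points, and finite extensions inside it.
-/

set_option autoImplicit false

namespace Groth.Agent.TopFT

open AdicRing TensorProduct

universe u

variable {R : Type u} [CommRing R] [IsDomain R] [ValuationRing R] [Ring.KrullDimLE 1 R] {t : R}
  {A : Type u} [CommRing A] [Algebra R A]

/-- The scalars inverted in the generic fibre. -/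
abbrev genSub (R A : Type u) [CommRing R] [CommRing A] [Algebra R A] : Submonoid A :=
  Algebra.algebraMapSubmonoid A (nonZeroDivisors R)

theorem genSub_disjoint_iff (ht : t ≠ 0) [IsAdicComplete (Ideal.span {t}) R] {p : Ideal A}
    (hp : p.IsPrime) : Disjoint (genSub R A : Set A) p ↔ algebraMap R A t ∉ p := by
  constructor
  · intro h htp
    exact Set.disjoint_left.1 h ⟨t, mem_nonZeroDivisors_of_ne_zero ht, rfl⟩ htp
  · intro htp
    refine Set.disjoint_left.2 ?_
    rintro _ ⟨r, hr, rfl⟩ hrp
    obtain ⟨k, c, hk⟩ := exists_dvd_pow ht (nonZeroDivisors.ne_zero hr)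
      (not_isUnit_of_isAdicComplete (t := t))
    refine htp (hp.mem_of_pow_mem k ?_)
    rw [← map_pow, hk, map_mul]
    exact p.mul_mem_right _ hrp

theorem points_correspond (ht : t ≠ 0) [IsAdicComplete (Ideal.span {t}) R]
    (hA : Admissible R (Ideal.span {t}) A) :
    (∀ p : Ideal A, p.IsPrime → algebraMap R A t ∉ p → ringKrullDim (A ⧸ p) = 1 →
        (p.map (algebraMap A (A ⊗[R] FractionRing R))).IsMaximal ∧
        (p.map (algebraMap A (A ⊗[R] FractionRing R))).comap
          (algebraMap A (A ⊗[R] FractionRing R)) = p) ∧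
      (∀ m : Ideal (A ⊗[R] FractionRing R), m.IsMaximal →
        algebraMap R A t ∉ m.comap (algebraMap A (A ⊗[R] FractionRing R)) ∧
          ringKrullDim (A ⧸ m.comap (algebraMap A (A ⊗[R] FractionRing R))) = 1 ∧
          (m.comap (algebraMap A (A ⊗[R] FractionRing R))).map
            (algebraMap A (A ⊗[R] FractionRing R)) = m) := by
  have hR := isBase_span (R := R) ht
  obtain ⟨⟨n, φ, hφ, -⟩, -⟩ := hA
  have hTFT : TopFiniteType R (Ideal.span {t}) A := ⟨n, φ, hφ⟩
  haveI := isAdicComplete_topFiniteType hR hTFT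
  have hjac : ∀ q : Ideal A, q.IsMaximal → algebraMap R A t ∈ q := fun q hq =>
    (IsAdicComplete.le_jacobson_bot ((Ideal.span {t}).map (algebraMap R A))).trans
      (sInf_le ⟨bot_le, hq⟩) (Ideal.mem_map_of_mem _ (Ideal.mem_span_singleton_self t))
  let AK := A ⊗[R] FractionRing R
  let M := genSub R A
  constructor
  · intro p hp htp hdim
    have hdisj := (genSub_disjoint_iff ht hp).2 htp
    have hcm := IsLocalization.under_map_of_isPrime_disjoint M AK hp hdisj
    refine ⟨?_, hcm⟩
    have hne : p.map (algebraMap A AK) ≠ ⊤ := fun h =>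
      hp.ne_top (by rw [← hcm, h]; exact Ideal.comap_top)
    obtain ⟨N, hN, hle⟩ := Ideal.exists_le_maximal _ hne
    have hq : (N.comap (algebraMap A AK)).IsPrime := Ideal.comap_isPrime _ N
    have hqd : algebraMap R A t ∉ N.comap (algebraMap A AK) :=
      (genSub_disjoint_iff ht hq).1
        ((IsLocalization.isPrime_iff_isPrime_disjoint M AK N).1 hN.isPrime).2
    have hpq : p ≤ N.comap (algebraMap A AK) := Ideal.map_le_iff_le_comap.1 hle
    rcases hpq.eq_or_lt with heq | hlt
    · rwa [heq, IsLocalization.map_under M AK]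
    exfalso
    haveI : Ring.KrullDimLE 1 (A ⧸ p) := (Ring.krullDimLE_iff (n := 1)).2 (le_of_eq hdim)
    haveI := hp
    haveI := hq
    have hq' : ((N.comap (algebraMap A AK)).map (Ideal.Quotient.mk p)).IsMaximal := by
      refine Ideal.IsPrime.isMaximal_of_ne_bot
        (Ideal.map_isPrime_of_surjective Ideal.Quotient.mk_surjective (by rw [Ideal.mk_ker]; exact hpq))
        fun h => hlt.not_ge fun x hx => ?_
      rw [← Ideal.Quotient.eq_zero_iff_mem, ← Ideal.mem_bot, ← h]
      exact Ideal.mem_map_of_mem _ hx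
    haveI := hq'
    have hqmax : (((N.comap (algebraMap A AK)).map (Ideal.Quotient.mk p)).comap
        (Ideal.Quotient.mk p)).IsMaximal :=
      Ideal.comap_isMaximal_of_surjective _ Ideal.Quotient.mk_surjective
    rw [Ideal.comap_map_mk hpq] at hqmax
    exact hqd (hjac _ hqmax)
  · intro m hm
    have hp : (m.comap (algebraMap A AK)).IsPrime := Ideal.comap_isPrime _ m
    have hdisj := ((IsLocalization.isPrime_iff_isPrime_disjoint M AK m).1 hm.isPrime).2
    have htp := (genSub_disjoint_iff ht hp).1 hdisj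
    have hmc := IsLocalization.map_under M AK m
    refine ⟨htp, ?_, hmc⟩
    haveI := hp
    set p := m.comap (algebraMap A AK) with hpdef
    have htD : algebraMap R (A ⧸ p) t ≠ 0 := fun h =>
      htp (Ideal.Quotient.eq_zero_iff_mem.1 h)
    have hDTFT : TopFiniteType R (Ideal.span {t}) (A ⧸ p) :=
      ⟨n, (Ideal.Quotient.mkₐ R p).comp φ, Ideal.Quotient.mk_surjective.comp hφ⟩
    haveI : Module.Finite R (A ⧸ p) := finite_of_forall_prime ht hDTFT htD fun q hq hq0 => by
      by_contra htq
      refine hq0 ?_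
      haveI := hq
      have hpq : p ≤ q.comap (Ideal.Quotient.mk p) := fun x hx => by
        rw [Ideal.mem_comap, Ideal.Quotient.eq_zero_iff_mem.2 hx]
        exact q.zero_mem
      have hq'd : Disjoint (M : Set A) (q.comap (Ideal.Quotient.mk p)) :=
        (genSub_disjoint_iff ht (Ideal.comap_isPrime _ q)).2 fun h => htq h
      have hcm' := IsLocalization.under_map_of_isPrime_disjoint M AK
        (Ideal.comap_isPrime (Ideal.Quotient.mk p) q) hq'd
      have hle : m ≤ (q.comap (Ideal.Quotient.mk p)).map (algebraMap A AK) :=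
        hmc.symm.le.trans (Ideal.map_mono hpq)
      have heq := hm.eq_of_le (fun h => (Ideal.comap_isPrime (Ideal.Quotient.mk p) q).ne_top
        (by rw [← hcm', h]; exact Ideal.comap_top)) hle
      have hqp : q.comap (Ideal.Quotient.mk p) = p := hcm'.symm.trans (by rw [← heq])
      rw [← Ideal.map_comap_of_surjective _ Ideal.Quotient.mk_surjective q, hqp,
        Ideal.map_quotient_self]
    haveI : Algebra.IsIntegral R (A ⧸ p) := Algebra.IsIntegral.of_finite R _
    exact ringKrullDim_eq_one ht htD

/-- A complete finite algebra over a topologically finite type algebra is topologically finite type. -/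
theorem topFiniteType_of_finite {R : Type u} [CommRing R] {I : Ideal R} (hI : I.FG) {A : Type u}
    [CommRing A] [Algebra R A] (hA : TopFiniteType R I A) (A' : Type u) [CommRing A'] [Algebra R A']
    [Algebra A A'] [IsScalarTower R A A'] [Module.Finite A A']
    [IsAdicComplete (I.map (algebraMap R A')) A'] : TopFiniteType R I A' := by
  refine topFiniteType_of_finiteType hI ?_
  let J := I.map (algebraMap R A)
  let J' := I.map (algebraMap R A')
  haveI hFT : Algebra.FiniteType R (A ⧸ J) := (finiteType_trunc hI hA 1).equiv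
    (Ideal.quotientEquivAlgOfEq R (by rw [pow_one]))
  letI : Algebra (A ⧸ J) (A' ⧸ J') := (Ideal.Quotient.lift J (algebraMap A (A' ⧸ J')) fun a ha => by
    rw [IsScalarTower.algebraMap_apply A A' (A' ⧸ J'), Ideal.Quotient.algebraMap_eq,
      Ideal.Quotient.eq_zero_iff_mem]
    have := Ideal.mem_map_of_mem (algebraMap A A') ha
    rwa [Ideal.map_map, ← IsScalarTower.algebraMap_eq] at this).toAlgebra
  haveI : IsScalarTower A (A ⧸ J) (A' ⧸ J') := IsScalarTower.of_algebraMap_eq fun a => rfl
  haveI : IsScalarTower R (A ⧸ J) (A' ⧸ J') := IsScalarTower.of_algebraMap_eq fun r =>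
    (IsScalarTower.algebraMap_apply R A (A' ⧸ J') r).trans rfl
  haveI : Algebra.FiniteType (A ⧸ J) (A' ⧸ J') :=
    Algebra.FiniteType.of_restrictScalars_finiteType A (A ⧸ J) _
  exact hFT.trans this

/-- A finite algebra without power torsion over a topologically finite type algebra is admissible. -/
theorem admissible_of_finite {R : Type u} [CommRing R] {I : Ideal R} (hR : IsBase R I) {A : Type u}
    [CommRing A] [Algebra R A] (hA : TopFiniteType R I A) (A' : Type u) [CommRing A'] [Algebra R A']
    [Algebra A A'] [IsScalarTower R A A'] [Module.Finite A A'] (hT : NoPowTorsion I A') :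
    Admissible R I A' := by
  haveI := isAdicComplete_topFiniteType hR hA
  haveI : IsAdicComplete (I.map (algebraMap R A')) A' := by
    have h := (nice hR hA).isAdicComplete A'
    rw [IsScalarTower.algebraMap_eq R A A', ← Ideal.map_map]
    exact (IsAdicComplete.map_algebraMap_iff ..).2 h
  obtain ⟨l, χ, hχ⟩ := topFiniteType_of_finite (ideal_fg hR) hA A'
  refine ⟨⟨l, χ, hχ, ?_⟩, hT⟩
  letI : Algebra (RPow R I l) A' := χ.toRingHom.toAlgebra
  haveI : IsScalarTower R (RPow R I l) A' :=
    IsScalarTower.of_algebraMap_eq fun r => (χ.commutes r).symm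
  exact (nice hR ⟨l, AlgHom.id R _, Function.surjective_id⟩).satfg' _
    (sat_ker (Algebra.linearMap (RPow R I l) A') hT)

theorem tensor_smul_def {R : Type u} [CommRing R] {A : Type u} [CommRing A] [Algebra R A]
    {K : Type u} [CommRing K] [Algebra R K] (c : R) (x : A ⊗[R] K) :
    c • x = algebraMap R (A ⊗[R] K) c * x := by
  rw [← algebraMap_smul (A ⊗[R] K) c x, smul_eq_mul]

section Adjoin

theorem smul_eq_zero_tensor (ht : t ≠ 0) [IsAdicComplete (Ideal.span {t}) R]
    (x : A ⊗[R] FractionRing R) (h : t • x = 0) : x = 0 := by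
  have hu : IsUnit (algebraMap R (A ⊗[R] FractionRing R) t) := by
    rw [IsScalarTower.algebraMap_apply R A (A ⊗[R] FractionRing R)]
    exact IsLocalization.map_units (A ⊗[R] FractionRing R)
      (⟨algebraMap R A t, t, mem_nonZeroDivisors_of_ne_zero ht, rfl⟩ : genSub R A)
  rw [← algebraMap_smul (A ⊗[R] FractionRing R) t x, smul_eq_mul] at h
  exact hu.mul_right_eq_zero.1 h

/-- An admissible algebra embeds in its generic fibre. -/
theorem algebraMap_tensor_injective (ht : t ≠ 0) [IsAdicComplete (Ideal.span {t}) R]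
    (hT : NoPowTorsion (Ideal.span {t}) A) :
    Function.Injective (algebraMap A (A ⊗[R] FractionRing R)) := by
  rw [injective_iff_map_eq_zero]
  intro a ha
  obtain ⟨⟨_, r, hr, rfl⟩, h⟩ := (IsLocalization.map_eq_zero_iff (genSub R A) _ a).1 ha
  obtain ⟨k, c, hk⟩ := exists_dvd_pow ht (nonZeroDivisors.ne_zero hr)
    (not_isUnit_of_isAdicComplete (t := t))
  refine hT a k fun b hb => ?_
  rw [Ideal.span_singleton_pow, Ideal.mem_span_singleton'] at hb
  obtain ⟨e, rfl⟩ := hb
  rw [Algebra.smul_def, hk, map_mul, map_mul, mul_assoc, mul_comm (algebraMap R A r) _, mul_assoc,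
    h, mul_zero, mul_zero]

/-- Finitely many integral elements of the generic fibre generate an admissible algebra. -/
theorem admissible_adjoin (ht : t ≠ 0) [IsAdicComplete (Ideal.span {t}) R]
    (hA : Admissible R (Ideal.span {t}) A) {n : ℕ} (f : Fin n → A ⊗[R] FractionRing R)
    (hf : ∀ i, IsIntegral A (f i)) :
    Admissible R (Ideal.span {t}) ↥(Algebra.adjoin A (Set.range f)) ∧
      Module.Finite A ↥(Algebra.adjoin A (Set.range f)) := by
  obtain ⟨⟨k, φ, hφ, -⟩, hT⟩ := hA
  haveI hfin : Module.Finite A ↥(Algebra.adjoin A (Set.range f)) :=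
    Algebra.finite_adjoin_of_finite_of_isIntegral (Set.finite_range f)
      (by rintro _ ⟨i, rfl⟩; exact hf i)
  have hT' : NoPowTorsion (Ideal.span {t}) ↥(Algebra.adjoin A (Set.range f)) :=
    noPowTorsion_iff_smul.2 fun x hx =>
      Subtype.ext (smul_eq_zero_tensor ht _ (congrArg Subtype.val hx))
  exact ⟨admissible_of_finite (isBase_span ht) ⟨k, φ, hφ⟩ _ hT', hfin⟩

/-- The universal property of the finite extension as a blow-up. -/
theorem existsUnique_extension (ht : t ≠ 0) [IsAdicComplete (Ideal.span {t}) R]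
    (hT : NoPowTorsion (Ideal.span {t}) A) {n : ℕ} (f : Fin n → A ⊗[R] FractionRing R)
    (hf : ∀ i, IsIntegral A (f i)) {c : R} (hc : c ≠ 0) (g : Fin n → A)
    (hg : ∀ i, algebraMap A (A ⊗[R] FractionRing R) (g i) = c • f i)
    {D : Type u} [CommRing D] [Algebra R D] (hD : NoPowTorsion (Ideal.span {t}) D) (φ : A →ₐ[R] D)
    (hgen : (Ideal.span (insert (algebraMap R A c) (Set.range g))).map φ =
          Ideal.span {algebraMap R D c} ∨
      ∃ i, (Ideal.span (insert (algebraMap R A c) (Set.range g))).map φ = Ideal.span {φ (g i)}) :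
    (Ideal.span (insert (algebraMap R A c) (Set.range g))).map φ = Ideal.span {algebraMap R D c} ∧
      ∃! ψ : ↥(Algebra.adjoin A (Set.range f)) →ₐ[R] D,
        ψ.comp (IsScalarTower.toAlgHom R A ↥(Algebra.adjoin A (Set.range f))) = φ := by
  have hcD : ∀ x : D, algebraMap R D c * x = 0 → x = 0 := by
    intro x hx
    obtain ⟨k, e, hk⟩ := exists_dvd_pow ht hc (not_isUnit_of_isAdicComplete (t := t))
    refine hD x k fun b hb => ?_
    rw [Ideal.span_singleton_pow, Ideal.mem_span_singleton'] at hb
    obtain ⟨b, rfl⟩ := hb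
    rw [Algebra.smul_def, hk, map_mul, map_mul, mul_assoc, mul_comm (algebraMap R D c) _, mul_assoc,
      hx, mul_zero, mul_zero]
  have key : (Ideal.span (insert (algebraMap R A c) (Set.range g))).map φ =
      Ideal.span {algebraMap R D c} := by
    rcases hgen with h | ⟨i, h⟩
    · exact h
    obtain ⟨p, hp, hpx⟩ := hf i
    rw [← Polynomial.aeval_def] at hpx
    -- the integral equation multiplied by a power of `c`
    have hgi : Polynomial.aeval (g i) (p.scaleRoots (algebraMap R A c)) = 0 := by
      apply algebraMap_tensor_injective (A := A) ht hT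
      rw [map_zero, ← Polynomial.aeval_algebraMap_apply, hg,
        ← algebraMap_smul (A ⊗[R] FractionRing R) c (f i), smul_eq_mul,
        IsScalarTower.algebraMap_apply R A (A ⊗[R] FractionRing R)]
      exact Polynomial.scaleRoots_aeval_eq_zero hpx
    have hmem : algebraMap R D c ∈ (Ideal.span (insert (algebraMap R A c) (Set.range g))).map φ := by
      rw [← φ.commutes]
      exact Ideal.mem_map_of_mem _ (Ideal.subset_span (Set.mem_insert _ _))
    rw [h, Ideal.mem_span_singleton'] at hmem
    obtain ⟨d, hd⟩ := hmem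
    rw [h]
    obtain ⟨N, hN⟩ : ∃ N, p.natDegree = N := ⟨_, rfl⟩
    have h1 := congrArg φ hgi
    rw [Polynomial.aeval_eq_sum_range, Polynomial.natDegree_scaleRoots, hN, map_sum, map_zero,
      Finset.sum_range_succ] at h1
    have hlead : (p.scaleRoots (algebraMap R A c)).coeff N = 1 := by
      rw [← hN, Polynomial.coeff_scaleRoots_natDegree]; exact hp
    rw [hlead, one_smul, map_pow] at h1
    have hterm : ∀ j ∈ Finset.range N, ∃ w, φ ((p.scaleRoots (algebraMap R A c)).coeff j • g i ^ j) =
        φ (g i) ^ N * (d * w) := fun j hj => by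
      obtain ⟨l, hl⟩ := Nat.exists_eq_add_of_lt (Finset.mem_range.1 hj)
      refine ⟨φ (p.coeff j) * d ^ l, ?_⟩
      rw [Polynomial.coeff_scaleRoots, hN, hl, show j + l + 1 - j = l + 1 by omega, smul_eq_mul,
        map_mul, map_mul, map_pow, map_pow, φ.commutes, ← hd]
      ring
    choose w hw using hterm
    have h2 : φ (g i) ^ N * (d * (∑ j : ↥(Finset.range N), w j.1 j.2) + 1) = 0 := by
      rw [← h1, mul_add, mul_one, Finset.mul_sum, Finset.mul_sum,
        ← Finset.sum_coe_sort (Finset.range N)]
      congr 1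
      exact Finset.sum_congr rfl fun j _ => (hw j.1 j.2).symm
    have h3 : algebraMap R D c ^ N * (d * (∑ j : ↥(Finset.range N), w j.1 j.2) + 1) = 0 := by
      rw [← hd, mul_pow, mul_assoc, h2, mul_zero]
    have h4 : d * (∑ j : ↥(Finset.range N), w j.1 j.2) + 1 = 0 := by
      clear hw h1 h2
      generalize d * (∑ j : ↥(Finset.range N), w j.1 j.2) + 1 = z at h3
      clear hlead hN w
      induction N with
      | zero => simpa using h3
      | succ N ih => exact ih (hcD _ (by rwa [pow_succ', mul_assoc] at h3))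
    have hdu : IsUnit d := IsUnit.of_mul_eq_one (-(∑ j : ↥(Finset.range N), w j.1 j.2))
      (by linear_combination -h4)
    rw [← hd]
    exact (Ideal.span_singleton_mul_left_unit hdu _).symm
  refine ⟨key, ?_⟩
  have he : ∀ i, ∃ e, φ (g i) = algebraMap R D c * e := fun i => Ideal.mem_span_singleton.1
    (key ▸ Ideal.mem_map_of_mem _ (Ideal.subset_span (Set.mem_insert_of_mem _ ⟨i, rfl⟩)))
  choose e he using he
  let Φ : A ⊗[R] FractionRing R →ₐ[R] D ⊗[R] FractionRing R :=
    Algebra.TensorProduct.map φ (AlgHom.id R _)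
  let incl : D →ₐ[R] D ⊗[R] FractionRing R := Algebra.TensorProduct.includeLeft
  have hincl : Function.Injective incl := algebraMap_tensor_injective ht hD
  have hΦ : ∀ a, Φ (algebraMap A (A ⊗[R] FractionRing R) a) = incl (φ a) := fun a => by
    show Algebra.TensorProduct.map φ (AlgHom.id R _) (a ⊗ₜ[R] (1 : FractionRing R)) = _
    rfl
  have hfi : ∀ i, Φ (f i) = incl (e i) := fun i => by
    have h1 : c • Φ (f i) = c • incl (e i) := by
      rw [← map_smul, ← hg, hΦ, he, map_mul, AlgHom.commutes, ← tensor_smul_def]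
    have hu : IsUnit (algebraMap R (D ⊗[R] FractionRing R) c) := by
      rw [IsScalarTower.algebraMap_apply R D (D ⊗[R] FractionRing R)]
      exact IsLocalization.map_units (D ⊗[R] FractionRing R)
        (⟨algebraMap R D c, c, mem_nonZeroDivisors_of_ne_zero hc, rfl⟩ : genSub R D)
    rwa [tensor_smul_def, tensor_smul_def, hu.mul_right_inj] at h1
  let A' := Algebra.adjoin A (Set.range f)
  have hrange : ∀ x : A', Φ (x : A ⊗[R] FractionRing R) ∈ incl.range := by
    rintro ⟨x, hx⟩
    induction hx using Algebra.adjoin_induction with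
    | mem x hx => obtain ⟨i, rfl⟩ := hx; exact ⟨e i, (hfi i).symm⟩
    | algebraMap a => exact ⟨φ a, (hΦ a).symm⟩
    | add a b _ _ ha hb =>
      obtain ⟨p, hp⟩ := ha; obtain ⟨q, hq⟩ := hb
      exact ⟨p + q, by rw [map_add]; exact (congrArg₂ (· + ·) hp hq).trans (map_add Φ a b).symm⟩
    | mul a b _ _ ha hb =>
      obtain ⟨p, hp⟩ := ha; obtain ⟨q, hq⟩ := hb
      exact ⟨p * q, by rw [map_mul]; exact (congrArg₂ (· * ·) hp hq).trans (map_mul Φ a b).symm⟩
  let Ψ : A' →ₐ[R] incl.range :=
    (Φ.comp (A'.val.restrictScalars R)).codRestrict incl.range hrange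
  let E : D ≃ₐ[R] incl.range := AlgEquiv.ofInjective incl hincl
  refine ⟨E.symm.toAlgHom.comp Ψ, AlgHom.ext fun a => E.injective ?_, fun ψ hψ => AlgHom.ext fun x => ?_⟩
  · show E (E.symm (Ψ (algebraMap A A' a))) = E (φ a)
    rw [AlgEquiv.apply_symm_apply]
    exact Subtype.ext (hΦ a)
  · apply hincl
    have hval : ∀ z : A', incl (E.symm (Ψ z)) = Φ (z : A ⊗[R] FractionRing R) := fun z => by
      have := congrArg Subtype.val (E.apply_symm_apply (Ψ z))
      exact this
    rw [show (E.symm.toAlgHom.comp Ψ) x = E.symm (Ψ x) from rfl, hval]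
    obtain ⟨x, hx⟩ := x
    induction hx using Algebra.adjoin_induction with
    | mem x hx =>
      obtain ⟨i, rfl⟩ := hx
      rw [hfi]
      congr 1
      have h1 := DFunLike.congr_fun hψ (g i)
      have h2 : algebraMap R D c * ψ ⟨f i, Algebra.subset_adjoin ⟨i, rfl⟩⟩ = φ (g i) := by
        rw [← h1, ← ψ.commutes, ← map_mul]
        exact congrArg ψ (Subtype.ext (((hg i).trans (tensor_smul_def _ _)).symm))
      rw [he] at h2
      exact sub_eq_zero.1 (hcD _ (by rw [mul_sub, h2, sub_self]))
    | algebraMap a =>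
      rw [hΦ]
      exact congrArg incl (DFunLike.congr_fun hψ a)
    | add a b ha' hb' ha hb =>
      rw [show (⟨a + b, _⟩ : A') = ⟨a, ha'⟩ + ⟨b, hb'⟩ from rfl, map_add ψ, map_add incl, ha, hb,
        ← map_add]
      rfl
    | mul a b ha' hb' ha hb =>
      rw [show (⟨a * b, _⟩ : A') = ⟨a, ha'⟩ * ⟨b, hb'⟩ from rfl, map_mul ψ, map_mul incl, ha, hb,
        ← map_mul]
      rfl

end Adjoin

end Groth.Agent.TopFT
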