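import Mathlib.RingTheory.Henselian
import Mathlib.RingTheory.IntegralClosure.IsIntegralClosure.Basic
import Mathlib.RingTheory.Jacobson.Ring
import Mathlib.RingTheory.Ideal.GoingUp
import Groth.Agent.TopFT.Torsion
import Groth.Agent.TopFT.Trunc

/-!
Complete valuation rings of height one: finite algebras, local domains, finiteness.
-/

set_option autoImplicit false

namespace Groth.Agent.TopFT

open AdicRing

universe u v

variable {R : Type u} [CommRing R] [IsDomain R] [ValuationRing R] [Ring.KrullDimLE 1 R] {t : R}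

theorem isBase_span (ht : t ≠ 0) [IsAdicComplete (Ideal.span {t}) R] : IsBase R (Ideal.span {t}) :=
  ⟨inferInstance, Or.inr ⟨inferInstance, inferInstance, inferInstance, t, ht, rfl⟩⟩

theorem mem_maximalIdeal_self [IsAdicComplete (Ideal.span {t}) R] :
    t ∈ IsLocalRing.maximalIdeal R :=
  (IsLocalRing.mem_maximalIdeal t).2 not_isUnit_of_isAdicComplete

theorem exists_dvd_pow_of_mem (ht : t ≠ 0) [IsAdicComplete (Ideal.span {t}) R] {x : R}
    (hx : x ∈ IsLocalRing.maximalIdeal R) : ∃ k : ℕ, t ∣ x ^ k :=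
  (isUnit_or_dvd_pow ht not_isUnit_of_isAdicComplete x).resolve_left
    ((IsLocalRing.mem_maximalIdeal x).1 hx)

/-- A prime of `R` is zero or maximal. -/
theorem prime_eq_maximalIdeal (ht : t ≠ 0) [IsAdicComplete (Ideal.span {t}) R] {p : Ideal R}
    (hp : p.IsPrime) (htp : t ∈ p) : p = IsLocalRing.maximalIdeal R :=
  le_antisymm (IsLocalRing.le_maximalIdeal hp.ne_top) fun x hx => by
    obtain ⟨k, hk⟩ := exists_dvd_pow_of_mem ht hx
    exact hp.mem_of_pow_mem k (p.mem_of_dvd hk htp)

theorem prime_eq_bot (ht : t ≠ 0) [IsAdicComplete (Ideal.span {t}) R] {p : Ideal R}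
    (hp : p.IsPrime) (htp : t ∉ p) : p = ⊥ := by
  rw [eq_bot_iff]
  intro x hx
  by_contra hx0
  obtain ⟨k, c, hk⟩ := exists_dvd_pow ht hx0 (not_isUnit_of_isAdicComplete (t := t))
  exact htp (hp.mem_of_pow_mem k (hk ▸ p.mul_mem_right c hx))

section Algebra

variable {D : Type v} [CommRing D] [Algebra R D]

theorem map_span_singleton_algebraMap :
    (Ideal.span {t}).map (algebraMap R D) = Ideal.span {algebraMap R D t} :=
  map_span_singleton' _ t

theorem noPowTorsion_iff_smul {M : Type*} [AddCommGroup M] [Module R M] :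
    NoPowTorsion (Ideal.span {t}) M ↔ ∀ x : M, t • x = 0 → x = 0 := by
  refine ⟨fun h x hx => h x 1 fun a ha => ?_, fun h x n hx => ?_⟩
  · rw [pow_one, Ideal.mem_span_singleton'] at ha
    obtain ⟨b, rfl⟩ := ha
    rw [mul_smul, hx, smul_zero]
  · have h0 := hx (t ^ n) (Ideal.pow_mem_pow (Ideal.mem_span_singleton_self t) n)
    clear hx
    induction n with
    | zero => simpa using h0
    | succ n ih => exact ih (h _ (by rwa [← mul_smul, ← pow_succ']))

/-- A finite module over `R` is complete. -/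
theorem isAdicComplete_finite (ht : t ≠ 0) [IsAdicComplete (Ideal.span {t}) R] (M : Type v)
    [AddCommGroup M] [Module R M] [Module.Finite R M] : IsAdicComplete (Ideal.span {t}) M := by
  have hR := isBase_span (R := R) ht
  have hA : TopFiniteType R (Ideal.span {t}) R := by
    have hR' : IsAdicComplete ((Ideal.span {t}).map (algebraMap R R)) R := by
      rw [Algebra.algebraMap_self, Ideal.map_id]; infer_instance
    exact topFiniteType_of_finiteType (ideal_fg hR) inferInstance
  have h := nice hR hA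
  rw [Algebra.algebraMap_self, Ideal.map_id] at h
  exact h.isAdicComplete M

theorem isAdicComplete_map_finite (ht : t ≠ 0) [IsAdicComplete (Ideal.span {t}) R]
    [Module.Finite R D] : IsAdicComplete ((Ideal.span {t}).map (algebraMap R D)) D :=
  (IsAdicComplete.map_algebraMap_iff ..).2 (isAdicComplete_finite ht D)

/-- A finite algebra which is a domain is local. -/
theorem isLocalRing_of_finite_domain (ht : t ≠ 0) [IsAdicComplete (Ideal.span {t}) R]
    [IsDomain D] [Module.Finite R D] : IsLocalRing D := by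
  set J := (Ideal.span {t}).map (algebraMap R D) with hJ
  haveI : IsAdicComplete J D := isAdicComplete_map_finite ht
  haveI : Algebra.IsIntegral R D := Algebra.IsIntegral.of_finite R D
  have hjac : J ≤ (⊥ : Ideal D).jacobson := IsAdicComplete.le_jacobson_bot J
  have hmax : ∀ q : Ideal D, q.IsPrime → J ≤ q → q.IsMaximal := fun q hq hJq => by
    haveI := hq
    refine Ideal.isMaximal_of_isIntegral_of_isMaximal_comap (R := R) q ?_
    have htq : t ∈ q.comap (algebraMap R D) :=
      hJq (Ideal.mem_map_of_mem _ (Ideal.mem_span_singleton_self t))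
    rw [prime_eq_maximalIdeal ht (Ideal.comap_isPrime _ q) htq]
    exact IsLocalRing.maximalIdeal.isMaximal R
  haveI : Nontrivial D := inferInstance
  obtain ⟨m₁, hm₁⟩ := Ideal.exists_maximal D
  refine IsLocalRing.of_unique_max_ideal ⟨m₁, hm₁, fun m₂ hm₂ => ?_⟩
  by_contra hne
  obtain ⟨x, hx₁, hx₂⟩ : ∃ x ∈ m₁, x ∉ m₂ := by
    by_contra h
    push Not at h
    exact hne (hm₁.eq_of_le hm₂.ne_top h).symm
  obtain ⟨n, y, hy⟩ : ∃ (n : ℕ) (y : D), x ^ n * (1 - x * y) ∈ J := by
    by_contra h
    push Not at h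
    let S : Submonoid D :=
      { carrier := {s | ∃ (n : ℕ) (y : D), s = x ^ n * (1 - x * y)}
        mul_mem' := by
          rintro _ _ ⟨n, y, rfl⟩ ⟨n', y', rfl⟩
          exact ⟨n + n', y + y' - x * y * y', by ring⟩
        one_mem' := ⟨0, 0, by simp⟩ }
    obtain ⟨q, hq, hJq, hdisj⟩ := Ideal.exists_le_prime_disjoint J S
      (Set.disjoint_right.2 fun s hs hsJ => by
        obtain ⟨n, y, rfl⟩ := hs
        exact h n y hsJ)
    have hxq : x ∉ q := fun hx => Set.disjoint_left.1 hdisj hx ⟨1, 0, by ring⟩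
    obtain ⟨y, z, hz, hyz⟩ := (hmax q hq hJq).exists_inv hxq
    exact Set.disjoint_left.1 hdisj hz ⟨0, y, by rw [← hyz]; ring⟩
  let e := (x * y) ^ n
  have he : e ^ 2 - e ∈ J := by
    have h1 : (1 - x * y) ∣ (1 - (x * y) ^ n) := by
      have h := sub_dvd_pow_sub_pow (1 : D) (x * y) n
      rwa [one_pow] at h
    obtain ⟨w, hw⟩ := h1
    have : e ^ 2 - e = (x ^ n * (1 - x * y)) * (-(y ^ n * w)) := by
      have he' : e = x ^ n * y ^ n := mul_pow x y n
      calc e ^ 2 - e = -(e * (1 - (x * y) ^ n)) := by simp only [e]; ring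
        _ = -(e * ((1 - x * y) * w)) := by rw [hw]
        _ = _ := by rw [he']; ring
    rw [this]
    exact J.mul_mem_right _ hy
  -- lift to an idempotent
  have hunit : IsUnit (Ideal.Quotient.mk J (2 * e - 1)) := by
    refine IsUnit.of_mul_eq_one (Ideal.Quotient.mk J (2 * e - 1)) ?_
    rw [← map_mul, ← map_one (Ideal.Quotient.mk J), Ideal.Quotient.eq]
    rw [show (2 * e - 1) * (2 * e - 1) - 1 = 4 * (e ^ 2 - e) by ring]
    exact J.mul_mem_left _ he
  obtain ⟨a, ha, hae⟩ := HenselianRing.is_henselian (R := D) (I := J)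
    (Polynomial.X ^ 2 - Polynomial.X)
    ((Polynomial.monic_X_pow 2).sub_of_left (by simp [Polynomial.degree_X_pow, Polynomial.degree_X]))
    e (by simpa using he) (by simpa [one_add_one_eq_two, map_ofNat] using hunit)
  have haa : a * (a - 1) = 0 := by
    have : a ^ 2 - a = 0 := by simpa [Polynomial.IsRoot] using ha
    rw [← this]; ring
  have hJm : ∀ m : Ideal D, m.IsMaximal → J ≤ m := fun m hm => hjac.trans (sInf_le ⟨bot_le, hm⟩)
  rcases mul_eq_zero.1 haa with h0 | h1
  · -- `e ∈ J ≤ m₂`
    have : e ∈ m₂ := hJm m₂ hm₂ (by simpa [h0] using hae)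
    have hxy : 1 - x * y ∈ m₂ :=
      (hm₂.isPrime.mem_or_mem (hJm m₂ hm₂ hy)).resolve_left fun h => hx₂ (hm₂.isPrime.mem_of_pow_mem n h)
    exact hm₂.ne_top ((Ideal.eq_top_iff_one _).2
      (by simpa using m₂.add_mem hxy (hm₂.isPrime.mem_of_pow_mem n this)))
  · have ha1 : a = 1 := sub_eq_zero.1 h1
    have he1 : 1 - e ∈ m₁ := hJm m₁ hm₁ (by simpa [ha1] using hae)
    rcases Nat.eq_zero_or_pos n with hn | hn
    · subst hn
      have h' : 1 - x * y ∈ m₁ := hJm m₁ hm₁ (by simpa using hy)
      exact hm₁.ne_top ((Ideal.eq_top_iff_one _).2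
        (by simpa using m₁.add_mem h' (m₁.mul_mem_right y hx₁)))
    · have hem : e ∈ m₁ := m₁.pow_mem_of_mem (m₁.mul_mem_right y hx₁) n hn
      exact hm₁.ne_top ((Ideal.eq_top_iff_one _).2 (by simpa using m₁.add_mem he1 hem))

/-- An integral domain over `R` is local. -/
theorem isLocalRing_of_integral_domain (ht : t ≠ 0) [IsAdicComplete (Ideal.span {t}) R]
    [IsDomain D] [Algebra.IsIntegral R D] : IsLocalRing D := by
  refine IsLocalRing.of_nonunits_add fun a b ha hb hab => ?_
  obtain ⟨c, hc⟩ := hab.exists_right_inv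
  let E := Algebra.adjoin R ({a, b, c} : Set D)
  haveI : Module.Finite R E := Algebra.finite_adjoin_of_finite_of_isIntegral
    (Set.toFinite ({a, b, c} : Set D)) fun x _ => Algebra.IsIntegral.isIntegral x
  haveI := isLocalRing_of_finite_domain (D := E) ht
  have ha' : (⟨a, Algebra.subset_adjoin (by simp)⟩ : E) ∈ nonunits E :=
    fun h => ha (h.map E.val)
  have hb' : (⟨b, Algebra.subset_adjoin (by simp)⟩ : E) ∈ nonunits E :=
    fun h => hb (h.map E.val)
  refine IsLocalRing.nonunits_add ha' hb'
    (IsUnit.of_mul_eq_one (⟨c, Algebra.subset_adjoin (by simp)⟩ : E) (Subtype.ext hc))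

/-- A domain integral over `R` and containing it has dimension one. -/
theorem ringKrullDim_eq_one (ht : t ≠ 0) [IsAdicComplete (Ideal.span {t}) R] [IsDomain D]
    [Algebra.IsIntegral R D] (hinj : algebraMap R D t ≠ 0) : ringKrullDim D = 1 := by
  have hle : Ring.KrullDimLE 1 D := Ring.KrullDimLE.mk₁' fun q hq0 hq => by
    haveI := hq
    refine Ideal.isMaximal_of_isIntegral_of_isMaximal_comap (R := R) q ?_
    have : t ∈ q.comap (algebraMap R D) := by
      by_contra h
      have hbot := prime_eq_bot ht (Ideal.comap_isPrime _ q) h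
      have hker : ∀ x : R, algebraMap R D x = 0 → x = 0 := fun x hx => by
        have : x ∈ q.comap (algebraMap R D) := by rw [Ideal.mem_comap, hx]; exact zero_mem q
        rwa [hbot] at this
      haveI : FaithfulSMul R D := (faithfulSMul_iff_algebraMap_injective R D).2
        ((injective_iff_map_eq_zero _).2 hker)
      exact hq0 (Ideal.eq_bot_of_comap_eq_bot hbot)
    rw [prime_eq_maximalIdeal ht (Ideal.comap_isPrime _ q) this]
    exact IsLocalRing.maximalIdeal.isMaximal R
  refine le_antisymm (by exact_mod_cast (Ring.krullDimLE_iff (n := 1)).1 hle) ?_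
  by_contra hlt
  have h0 : Ring.KrullDimLE 0 D := by
    rw [Ring.krullDimLE_iff]
    rcases hd : ringKrullDim D with _ | d
    · exact bot_le
    · rw [hd] at hlt
      have : d < 1 := WithBot.coe_lt_coe.1 (not_le.1 hlt)
      exact WithBot.coe_le_coe.2 (Order.lt_one_iff.1 this).le
  have hfield : (⊥ : Ideal D).IsMaximal := Ideal.isMaximal_of_isPrime _
  obtain ⟨y, z, hz, hyz⟩ := hfield.exists_inv (x := algebraMap R D t) (by simpa using hinj)
  rw [Ideal.mem_bot] at hz
  rw [hz, add_zero] at hyz
  haveI := isLocalRing_of_integral_domain (D := D) ht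
  obtain ⟨m, hm⟩ := Ideal.exists_maximal D
  have htm : t ∈ m.comap (algebraMap R D) := by
    rw [IsLocalRing.eq_maximalIdeal (Ideal.isMaximal_comap_of_isIntegral_of_isMaximal (R := R) m)]
    exact mem_maximalIdeal_self
  exact hm.ne_top ((Ideal.eq_top_iff_one _).2 (hyz ▸ m.mul_mem_left y htm))

/-- A finite type algebra over `R` killed by a power of `t` with integral residue rings is finite. -/
theorem isIntegral_of_forall_isMaximal (m : Ideal D) [m.IsMaximal] [Algebra.FiniteType R D]
    (htm : ∀ r ∈ IsLocalRing.maximalIdeal R, algebraMap R D r ∈ m)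
    (hnil : ∀ x ∈ m, IsNilpotent x) : Algebra.IsIntegral R D := by
  haveI : Algebra.FiniteType R (D ⧸ m) :=
    (inferInstance : Algebra.FiniteType R D).of_surjective (Ideal.Quotient.mkₐ R m)
      Ideal.Quotient.mk_surjective
  letI := Ideal.Quotient.field m
  let k := IsLocalRing.ResidueField R
  letI : Algebra k (D ⧸ m) := (Ideal.Quotient.lift (IsLocalRing.maximalIdeal R)
    (algebraMap R (D ⧸ m)) fun r hr => by
      rw [IsScalarTower.algebraMap_apply R D (D ⧸ m), Ideal.Quotient.algebraMap_eq,
        Ideal.Quotient.eq_zero_iff_mem]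
      exact htm r hr).toAlgebra
  haveI : IsScalarTower R k (D ⧸ m) := IsScalarTower.of_algebraMap_eq fun r => rfl
  haveI : Algebra.FiniteType k (D ⧸ m) := Algebra.FiniteType.of_restrictScalars_finiteType R k _
  haveI : Module.Finite k (D ⧸ m) := finite_of_finite_type_of_isJacobsonRing k (D ⧸ m)
  haveI : Module.Finite R k :=
    Module.Finite.of_surjective (Algebra.linearMap R k) IsLocalRing.residue_surjective
  haveI : Module.Finite R (D ⧸ m) := Module.Finite.trans k _
  refine ⟨fun x => ?_⟩
  obtain ⟨p, hp, hpx⟩ := Algebra.IsIntegral.isIntegral (R := R) (Ideal.Quotient.mk m x)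
  have hmem : Polynomial.aeval x p ∈ m := by
    rw [← Ideal.Quotient.eq_zero_iff_mem, ← hpx]
    exact (Polynomial.aeval_algHom_apply (Ideal.Quotient.mkₐ R m) x p).symm
  obtain ⟨N, hN⟩ := hnil _ hmem
  exact ⟨p ^ N, hp.pow N, by rw [← Polynomial.aeval_def, map_pow, hN]⟩

/-- A topologically finite type algebra with finite reduction is finite. -/
theorem finite_of_finite_reduction (ht : t ≠ 0) [IsAdicComplete (Ideal.span {t}) R]
    (hD : TopFiniteType R (Ideal.span {t}) D)
    [Algebra.IsIntegral R (D ⧸ (Ideal.span {t}).map (algebraMap R D))] : Module.Finite R D := by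
  have hR := isBase_span (R := R) ht
  haveI := isAdicComplete_topFiniteType hR hD
  haveI : IsAdicComplete (Ideal.span {t}) D := (IsAdicComplete.map_algebraMap_iff ..).1 ‹_›
  haveI : Algebra.FiniteType R (D ⧸ (Ideal.span {t}).map (algebraMap R D)) := by
    obtain ⟨n, φ, hφ⟩ := hD
    obtain ⟨p, hp, hker⟩ := exists_rPow_proj (I := Ideal.span {t}) (R := R) (ideal_fg hR) n 1
    haveI := finitePresentation_quot_mvPolynomial (R := R)
      (Ideal.FG.pow (n := 1) (ideal_fg hR)) n
    let q : RPow R (Ideal.span {t}) n →ₐ[R] D ⧸ (Ideal.span {t}).map (algebraMap R D) :=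
      (Ideal.Quotient.mkₐ R _).comp φ
    have hq : ∀ x ∈ RingHom.ker p, q x = 0 := by
      intro x hx
      rw [hker, pow_one] at hx
      refine Ideal.Quotient.eq_zero_iff_mem.2 ?_
      have := Ideal.mem_map_of_mem φ.toRingHom hx
      rwa [Ideal.map_map, AlgHom.toRingHom_eq_coe, AlgHom.comp_algebraMap] at this
    refine (inferInstance : Algebra.FiniteType R (MvPolynomial (Fin n) R ⧸
        ((Ideal.span {t}) ^ 1).map (algebraMap R (MvPolynomial (Fin n) R)))).of_surjective
      ((Ideal.Quotient.liftₐ _ q hq).comp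
        (Ideal.quotientKerAlgEquivOfSurjective hp).symm.toAlgHom) ?_
    show Function.Surjective (⇑(Ideal.Quotient.liftₐ _ q hq) ∘
      ⇑(Ideal.quotientKerAlgEquivOfSurjective hp).symm)
    refine Function.Surjective.comp (fun y => ?_) (AlgEquiv.surjective _)
    obtain ⟨y, rfl⟩ := Ideal.Quotient.mk_surjective y
    obtain ⟨x, rfl⟩ := hφ y
    exact ⟨Ideal.Quotient.mk _ x, rfl⟩
  haveI : Module.Finite R (D ⧸ (Ideal.span {t}).map (algebraMap R D)) := Algebra.IsIntegral.finite
  obtain ⟨s, g, hg⟩ :=
    Module.Finite.exists_fin' R (D ⧸ (Ideal.span {t}).map (algebraMap R D))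
  choose w hw using fun i : Fin s => Ideal.Quotient.mk_surjective (g (Pi.single i 1))
  haveI : IsAdicComplete (Ideal.span {t}) (Fin s → R) := isAdicComplete_finite ht _
  refine Module.Finite.of_surjective (Fintype.linearCombination R w)
    (surjective_of_mkQ_comp_surjective (I := Ideal.span {t}) fun y => ?_)
  obtain ⟨y, rfl⟩ := Submodule.Quotient.mk_surjective _ y
  obtain ⟨a, ha⟩ := hg (Ideal.Quotient.mk _ y)
  refine ⟨a, ?_⟩
  show Submodule.Quotient.mk (Fintype.linearCombination R w a) = Submodule.Quotient.mk y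
  rw [Submodule.Quotient.eq, Ideal.smul_top_eq_map, Submodule.restrictScalars_mem,
    ← Ideal.Quotient.eq, ← ha]
  conv_rhs => rw [pi_eq_sum_univ' a]
  simp only [Fintype.linearCombination_apply, map_sum, map_smul]
  refine Finset.sum_congr rfl fun i _ => ?_
  rw [← hw, Algebra.smul_def, map_mul, Algebra.smul_def]
  rfl

end Algebra

end Groth.Agent.TopFT
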