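import Mathlib.RingTheory.Valuation.ValuationRing
import Mathlib.RingTheory.Algebraic.Integral
import Mathlib.RingTheory.Localization.Integral
import Mathlib.FieldTheory.IsAlgClosed.Basic
import Groth.Agent.TopFT.ValBase

/-!
Integral closures of a complete height one valuation ring in algebraic extensions are valuation rings.
-/

set_option autoImplicit false

namespace Groth.Agent.TopFT

open Polynomial

universe u v

section Trick

variable {L : Type v} [Field L] {C : Subring L}

/-- An element of a field which is a root of a polynomial with coefficients in an integrally closed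
local subring, one of which is a unit, or its inverse, belongs to the subring. -/
theorem mem_or_inv_mem_of_root [IsLocalRing C]
    (hC : ∀ (y : L) (q : C[X]), q.Monic → q.eval₂ C.subtype y = 0 → y ∈ C) (x : L) :
    ∀ (n : ℕ) (a : ℕ → C), (∃ i ≤ n, IsUnit (a i)) →
      ∑ i ∈ Finset.range (n + 1), (a i : L) * x ^ i = 0 → x ∈ C ∨ x⁻¹ ∈ C := by
  intro n
  induction n with
  | zero =>
    rintro a ⟨i, hi, hu⟩ h
    obtain rfl := Nat.le_zero.1 hi
    have h0 : a 0 = 0 := Subtype.ext (by simpa using h)
    exact absurd (h0 ▸ hu) not_isUnit_zero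
  | succ n ih =>
    rintro a ha h
    by_cases hun : IsUnit (a (n + 1))
    · left
      obtain ⟨w, hw⟩ := hun
      let q : C[X] := X ^ (n + 1) + ∑ i ∈ Finset.range (n + 1),
        Polynomial.C ((↑w⁻¹ : C) * a i) * X ^ i
      refine hC x q ?_ ?_
      · refine monic_X_pow_add (lt_of_le_of_lt (degree_sum_le _ _) ?_)
        rw [Finset.sup_lt_iff (WithBot.bot_lt_coe _)]
        intro i hi
        exact lt_of_le_of_lt (degree_C_mul_X_pow_le _ _)
          (WithBot.coe_lt_coe.2 (Finset.mem_range.1 hi))
      · simp only [q, eval₂_add, eval₂_X_pow, eval₂_finsetSum, eval₂_mul, eval₂_C, map_mul,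
          Subring.coe_subtype]
        have hw' : ((↑w⁻¹ : C) : L) * (a (n + 1) : L) = 1 := by
          rw [← hw, ← Subring.coe_mul, Units.inv_mul, Subring.coe_one]
        have := congrArg (((↑w⁻¹ : C) : L) * ·) h
        simp only [mul_zero, Finset.sum_range_succ _ (n + 1), mul_add, ← mul_assoc, hw', one_mul,
          Finset.mul_sum] at this
        rw [add_comm]
        exact this
    · have hy : (a (n + 1) : L) * x ∈ C := by
        let q : C[X] := X ^ (n + 1) + ∑ i ∈ Finset.range (n + 1),
          Polynomial.C (a i * a (n + 1) ^ (n - i)) * X ^ i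
        refine hC _ q ?_ ?_
        · refine monic_X_pow_add (lt_of_le_of_lt (degree_sum_le _ _) ?_)
          rw [Finset.sup_lt_iff (WithBot.bot_lt_coe _)]
          intro i hi
          exact lt_of_le_of_lt (degree_C_mul_X_pow_le _ _)
            (WithBot.coe_lt_coe.2 (Finset.mem_range.1 hi))
        · simp only [q, eval₂_add, eval₂_X_pow, eval₂_finsetSum, eval₂_mul, eval₂_pow,
            eval₂_C, eval₂_X, map_mul, map_pow, Subring.coe_subtype]
          have := congrArg ((a (n + 1) : L) ^ n * ·) h
          simp only [mul_zero, Finset.sum_range_succ _ (n + 1), mul_add, Finset.mul_sum] at this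
          rw [← this, add_comm]
          refine congrArg₂ (· + ·) (Finset.sum_congr rfl fun i hi => ?_) ?_
          · obtain ⟨j, hj⟩ := Nat.exists_eq_add_of_le (Nat.lt_succ_iff.1 (Finset.mem_range.1 hi))
            rw [hj, Nat.add_sub_cancel_left, mul_pow, pow_add]
            ring
          · rw [mul_pow, pow_succ, pow_succ]
            ring
      let y : C := ⟨_, hy⟩
      let b : ℕ → C := Function.update a n (y + a n)
      have hb : ∑ i ∈ Finset.range (n + 1), (b i : L) * x ^ i = 0 := by
        rw [Finset.sum_range_succ] at h ⊢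
        rw [Finset.sum_congr rfl (g := fun i => (a i : L) * x ^ i) fun i hi => by
          simp [b, Function.update_of_ne (Finset.mem_range.1 hi).ne]]
        simp only [b, Function.update_self, Subring.coe_add, y]
        rw [Finset.sum_range_succ] at h
        rw [← h, pow_succ]
        ring
      by_cases hbu : ∃ i ≤ n, IsUnit (b i)
      · exact ih b hbu hb
      push Not at hbu
      obtain ⟨i, hi, hiu⟩ := ha
      have hin : i = n := by
        rcases eq_or_lt_of_le hi with rfl | hlt
        · exact absurd hiu hun
        by_contra hne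
        exact hbu i (Nat.lt_succ_iff.1 hlt) (by simpa [b, Function.update_of_ne hne] using hiu)
      subst hin
      have hyu : IsUnit y := by
        by_contra hy'
        have h1 : ¬IsUnit (y + a i) := by simpa [b] using hbu i le_rfl
        have h2 := IsLocalRing.nonunits_add h1 (show -y ∈ nonunits C by simpa [mem_nonunits_iff] using hy')
        rw [add_neg_cancel_comm] at h2
        exact h2 hiu
      right
      obtain ⟨w, hw⟩ := hyu
      have hx : ((↑w⁻¹ : C) : L) * (a (i + 1) : L) * x = 1 := by
        rw [mul_assoc, show (a (i + 1) : L) * x = (y : L) from rfl, ← hw, ← Subring.coe_mul,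
          Units.inv_mul, Subring.coe_one]
      rw [inv_eq_of_mul_eq_one_left hx]
      exact C.mul_mem (SetLike.coe_mem _) (SetLike.coe_mem _)

end Trick

variable {R : Type u} [CommRing R] [IsDomain R] [ValuationRing R] [Ring.KrullDimLE 1 R] {t : R}
  {L : Type v} [Field L] [Algebra R L]

theorem isLocalRing_integralClosure (ht : t ≠ 0) [IsAdicComplete (Ideal.span {t}) R] :
    IsLocalRing (integralClosure R L) :=
  haveI : Algebra.IsIntegral R (integralClosure R L) := integralClosure.AlgebraIsIntegral
  isLocalRing_of_integral_domain ht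

/-- In an algebraic extension every element or its inverse is integral. -/
theorem isIntegral_or_inv (ht : t ≠ 0) [IsAdicComplete (Ideal.span {t}) R] [FaithfulSMul R L]
    {x : L} (hx : IsAlgebraic R x) : IsIntegral R x ∨ IsIntegral R x⁻¹ := by
  obtain ⟨P, hP0, hPx⟩ := hx
  haveI : IsLocalRing (integralClosure R L).toSubring := isLocalRing_integralClosure (L := L) ht
  obtain ⟨j, hj⟩ : ∃ j, P.coeff j ≠ 0 := by
    by_contra h
    push Not at h
    exact hP0 (Polynomial.ext (by simpa using h))
  obtain ⟨c, v, hc, hv, i, hi, hu⟩ := exists_content (fun i => P.coeff i)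
    (Finset.range (P.natDegree + 1)) ⟨j, Finset.mem_range_succ_iff.2 (le_natDegree_of_ne_zero hj), hj⟩
  let a : ℕ → (integralClosure R L).toSubring := fun i =>
    ⟨algebraMap R L (v i), isIntegral_algebraMap⟩
  have hsum : ∑ i ∈ Finset.range (P.natDegree + 1), (a i : L) * x ^ i = 0 := by
    have h1 : algebraMap R L c * ∑ i ∈ Finset.range (P.natDegree + 1), (a i : L) * x ^ i = 0 := by
      rw [Finset.mul_sum, ← hPx, aeval_eq_sum_range]
      exact Finset.sum_congr rfl fun i hi => by
        show algebraMap R L c * (algebraMap R L (v i) * x ^ i) = P.coeff i • x ^ i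
        rw [Algebra.smul_def, hv i hi, map_mul, mul_assoc]
    exact (mul_eq_zero.1 h1).resolve_left
      ((map_ne_zero_iff _ (FaithfulSMul.algebraMap_injective R L)).2 hc)
  have hau : IsUnit (a i) := hu.map ((algebraMap R L).codRestrict _ fun r => isIntegral_algebraMap)
  refine mem_or_inv_mem_of_root (C := (integralClosure R L).toSubring) (fun y q hq hqy => ?_) x
    P.natDegree a ⟨i, Finset.mem_range_succ_iff.1 hi, hau⟩ hsum
  letI : Algebra.IsIntegral R (integralClosure R L) := integralClosure.AlgebraIsIntegral
  exact isIntegral_trans (A := integralClosure R L) y ⟨q, hq, hqy⟩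

/-- The integral closure is a valuation ring. -/
theorem valuationRing_integralClosure (ht : t ≠ 0) [IsAdicComplete (Ideal.span {t}) R]
    [FaithfulSMul R L] [Algebra.IsAlgebraic R L] : ValuationRing (integralClosure R L) := by
  haveI : PreValuationRing (integralClosure R L) := ⟨fun a b => by
    by_cases ha : (a : L) = 0
    · exact ⟨0, Or.inr (by rw [mul_zero]; exact Subtype.ext ha.symm)⟩
    by_cases hb : (b : L) = 0
    · exact ⟨0, Or.inl (by rw [mul_zero]; exact Subtype.ext hb.symm)⟩
    rcases isIntegral_or_inv ht (Algebra.IsAlgebraic.isAlgebraic (R := R) ((b : L) / a)) with h | h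
    · exact ⟨⟨_, h⟩, Or.inl (Subtype.ext (mul_div_cancel₀ _ ha))⟩
    · rw [inv_div] at h
      exact ⟨⟨_, h⟩, Or.inr (Subtype.ext (mul_div_cancel₀ _ hb))⟩⟩
  exact { }

/-- The fraction field of an integral domain integral over `R` is algebraic over `R`. -/
theorem isAlgebraic_fractionRing {B : Type v} [CommRing B] [IsDomain B] [Algebra R B]
    [Algebra.IsIntegral R B] [FaithfulSMul R B] (x : FractionRing B) : IsAlgebraic R x := by
  haveI : Algebra.IsAlgebraic R B := Algebra.IsIntegral.isAlgebraic
  haveI : FaithfulSMul R (FractionRing B) := by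
    rw [faithfulSMul_iff_algebraMap_injective, IsScalarTower.algebraMap_eq R B (FractionRing B)]
    exact (IsFractionRing.injective B (FractionRing B)).comp
      (FaithfulSMul.algebraMap_injective R B)
  haveI : Algebra.IsAlgebraic R (FractionRing B) :=
    (IsFractionRing.isAlgebraic_iff' R B (FractionRing B)).1 inferInstance
  exact Algebra.IsAlgebraic.isAlgebraic x

end Groth.Agent.TopFT
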