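import Mathlib.RingTheory.MvPolynomial.Basic
import Groth.Agent.TopFT.Cpl

/-!
The universal property of a chart of a formal blow-up.
-/

set_option autoImplicit false

namespace Groth.Agent.TopFT

open AdicRing MvPolynomial

universe u v w

variable {R : Type u} [CommRing R] {I : Ideal R} {A : Type v} [CommRing A] [Algebra R A]
  {B : Type w} [CommRing B] [Algebra R B] {ι : Type} (f : ι → A) (i : ι) (φ : A →ₐ[R] B)

theorem chart_hom_ext (hnzd : φ (f i) ∈ nonZeroDivisors B) {g h : chartAlg f i →ₐ[R] B}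
    (hg : ∀ a, g (algebraMap A _ a) = φ a) (hh : ∀ a, h (algebraMap A _ a) = φ a) : g = h := by
  have hX : ∀ (χ : chartAlg f i →ₐ[R] B), (∀ a, χ (algebraMap A _ a) = φ a) →
      ∀ j, χ (Ideal.Quotient.mk _ (X j)) * φ (f i) = φ (f j.1) := fun χ hχ j => by
    rw [← hχ, ← hχ, ← map_mul]
    congr 1
    rw [mul_comm, IsScalarTower.algebraMap_apply A (MvPolynomial {j : ι // j ≠ i} A) (chartAlg f i),
      IsScalarTower.algebraMap_apply A (MvPolynomial {j : ι // j ≠ i} A) (chartAlg f i) (f j.1),
      Ideal.Quotient.algebraMap_eq, ← map_mul, Ideal.Quotient.eq, MvPolynomial.algebraMap_eq]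
    exact Ideal.subset_span ⟨j, rfl⟩
  refine AlgHom.ext fun x => ?_
  obtain ⟨p, rfl⟩ := Ideal.Quotient.mk_surjective x
  induction p using MvPolynomial.induction_on with
  | C a => exact (hg a).trans (hh a).symm
  | add p q hp hq => rw [map_add, map_add, map_add, hp, hq]
  | mul_X p j hp =>
    rw [map_mul, map_mul, map_mul, hp]
    congr 1
    have := (mem_nonZeroDivisors_iff_right.1 hnzd) (g (Ideal.Quotient.mk _ (X j)) -
      h (Ideal.Quotient.mk _ (X j))) (by rw [sub_mul, hX g hg, hX h hh, sub_self])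
    exact sub_eq_zero.1 this

theorem exists_chart_lift (hgen : (Ideal.span (Set.range f)).map φ = Ideal.span {φ (f i)}) :
    ∃ g : chartAlg f i →ₐ[R] B, ∀ a, g (algebraMap A _ a) = φ a := by
  have hc : ∀ j, ∃ c, φ (f j) = c * φ (f i) := fun j => by
    have h : φ (f j) ∈ (Ideal.span (Set.range f)).map φ :=
      Ideal.mem_map_of_mem _ (Ideal.subset_span ⟨j, rfl⟩)
    rw [hgen, Ideal.mem_span_singleton'] at h
    obtain ⟨c, hc⟩ := h
    exact ⟨c, hc.symm⟩
  choose c hc using hc
  letI : Algebra A B := φ.toRingHom.toAlgebra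
  haveI : IsScalarTower R A B := IsScalarTower.of_algebraMap_eq fun r => (φ.commutes r).symm
  let g : chartAlg f i →ₐ[A] B :=
    Ideal.Quotient.liftₐ _ (aeval fun j : {j : ι // j ≠ i} => c j.1) (by
      intro p hp
      refine (Ideal.span_le.2 ?_ : _ ≤ RingHom.ker
        (aeval fun j : {j : ι // j ≠ i} => c j.1 : _ →ₐ[A] B)) hp
      rintro _ ⟨j, rfl⟩
      rw [SetLike.mem_coe, RingHom.mem_ker, map_sub, map_mul, aeval_C, aeval_C, aeval_X, sub_eq_zero,
        mul_comm]
      exact (hc j.1).symm)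
  exact ⟨g.restrictScalars R, fun a => g.commutes a⟩

theorem existsUnique_chartAdm_lift (hI : I.FG) [IsAdicComplete (I.map (algebraMap R B)) B]
    (hnzd : φ (f i) ∈ nonZeroDivisors B)
    (hgen : (Ideal.span (Set.range f)).map φ = Ideal.span {φ (f i)}) :
    ∃! ψ : chartAdm I f i →ₐ[R] B,
      ψ.comp (IsScalarTower.toAlgHom R A (chartAdm I f i)) = φ := by
  obtain ⟨g, hg⟩ := exists_chart_lift f i φ hgen
  let G : chartCompl I f i →ₐ[R] B := cplLift (S := chartAlg f i) hI g
  have hG : ∀ a, G (algebraMap A (chartCompl I f i) a) = φ a := fun a => by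
    rw [IsScalarTower.algebraMap_apply A (chartAlg f i) (chartCompl I f i)]
    exact (cplLift_algebraMap (S := chartAlg f i) hI g _).trans (hg a)
  have hker : (⨆ n : ℕ, Submodule.torsionBy (chartCompl I f i) (chartCompl I f i)
      (algebraMap A (chartCompl I f i) (f i) ^ n) : Ideal (chartCompl I f i)) ≤ RingHom.ker G := by
    refine iSup_le fun n x hx => ?_
    rw [Submodule.mem_torsionBy_iff, smul_eq_mul] at hx
    have := congrArg G hx
    rw [map_mul, map_pow, hG, map_zero] at this
    rw [RingHom.mem_ker]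
    exact (mem_nonZeroDivisors_iff_left.1 (pow_mem hnzd n)) _ this
  refine ⟨Ideal.Quotient.liftₐ _ G fun x hx => hker hx, AlgHom.ext fun a => ?_, fun ψ hψ => ?_⟩
  · exact hG a
  · refine Ideal.Quotient.algHom_ext R (cpl_hom_ext (S := chartAlg f i) hI fun s => ?_)
    show ψ (Ideal.Quotient.mk _ (algebraMap (chartAlg f i) (chartCompl I f i) s)) =
      G (algebraMap (chartAlg f i) (chartCompl I f i) s)
    have := chart_hom_ext f i φ hnzd (h := g)
      (g := (ψ.comp (Ideal.Quotient.mkₐ R _)).comp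
        (IsScalarTower.toAlgHom R (chartAlg f i) (chartCompl I f i))) (fun a => ?_) hg
    · exact (DFunLike.congr_fun this s).trans (cplLift_algebraMap (S := chartAlg f i) hI g s).symm
    · exact DFunLike.congr_fun hψ a

end Groth.Agent.TopFT
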