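import Mathlib.FieldTheory.IsAlgClosed.AlgebraicClosure
import Mathlib.RingTheory.Polynomial.Basic
import Mathlib.Algebra.Polynomial.Lifts
import Groth.Agent.TopFT.ModT

/-!
Every closed point of the special fibre of affine space is the specialization of a rig-point.
-/

set_option autoImplicit false

namespace Groth.Agent.TopFT

open AdicRing

universe u v

section ResidueClosed

variable {R : Type u} [CommRing R] {L : Type v} [Field L] [IsAlgClosed L] [Algebra R L]

theorem isAlgClosed_residueField_integralClosure [IsLocalRing (integralClosure R L)] :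
    IsAlgClosed (IsLocalRing.ResidueField (integralClosure R L)) := by
  refine IsAlgClosed.of_exists_root _ fun p hp hirr => ?_
  haveI : Algebra.IsIntegral R (integralClosure R L) := integralClosure.AlgebraIsIntegral
  obtain ⟨q, hq, hqd, hqm⟩ := Polynomial.lifts_and_degree_eq_and_monic
    (f := IsLocalRing.residue (integralClosure R L))
    (Polynomial.map_surjective _ IsLocalRing.residue_surjective p) hp
  have hdeg : (q.map (algebraMap (integralClosure R L) L)).degree ≠ 0 := by
    rw [hqm.degree_map, hqd]
    exact (Polynomial.degree_pos_of_irreducible hirr).ne'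
  obtain ⟨x, hx⟩ := IsAlgClosed.exists_root _ hdeg
  rw [Polynomial.IsRoot, Polynomial.eval_map] at hx
  have hint : IsIntegral R x := isIntegral_trans (A := integralClosure R L) x ⟨q, hqm, hx⟩
  refine ⟨IsLocalRing.residue _ ⟨x, hint⟩, ?_⟩
  rw [← hq, Polynomial.eval_map, Polynomial.eval₂_at_apply]
  have h0 : q.eval (⟨x, hint⟩ : integralClosure R L) = 0 := by
    refine Subtype.ext ?_
    have := Polynomial.eval₂_at_apply (p := q) (algebraMap (integralClosure R L) L) ⟨x, hint⟩
    exact this.symm.trans hx
  rw [h0, map_zero]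

end ResidueClosed

variable {R : Type u} [CommRing R] [IsDomain R] [ValuationRing R] [Ring.KrullDimLE 1 R] {t : R}

/-- The specialisation map is surjective on closed points. -/
theorem exists_prime_le_maximal (ht : t ≠ 0) [IsAdicComplete (Ideal.span {t}) R] (n : ℕ)
    (m : Ideal (RPow R (Ideal.span {t}) n)) [m.IsMaximal]
    (hm : algebraMap R (RPow R (Ideal.span {t}) n) t ∈ m) :
    ∃ p : Ideal (RPow R (Ideal.span {t}) n), p.IsPrime ∧ p ≤ m ∧
      algebraMap R (RPow R (Ideal.span {t}) n) t ∉ p ∧
      ringKrullDim (RPow R (Ideal.span {t}) n ⧸ p) = 1 := by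
  classical
  have hR := isBase_span (R := R) ht
  let P := RPow R (Ideal.span {t}) n
  have hP : TopFiniteType R (Ideal.span {t}) P := ⟨n, AlgHom.id R P, Function.surjective_id⟩
  -- the residue field of `m`
  letI := Ideal.Quotient.field m
  haveI : Algebra.FiniteType R (P ⧸ m) := by
    have hle : ((Ideal.span {t}) ^ 1).map (algebraMap R P) ≤ m := by
      rw [Ideal.map_le_iff_le_comap, pow_one, Ideal.span_singleton_le_iff_mem]
      exact hm
    exact (finiteType_trunc (ideal_fg hR) hP 1).of_surjective (Ideal.Quotient.factorₐ R hle)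
      (Ideal.Quotient.factor_surjective hle)
  have hmR : ∀ r ∈ IsLocalRing.maximalIdeal R, algebraMap R (P ⧸ m) r = 0 := fun r hr => by
    obtain ⟨k, hk⟩ := exists_dvd_pow_of_mem ht hr
    obtain ⟨c, hc⟩ := hk
    have : algebraMap R (P ⧸ m) r ^ k = 0 := by
      rw [← map_pow, hc, map_mul, IsScalarTower.algebraMap_apply R P (P ⧸ m) t,
        Ideal.Quotient.algebraMap_eq, Ideal.Quotient.eq_zero_iff_mem.2 hm, zero_mul]
    exact eq_zero_of_pow_eq_zero this
  let k := IsLocalRing.ResidueField R
  letI : Algebra k (P ⧸ m) :=
    (Ideal.Quotient.lift (IsLocalRing.maximalIdeal R) (algebraMap R (P ⧸ m)) hmR).toAlgebra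
  haveI : IsScalarTower R k (P ⧸ m) := IsScalarTower.of_algebraMap_eq fun r => rfl
  haveI : Algebra.FiniteType k (P ⧸ m) := Algebra.FiniteType.of_restrictScalars_finiteType R k _
  haveI : Module.Finite k (P ⧸ m) := finite_of_finite_type_of_isJacobsonRing k (P ⧸ m)
  -- the integral closure in an algebraic closure
  let L := AlgebraicClosure (FractionRing R)
  let C := integralClosure R L
  haveI : IsLocalRing C := isLocalRing_integralClosure (L := L) ht
  haveI : Algebra.IsIntegral R C := integralClosure.AlgebraIsIntegral
  haveI : FaithfulSMul R L := by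
    rw [faithfulSMul_iff_algebraMap_injective, IsScalarTower.algebraMap_eq R (FractionRing R) L]
    exact (algebraMap (FractionRing R) L).injective.comp
      (IsFractionRing.injective R (FractionRing R))
  haveI : FaithfulSMul R C := by
    rw [faithfulSMul_iff_algebraMap_injective]
    exact fun a b h => FaithfulSMul.algebraMap_injective R L (congrArg Subtype.val h)
  let kc := IsLocalRing.ResidueField C
  haveI : IsAlgClosed kc := isAlgClosed_residueField_integralClosure
  letI : Algebra k kc := (IsLocalRing.ResidueField.map (algebraMap R C)).toAlgebra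
  haveI : IsScalarTower R k kc := IsScalarTower.of_algebraMap_eq fun r => rfl
  haveI : Algebra.IsAlgebraic k (P ⧸ m) := Algebra.IsAlgebraic.of_finite k _
  let σ : (P ⧸ m) →ₐ[k] kc := IsAlgClosed.lift
  choose z hz using fun i : Fin n => IsLocalRing.residue_surjective
    (σ (Ideal.Quotient.mk m (algebraMap (MvPolynomial (Fin n) R) P (MvPolynomial.X i))))
  -- the finite algebra generated by the lifts
  let E := Algebra.adjoin R (Set.range z)
  haveI : Module.Finite R E := Algebra.finite_adjoin_of_finite_of_isIntegral (Set.finite_range z)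
    fun x _ => Algebra.IsIntegral.isIntegral x
  haveI : IsAdicComplete ((Ideal.span {t}).map (algebraMap R E)) E := isAdicComplete_map_finite ht
  obtain ⟨φ, hφ⟩ := exists_rPow_lift (I := Ideal.span {t}) (ideal_fg hR)
    (fun i => (⟨z i, Algebra.subset_adjoin ⟨i, rfl⟩⟩ : E))
  have htE : algebraMap R E t ≠ 0 := fun h =>
    ht (FaithfulSMul.algebraMap_injective R L ((congrArg (fun x : E => ((x : C) : L)) h).trans
      (map_zero _).symm))
  let ρ : E →ₐ[R] kc := (IsScalarTower.toAlgHom R C kc).comp E.val
  have htk : algebraMap R kc t = 0 := by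
    rw [IsScalarTower.algebraMap_apply R k kc,
      show algebraMap R k t = 0 from Ideal.Quotient.eq_zero_iff_mem.2 mem_maximalIdeal_self, map_zero]
  have hcomp : ρ.comp φ = (σ.restrictScalars R).comp (Ideal.Quotient.mkₐ R m) := by
    refine rPow_hom_ext_mod _ _ htk fun i => ?_
    show ρ (φ _) = σ (Ideal.Quotient.mk m _)
    rw [hφ, MvPolynomial.aeval_X, ← hz]
    rfl
  refine ⟨RingHom.ker φ.toRingHom, RingHom.ker_isPrime _, fun F hF => ?_, fun h => ?_, ?_⟩
  · rw [← Ideal.Quotient.eq_zero_iff_mem]
    apply σ.toRingHom.injective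
    rw [map_zero]
    have h0 := DFunLike.congr_fun hcomp F
    rw [AlgHom.comp_apply, show φ F = 0 from hF, map_zero] at h0
    exact h0.symm
  · exact htE ((φ.commutes t).symm.trans h)
  · have hTE : NoPowTorsion (Ideal.span {t}) E := noPowTorsion_iff_smul.2 fun x hx => by
      rw [Algebra.smul_def] at hx
      exact (mul_eq_zero.1 hx).resolve_left htE
    rw [← (range_admissible ht hTE hP φ).2.2]
    exact ringKrullDim_eq_of_ringEquiv (Ideal.quotientKerEquivRange φ).toRingEquiv

end Groth.Agent.TopFT
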